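import Cfsg.Agent.FGS2.Basic
import Cfsg.Agent.PLocal.Functors
import Cfsg.Agent.Core.ThompsonFPF
import Cfsg.Agent.FusionZJ.Offender
import Cfsg.Agent.Transfer.Burnside
import Mathlib.Tactic.Group

/-!
# Normal subgroups all of whose noncentral elements have maximal centralizers
-/

set_option autoImplicit false
set_option linter.style.haveILetI false
set_option linter.unusedSectionVars false

namespace Cfsg.Agent.FGS2.MaxCentralizer

open Cfsg Subgroup
open scoped commutatorElement Pointwise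

variable {G : Type*} [Group G] [Finite G]

/-- The centralizer of an element. -/
abbrev cen (x : G) : Subgroup G := centralizer ({x} : Set G)

theorem mem_cen {x g : G} : g ∈ cen x ↔ g * x = x * g := mem_centralizer_singleton_iff

theorem cen_le_cen_pow (x : G) (k : ℕ) : cen x ≤ cen (x ^ k) := fun _ hg =>
  mem_cen.2 ((Commute.pow_right (mem_cen.1 hg) k).eq)

/-- A pair of elements of coprime orders whose commutator is central commutes. -/
theorem commute_of_central_commutator {a b : G} (hab : (orderOf a).Coprime (orderOf b))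
    (ha : Commute a (a * b * a⁻¹ * b⁻¹)) (hb : Commute b (a * b * a⁻¹ * b⁻¹)) : Commute a b := by
  set t := a * b * a⁻¹ * b⁻¹ with ht
  have h1 : a * b * a⁻¹ = t * b := by rw [ht]; group
  have h2 : t ^ orderOf b = 1 := by
    have h := congrArg (· ^ orderOf b) h1
    simp only [conj_pow, hb.symm.mul_pow, pow_orderOf_eq_one, mul_one, mul_inv_cancel] at h
    exact h.symm
  have h3 : ∀ n : ℕ, a ^ n * b * (a ^ n)⁻¹ = t ^ n * b := by
    intro n
    induction n with
    | zero => simp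
    | succ n ih =>
      calc a ^ (n + 1) * b * (a ^ (n + 1))⁻¹ = a * (a ^ n * b * (a ^ n)⁻¹) * a⁻¹ := by
            rw [pow_succ']; group
        _ = a * t ^ n * (b * a⁻¹) := by rw [ih]; group
        _ = t ^ n * (a * b * a⁻¹) := by rw [(ha.pow_right n).eq]; group
        _ = t ^ (n + 1) * b := by rw [h1, pow_succ]; group
  have h4 : t ^ orderOf a = 1 := by
    have := h3 (orderOf a)
    rw [pow_orderOf_eq_one, one_mul, inv_one, mul_one] at this
    exact right_eq_mul.1 this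
  have h5 : t = 1 := orderOf_eq_one_iff.1
    (Nat.eq_one_of_dvd_coprimes hab (orderOf_dvd_of_pow_eq_one h4) (orderOf_dvd_of_pow_eq_one h2))
  rw [h5, one_mul] at h1
  exact mul_inv_eq_iff_eq_mul.1 h1

/-- In a group of prime power index over a normal proper subgroup, the powers and commutators lie in
a proper subgroup. -/
theorem frattini_like {P : Type*} [Group P] [Finite P] [Group.IsNilpotent P] {r : ℕ} (hr : r.Prime)
    {D : Subgroup P} (hD : D ≠ ⊤) (hp : ∀ g : P, ∃ k : ℕ, g ^ r ^ k ∈ D) :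
    ∃ M : Subgroup P, M ≠ ⊤ ∧ D ≤ M ∧ (∀ a : P, a ^ r ∈ M) ∧ ∀ a b : P, a * b * a⁻¹ * b⁻¹ ∈ M := by
  obtain ⟨M, hM, hDM⟩ := (eq_top_or_exists_le_coatom D).resolve_left hD
  haveI hMn : M.Normal := NormalizerCondition.normal_of_coatom M Group.normalizerCondition_of_isNilpotent hM
  haveI : Fact r.Prime := ⟨hr⟩
  have hQ : ∀ H : Subgroup (P ⧸ M), H = ⊥ ∨ H = ⊤ := by
    intro H
    have h := hM.le_iff.1 (show M ≤ H.comap (QuotientGroup.mk' M) from
      (QuotientGroup.ker_mk' M).symm.le.trans (MonoidHom.ker_le_comap _ _))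
    rcases h with h | h
    · right
      refine comap_injective (QuotientGroup.mk'_surjective M) ?_
      rw [h, comap_top]
    · left
      refine comap_injective (QuotientGroup.mk'_surjective M) ?_
      rw [h, MonoidHom.comap_bot, QuotientGroup.ker_mk']
  have hnt : Nontrivial (P ⧸ M) := by
    obtain ⟨g, hg⟩ := SetLike.exists_not_mem_of_ne_top M hM.1
    exact ⟨⟨(g : P ⧸ M), 1, fun h => hg ((QuotientGroup.eq_one_iff g).1 h)⟩⟩
  have hP : IsPGroup r (P ⧸ M) := by
    intro q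
    obtain ⟨g, rfl⟩ := QuotientGroup.mk'_surjective M q
    obtain ⟨k, hk⟩ := hp g
    exact ⟨k, by rw [← map_pow]; exact (QuotientGroup.eq_one_iff _).2 (hDM hk)⟩
  obtain ⟨n, hn, hc⟩ := hP.nontrivial_iff_card.1 hnt
  obtain ⟨e, he⟩ := exists_prime_orderOf_dvd_card' r (G := P ⧸ M) (hc ▸ dvd_pow_self r hn.ne')
  have he1 : e ≠ 1 := fun h => hr.ne_one (by rw [← he, h, orderOf_one])
  have hgen : zpowers e = ⊤ := (hQ _).resolve_left (zpowers_ne_bot.2 he1)
  have hcard : Nat.card (P ⧸ M) = r := by rw [← card_top, ← hgen, Nat.card_zpowers, he]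
  haveI : IsCyclic (P ⧸ M) := isCyclic_of_prime_card hcard
  refine ⟨M, hM.1, hDM, fun a => ?_, fun a b => ?_⟩
  · rw [← QuotientGroup.eq_one_iff, QuotientGroup.mk_pow, ← hcard]
    exact pow_card_eq_one'
  · rw [← QuotientGroup.eq_one_iff]
    simp only [QuotientGroup.mk_mul, QuotientGroup.mk_inv]
    rw [mul_comm' (a : P ⧸ M) b]
    group

/-- A central element of `U` lies in `Z(J(U))`. -/
theorem mem_centerThompsonAOf {U : Subgroup G} {y : G} (hy : y ∈ U) (hc : ∀ u ∈ U, u * y = y * u) :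
    y ∈ centerThompsonAOf U := by
  obtain ⟨B, hB⟩ := FusionZJ.exists_isMaxAb U
  have hJU : thompsonSubgroupAOf U ≤ U := map_subtype_le _
  refine mem_inf.2 ⟨FusionZJ.le_thompsonA hB ?_, mem_centralizer_iff.2 fun u hu => hc u (hJU hu)⟩
  by_contra hyB
  have hcomm : ∀ b ∈ B, b * y = y * b := fun b hb => hc b (hB.le hb)
  have hle : B ⊔ zpowers y ≤ U := sup_le hB.le (zpowers_le.2 hy)
  have hab : ∀ a ∈ B ⊔ zpowers y, ∀ b ∈ B ⊔ zpowers y, a * b = b * a := by
    have h : B ⊔ zpowers y ≤ centralizer ((B ⊔ zpowers y : Subgroup G) : Set G) := by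
      rw [le_centralizer_iff]
      refine sup_le ?_ ?_ <;> rw [le_centralizer_iff] <;> refine sup_le ?_ ?_
      · intro a ha; exact mem_centralizer_iff.2 fun b hb => hB.comm b hb a ha
      · exact zpowers_le.2 (mem_centralizer_iff.2 hcomm)
      · intro a ha
        refine mem_centralizer_iff.2 fun b hb => ?_
        obtain ⟨i, rfl⟩ := mem_zpowers_iff.1 hb
        exact ((show Commute y a from (hcomm a ha).symm).zpow_left i).eq
      · exact zpowers_le.2 (mem_centralizer_iff.2 fun b hb => by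
          obtain ⟨i, rfl⟩ := mem_zpowers_iff.1 hb
          exact ((Commute.refl y).zpow_left i).eq)
    exact fun a ha b hb => (mem_centralizer_iff.1 (h ha) b hb).symm
  have hlt : B < B ⊔ zpowers y := lt_of_le_of_ne le_sup_left fun h =>
    hyB (h ▸ mem_sup_right (mem_zpowers y))
  exact absurd (hB.max _ hle hab) (not_le.2 (Set.ncard_lt_ncard (SetLike.coe_ssubset_coe.2 hlt)))

variable (N : Subgroup G)

/-- A noncentral element of `N`. -/
def NC (x : G) : Prop := x ∈ N ∧ x ∉ centralizer (N : Set G)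

variable {N}

theorem cen_ne_top {x : G} (hx : NC N x) : cen x ≠ ⊤ := fun h => hx.2
  (mem_centralizer_iff.2 fun n _ => mem_cen.1 (h ▸ mem_top n))

/-- Some power of prime power order of a noncentral element is noncentral. -/
theorem exists_prime_power {x : G} (hx : NC N x) :
    ∃ (q k : ℕ), q.Prime ∧ NC N (x ^ k) ∧ ∃ b, orderOf (x ^ k) = q ^ b := by
  by_contra hcon
  have h : zpowers x ≤ centralizer (N : Set G) := le_of_prime_power_mem (fun z hz hzp => by
    obtain ⟨q, b, hq, hb⟩ := hzp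
    obtain ⟨k, rfl⟩ := mem_powers_iff_mem_zpowers.2 hz
    by_contra hzN
    exact hcon ⟨q, k, hq, ⟨N.pow_mem hx.1 k, hzN⟩, b, hb⟩)
  exact hx.2 (h (mem_zpowers x))

section

variable [hN : N.Normal] (h : ∀ x : G, NC N x → IsCoatom (cen x))
include h

theorem eq_of_cen_le {x y : G} (hx : NC N x) (hy : NC N y) (hle : cen x ≤ cen y) : cen x = cen y :=
  ((h x hx).le_iff.1 hle).resolve_left (cen_ne_top hy) |>.symm

theorem cen_pow {x : G} (hx : NC N x) {k : ℕ} (hk : NC N (x ^ k)) : cen x = cen (x ^ k) :=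
  eq_of_cen_le h hx hk (cen_le_cen_pow x k)

theorem cen_eq_of_coprime {x y : G} (hx : NC N x) (hy : NC N y) (hc : Commute x y)
    (ho : (orderOf x).Coprime (orderOf y)) : cen x = cen y := by
  have hpow : ∀ {a b : G}, Commute a b → (orderOf a).Coprime (orderOf b) →
      ∃ k, a = (a * b) ^ k := by
    intro a b hab hco
    obtain ⟨m, hm⟩ := exists_pow_eq_self_of_coprime hco.symm
    refine ⟨orderOf b * m, ?_⟩
    rw [pow_mul, hab.mul_pow, pow_orderOf_eq_one, mul_one, hm]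
  obtain ⟨k, hk⟩ := hpow hc ho
  obtain ⟨l, hl⟩ := hpow hc.symm ho.symm
  have hnc : NC N (x * y) := ⟨mul_mem hx.1 hy.1, fun hz => hx.2 (hk ▸ pow_mem hz k)⟩
  rw [← hc.eq] at hl
  have e1 := cen_pow h hnc (k := k) (by rw [← hk]; exact hx)
  have e2 := cen_pow h hnc (k := l) (by rw [← hl]; exact hy)
  rw [← hk] at e1
  rw [← hl] at e2
  exact e1.symm.trans e2

/-- The centralizer in `N` of a noncentral `p`-element is nilpotent. -/
theorem nilpotent_cen {p : ℕ} (hp : p.Prime) {y : G} (hy : NC N y) {b : ℕ} (hb : orderOf y = p ^ b) :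
    Group.IsNilpotent ↥(cen y ⊓ N) := by
  haveI : Fact p.Prime := ⟨hp⟩
  set D := cen y ⊓ N
  -- elements of order prime to `p` are central in `D`
  have hcentral : ∀ v ∈ D, (orderOf v).Coprime p → D ≤ cen v := by
    have key : ∀ v ∈ D, (∃ q a : ℕ, q.Prime ∧ orderOf v = q ^ a) → (orderOf v).Coprime p →
        D ≤ cen v := by
      intro v hv _ hvp
      by_cases hvZ : v ∈ centralizer (N : Set G)
      · exact fun g hg => mem_cen.2 (mem_centralizer_iff.1 hvZ g (mem_inf.1 hg).2)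
      · rw [← cen_eq_of_coprime h hy ⟨(mem_inf.1 hv).2, hvZ⟩ (mem_cen.1 (mem_inf.1 hv).1).symm
          (hb ▸ (hvp.pow_right b).symm)]
        exact inf_le_left
    intro v hv hvp g hg
    have hle : zpowers v ≤ cen g := le_of_prime_power_mem (fun z hz hzp => by
      refine mem_cen.2 (mem_cen.1 (key z (zpowers_le.2 hv hz) hzp ?_ hg)).symm
      exact hvp.coprime_dvd_left (orderOf_dvd_of_mem_zpowers hz))
    exact mem_cen.2 (mem_cen.1 (hle (mem_zpowers v))).symm
  refine Group.of_quotient_center_nilpotent (IsPGroup.isNilpotent (p := p) ?_)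
  intro q
  obtain ⟨d, rfl⟩ := QuotientGroup.mk'_surjective _ q
  refine ⟨(orderOf d).factorization p, ?_⟩
  rw [← map_pow]
  refine (QuotientGroup.eq_one_iff _).2 (mem_center_iff.2 fun g => Subtype.ext ?_)
  have hcop : (orderOf ((d : G) ^ p ^ (orderOf d).factorization p)).Coprime p := by
    rw [orderOf_pow, orderOf_coe, Nat.gcd_eq_right (Nat.ordProj_dvd _ _)]
    exact (Nat.coprime_ordCompl hp (orderOf_pos d).ne').symm
  exact mem_cen.1 (hcentral _ (pow_mem d.2 _) hcop g.2)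

theorem normalizer_eq_of_le {X : Subgroup G} {y : G} (hy : NC N y) (hn : ¬ X.Normal)
    (hle : cen y ≤ normalizer (X : Set G)) : normalizer (X : Set G) = cen y :=
  ((h y hy).le_iff.1 hle).resolve_left fun e => hn (normalizer_eq_top_iff.1 e)

/-- If all normal `p`-subgroups inside `N` are central, then `N` is central-by-itself. -/
theorem exists_normal_pgroup (hna : ¬ N ≤ centralizer (N : Set G)) :
    ∃ (r : ℕ) (F : Subgroup G), r.Prime ∧ F.Normal ∧ F ≤ N ∧ IsPGroup r F ∧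
      ¬ F ≤ centralizer (N : Set G) := by
  by_contra hcon
  have hall : ∀ (r : ℕ) (F : Subgroup G), r.Prime → F.Normal → F ≤ N → IsPGroup r F →
      F ≤ centralizer (N : Set G) := fun r F hr hF hFN hP => by
    by_contra hc; exact hcon ⟨r, F, hr, hF, hFN, hP, hc⟩
  -- normal `p`-complements for odd `p`
  have hcompl : ∀ p : ℕ, p.Prime → p ≠ 2 → HasNormalPComplement p N := by
    intro p hp hp2
    haveI : Fact p.Prime := ⟨hp⟩
    let P : Sylow p N := default
    by_cases hPz : ∀ v ∈ (P : Subgroup N), (v : G) ∈ centralizer (N : Set G)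
    · refine Transfer.hasNormalPComplement_of_normalizer_le_centralizer P ?_
      intro g _
      exact mem_centralizer_iff.2 fun v hv =>
        Subtype.ext (mem_centralizer_iff.1 (hPz v hv) g g.2).symm
    push Not at hPz
    obtain ⟨v₀, hv₀, hv₀Z⟩ := hPz
    -- Sylow subgroups attached to noncentral `p`-elements
    obtain ⟨b, hb⟩ := IsPGroup.iff_orderOf.1 P.isPGroup' ⟨v₀, hv₀⟩
    rw [orderOf_mk, ← orderOf_coe] at hb
    have hy : NC N (v₀ : G) := ⟨v₀.2, hv₀Z⟩
    set D := (cen (v₀ : G) ⊓ N).subgroupOf N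
    haveI : Group.IsNilpotent ↥(cen (v₀ : G) ⊓ N) := nilpotent_cen h hp hy hb
    haveI hDnil : Group.IsNilpotent ↥D :=
      (Group.isNilpotent_congr (subgroupOfEquivOfLe (inf_le_right : cen (v₀ : G) ⊓ N ≤ N)).symm).1 inferInstance
    let S : Sylow p D := default
    haveI hSn : (S : Subgroup D).Normal :=
      Sylow.normal_of_normalizerCondition Group.normalizerCondition_of_isNilpotent S
    have hSall : ∀ v : N, v ∈ D → (∃ k, orderOf v = p ^ k) → v ∈ (S : Subgroup D).map D.subtype := by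
      intro v hv ⟨k, hk⟩
      have hpg : IsPGroup p (zpowers (⟨v, hv⟩ : D)) :=
        IsPGroup.of_card (n := k) (by rw [Nat.card_zpowers, orderOf_mk, hk])
      obtain ⟨T, hT⟩ := hpg.exists_le_sylow
      rw [Sylow.unique_of_normal S hSn |>.uniq T] at hT
      exact ⟨⟨v, hv⟩, hT (mem_zpowers _), rfl⟩
    set S₁ := (S : Subgroup D).map D.subtype
    set S₀ := S₁.map N.subtype
    have hS₁p : IsPGroup p S₁ := S.isPGroup'.map _
    have hS₁D : S₁ ≤ D := map_subtype_le _
    have hyS : (v₀ : G) ∈ S₀ := ⟨v₀, hSall v₀ (mem_subgroupOf.2 ⟨mem_cen.2 rfl, v₀.2⟩)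
      ⟨b, by rw [← orderOf_coe]; exact hb⟩, rfl⟩
    have hmemS₀ : ∀ v : G, v ∈ S₀ → v ∈ cen (v₀ : G) ∧ v ∈ N ∧ ∃ k, orderOf v = p ^ k := by
      rintro _ ⟨v, hv, rfl⟩
      obtain ⟨k, hk⟩ := IsPGroup.iff_orderOf.1 hS₁p ⟨v, hv⟩
      rw [orderOf_mk] at hk
      exact ⟨(mem_inf.1 (mem_subgroupOf.1 (hS₁D hv))).1, v.2, k, (orderOf_coe v).trans hk⟩
    have hcenS : cen (v₀ : G) ≤ normalizer (S₀ : Set G) := by
      refine fun g hg => mem_normalizer_iff.2 fun v => ?_
      have key : ∀ g ∈ cen (v₀ : G), ∀ v ∈ S₀, g * v * g⁻¹ ∈ S₀ := by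
        intro g hg v hv
        obtain ⟨hvc, hvN, k, hk⟩ := hmemS₀ v hv
        have hm : g * v * g⁻¹ ∈ N := hN.conj_mem v hvN g
        refine ⟨⟨_, hm⟩, hSall _ (mem_subgroupOf.2 ⟨?_, hm⟩) ⟨k, ?_⟩, rfl⟩
        · exact mul_mem (mul_mem hg hvc) ((cen _).inv_mem hg)
        · rw [← orderOf_coe]
          show orderOf (MulAut.conj g v) = _
          rw [MulEquiv.orderOf_eq, hk]
      refine ⟨key g hg v, fun hv => ?_⟩
      have := key g⁻¹ ((cen _).inv_mem hg) _ hv
      simpa [mul_assoc] using this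
    have hS₀p : IsPGroup p S₀ := hS₁p.map _
    have hnn : ¬ S₀.Normal := fun hn => hv₀Z (hall p S₀ hp hn (map_subtype_le _) hS₀p hyS)
    have hnorm := normalizer_eq_of_le h hy hnn hcenS
    -- `S₁` is a Sylow subgroup of `N`
    obtain ⟨T, hT⟩ := hS₁p.exists_le_sylow
    have hTS : (T : Subgroup N) = S₁ := by
      refine le_antisymm ?_ hT
      by_contra hlt
      haveI : Group.IsNilpotent T := T.isPGroup'.isNilpotent
      have hlt' : S₁.subgroupOf T < ⊤ := lt_top_iff_ne_top.2 fun e => hlt (subgroupOf_eq_top.1 e)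
      obtain ⟨t, ht, htn⟩ := SetLike.exists_of_lt (Group.normalizerCondition_of_isNilpotent _ hlt')
      have htN : ((t : N) : G) ∈ normalizer (S₀ : Set G) := by
        refine mem_normalizer_iff.2 fun v => ?_
        have hk : ∀ w : N, w ∈ S₁ ↔ (t : N) * w * (t : N)⁻¹ ∈ S₁ := by
          intro w
          constructor
          · intro hw
            have := (mem_normalizer_iff.1 ht ⟨w, hT hw⟩).1 hw
            exact this
          · intro hw
            have hwT : w ∈ (T : Subgroup N) := by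
              have := mul_mem (mul_mem (inv_mem t.2) (hT hw)) t.2
              simpa [mul_assoc] using this
            exact (mem_normalizer_iff.1 ht ⟨w, hwT⟩).2 hw
        constructor
        · rintro ⟨w, hw, rfl⟩
          exact ⟨_, (hk w).1 hw, rfl⟩
        · rintro ⟨w, hw, hwe⟩
          refine ⟨(t : N)⁻¹ * w * t, ?_, ?_⟩
          · exact (hk _).2 (by simpa [mul_assoc] using hw)
          · show (((t : N)⁻¹ * w * t : N) : G) = v
            push_cast
            rw [show (w : G) = _ from hwe]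
            group
      rw [hnorm] at htN
      obtain ⟨k, hk⟩ := IsPGroup.iff_orderOf.1 T.isPGroup' t
      exact htn (hSall _ (mem_subgroupOf.2 ⟨htN, (t : N).2⟩) ⟨k, by rw [← hk]; exact orderOf_coe t⟩)
    -- `Z(J(S₀))` contains `v₀`
    have hv₀c : ∀ u ∈ S₀, u * (v₀ : G) = (v₀ : G) * u := fun u hu => mem_cen.1 (hmemS₀ u hu).1
    set X := centerThompsonAOf S₀
    have hXS : X ≤ S₀ := PLocal.centerThompsonAOf_le S₀
    have hXn : ¬ X.Normal := fun hn => hv₀Z
      (hall p X hp hn (hXS.trans (map_subtype_le _)) (hS₀p.to_le hXS)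
        (mem_centerThompsonAOf hyS hv₀c))
    have hcenX : cen (v₀ : G) ≤ normalizer (X : Set G) := by
      intro g hg
      have h1 : S₀.map (MulAut.conj g).toMonoidHom = S₀ := by
        ext v
        rw [mem_map]
        constructor
        · rintro ⟨w, hw, rfl⟩
          exact (mem_normalizer_iff.1 (hcenS hg) w).1 hw
        · intro hv
          refine ⟨g⁻¹ * v * g, (mem_normalizer_iff.1 (hcenS hg) _).2 (by simpa [mul_assoc] using hv), ?_⟩
          show g * (g⁻¹ * v * g) * g⁻¹ = v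
          group
      have h2 := PLocal.centerThompsonAOf_map (MulAut.conj g).toMonoidHom (U := S₀)
        (MulAut.conj g).injective.injOn
      rw [h1] at h2
      refine mem_normalizer_iff.2 fun v => ?_
      constructor
      · intro hv
        exact (show (MulAut.conj g).toMonoidHom v ∈ X from h2.le ⟨v, hv, rfl⟩)
      · intro hv
        obtain ⟨w, hw, hwe⟩ := h2.ge (show g * v * g⁻¹ ∈ X from hv)
        rwa [← show w = v from (MulAut.conj g).injective hwe]
    have hnX := normalizer_eq_of_le h hy hXn hcenX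
    refine PLocal.IsPFunctor.hasNormalPComplement hp2 (PLocal.isPFunctor_centerThompsonA hp2) T ?_
    show HasNormalPComplement p ↥(normalizer (centerThompsonAOf (T : Subgroup N) : Set N))
    have hmapX : (centerThompsonAOf (T : Subgroup N)).map N.subtype = X := by
      rw [PLocal.centerThompsonAOf_map N.subtype N.subtype_injective.injOn, hTS]
    have hle : normalizer (centerThompsonAOf (T : Subgroup N) : Set N) ≤ D := by
      intro n hn
      refine mem_subgroupOf.2 ⟨hnX ▸ mem_normalizer_iff.2 fun v => ?_, n.2⟩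
      rw [← hmapX]
      constructor
      · rintro ⟨w, hw, rfl⟩
        exact ⟨_, (mem_normalizer_iff.1 hn w).1 hw, rfl⟩
      · rintro ⟨w, hw, hwe⟩
        refine ⟨n⁻¹ * w * n, (mem_normalizer_iff.1 hn _).2 (by simpa [mul_assoc] using hw), ?_⟩
        show ((n⁻¹ * w * n : N) : G) = v
        push_cast
        rw [show (w : G) = _ from hwe]
        group
    exact Transfer.hasNormalPComplement_of_le hle Core.ThompsonFPF.hasNormalPComplement_of_isNilpotent
  -- elements of odd order prime to `p` form a normal subgroup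
  have hK : ∀ p : ℕ, p.Prime → p ≠ 2 → ∃ K : Subgroup N, K.Normal ∧
      ∀ v : N, v ∈ K ↔ ¬ p ∣ orderOf v := by
    intro p hp hp2
    haveI : Fact p.Prime := ⟨hp⟩
    obtain ⟨K, hKn, hKc, k, hk⟩ := Transfer.hasNormalPComplement_iff_exists.1 (hcompl p hp hp2)
    haveI := hKn
    refine ⟨K, hKn, fun v => ⟨fun hv hd => ?_, fun hd => ?_⟩⟩
    · have h1 := hd.trans (Subgroup.orderOf_dvd_natCard K hv)
      exact hp.coprime_iff_not_dvd.1 hKc.symm h1
    · rw [← QuotientGroup.eq_one_iff, ← orderOf_eq_one_iff]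
      refine Nat.eq_one_of_dvd_coprimes (((hp.coprime_iff_not_dvd).2 hd).pow_left k) ?_
        (orderOf_map_dvd (QuotientGroup.mk' K) v)
      rw [← hk, index_eq_card]
      exact orderOf_dvd_natCard _
  let T2 : Subgroup G :=
    { carrier := {v | v ∈ N ∧ ∀ p : ℕ, p.Prime → p ≠ 2 → ¬ p ∣ orderOf v}
      mul_mem' := fun {a b} ha hb => ⟨N.mul_mem ha.1 hb.1, fun p hp hp2 => by
        obtain ⟨K, -, hKm⟩ := hK p hp hp2
        have h1 := (hKm ⟨a, ha.1⟩).2 (by rw [orderOf_mk]; exact ha.2 p hp hp2)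
        have h2 := (hKm ⟨b, hb.1⟩).2 (by rw [orderOf_mk]; exact hb.2 p hp hp2)
        have h3 := (hKm _).1 (K.mul_mem h1 h2)
        rwa [← orderOf_coe] at h3⟩
      one_mem' := ⟨N.one_mem, fun p hp _ => by simpa [orderOf_one] using hp.not_dvd_one⟩
      inv_mem' := fun {a} ha => ⟨N.inv_mem ha.1, fun p hp hp2 => by
        rw [orderOf_inv]; exact ha.2 p hp hp2⟩ }
  have hT2n : T2.Normal := ⟨fun v hv g => ⟨hN.conj_mem v hv.1 g, fun p hp hp2 => by
    rw [show g * v * g⁻¹ = MulAut.conj g v from rfl, MulEquiv.orderOf_eq]; exact hv.2 p hp hp2⟩⟩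
  have hT2p : IsPGroup 2 T2 := by
    rw [IsPGroup.iff_orderOf]
    rintro ⟨v, hv⟩
    rw [orderOf_mk]
    refine ⟨_, Nat.eq_prime_pow_of_unique_prime_dvd (orderOf_pos v).ne' fun {d} hd hdv => ?_⟩
    by_contra hne
    exact hv.2 d hd hne hdv
  have hT2 := hall 2 T2 Nat.prime_two hT2n (fun v hv => hv.1) hT2p
  have hcommute : ∀ a b : N, (orderOf a).Coprime (orderOf b) → Commute a b := by
    intro a b hab
    have hc : ((a * b * a⁻¹ * b⁻¹ : N) : G) ∈ centralizer (N : Set G) := hT2 ⟨SetLike.coe_mem _, fun p hp hp2 => by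
      obtain ⟨K, hKn, hKm⟩ := hK p hp hp2
      rw [orderOf_coe]
      refine (hKm _).1 ?_
      by_cases hpa : p ∣ orderOf a
      · have hb' : b ∈ K := (hKm b).2 fun hpb => hp.ne_one (Nat.eq_one_of_dvd_coprimes hab hpa hpb)
        exact mul_mem (hKn.conj_mem b hb' a) (inv_mem hb')
      · have ha' : a ∈ K := (hKm a).2 hpa
        rw [show a * b * a⁻¹ * b⁻¹ = a * (b * a⁻¹ * b⁻¹) by group]
        exact mul_mem ha' (hKn.conj_mem _ (inv_mem ha') b)⟩
    have hcz : ∀ n : N, Commute n (a * b * a⁻¹ * b⁻¹) := fun n =>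
      Subtype.ext (mem_centralizer_iff.1 hc n n.2)
    exact commute_of_central_commutator hab (hcz a) (hcz b)
  refine hna fun x hx => ?_
  by_contra hxZ
  obtain ⟨q, k, hq, hnc, b, hb⟩ := exists_prime_power (N := N) ⟨hx, hxZ⟩
  haveI : Fact q.Prime := ⟨hq⟩
  set v : N := ⟨x ^ k, hnc.1⟩
  have hv : orderOf v = q ^ b := by rw [orderOf_mk]; exact hb
  obtain ⟨Q, hQ⟩ := (IsPGroup.of_card (n := b) (G := zpowers v) (by rw [Nat.card_zpowers, hv])).exists_le_sylow
  haveI hQn : (Q : Subgroup N).Normal := by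
    rw [← normalizer_eq_top_iff, eq_top_iff]
    refine le_of_prime_power_mem fun w _ ⟨s, c, hs, hc⟩ => ?_
    by_cases hsq : s = q
    · subst hsq
      -- `q`-elements: every Sylow subgroup normalizes `Q`
      obtain ⟨R, hR⟩ := (IsPGroup.of_card (n := c) (G := zpowers w) (by rw [Nat.card_zpowers, hc])).exists_le_sylow
      obtain ⟨g, rfl⟩ := MulAction.exists_smul_eq N Q R
      have hgen : (⊤ : Subgroup N) ≤ (Q : Subgroup N) ⊔ centralizer ((Q : Subgroup N) : Set N) := by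
        rw [← index_eq_one.1 ?_]
        rw [Nat.eq_one_iff_not_exists_prime_dvd]
        intro t ht hd
        haveI : Fact t.Prime := ⟨ht⟩
        by_cases htq : t = s
        · subst htq
          exact Q.not_dvd_index (hd.trans (index_dvd_of_le le_sup_left))
        · let U : Sylow t N := default
          refine U.not_dvd_index (hd.trans (index_dvd_of_le ?_))
          refine fun u hu => mem_sup_right (mem_centralizer_iff.2 fun z hz => (hcommute z u ?_).eq)
          obtain ⟨i, hi⟩ := IsPGroup.iff_orderOf.1 Q.isPGroup' ⟨z, hz⟩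
          obtain ⟨j, hj⟩ := IsPGroup.iff_orderOf.1 U.isPGroup' ⟨u, hu⟩
          rw [orderOf_mk] at hi hj
          rw [hi, hj]
          exact Nat.Coprime.pow i j ((Nat.coprime_primes Fact.out ht).2 (fun e => htq e.symm))
      have hgn : g ∈ normalizer ((Q : Subgroup N) : Set N) :=
        (hgen.trans (sup_le le_normalizer (centralizer_le_normalizer _))) (mem_top g)
      rw [Sylow.smul_eq_iff_mem_normalizer.2 hgn] at hR
      exact le_normalizer (hR (mem_zpowers w))
    · refine centralizer_le_normalizer _ (mem_centralizer_iff.2 fun z hz => (hcommute z w ?_).eq)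
      obtain ⟨i, hi⟩ := IsPGroup.iff_orderOf.1 Q.isPGroup' ⟨z, hz⟩
      rw [orderOf_mk] at hi
      rw [hi, hc]
      exact Nat.Coprime.pow i c ((Nat.coprime_primes hq hs).2 (fun e => hsq e.symm))
  haveI : (Q : Subgroup N).Characteristic := Q.characteristic_of_normal hQn
  have hQG : ((Q : Subgroup N).map N.subtype).Normal := ConjAct.normal_of_characteristic_of_normal
  exact hnc.2 (hall q _ hq hQG (map_subtype_le _) (Q.isPGroup'.map _) ⟨v, hQ (mem_zpowers v), rfl⟩)

end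

section Structure

variable [hN : N.Normal] (h : ∀ x : G, NC N x → IsCoatom (cen x))

/-- The central part of `N`. -/
theorem centralizer_inf_normal : (centralizer (N : Set G) ⊓ N).Normal := inferInstance

theorem mem_center_iff_centralizer (n : N) : n ∈ center N ↔ (n : G) ∈ centralizer (N : Set G) := by
  rw [mem_center_iff, mem_centralizer_iff]
  exact ⟨fun hc m hm => congrArg Subtype.val (hc ⟨m, hm⟩), fun hc m => Subtype.ext (hc m m.2)⟩

include h

/-- If all elements of order prime to `r` are central, `N` modulo its center is elementary abelian. -/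
theorem elementary_case {r : ℕ} (hr : r.Prime) (hna : ¬ N ≤ centralizer (N : Set G))
    (hall : ∀ v ∈ N, (orderOf v).Coprime r → v ∈ centralizer (N : Set G)) :
    IsElementaryAbelian r (⊤ : Subgroup (↥N ⧸ center ↥N)) := by
  haveI : Fact r.Prime := ⟨hr⟩
  have hpow : ∀ v ∈ N, ∃ k : ℕ, v ^ r ^ k ∈ centralizer (N : Set G) := by
    intro v hv
    refine ⟨(orderOf v).factorization r, hall _ (N.pow_mem hv _) ?_⟩
    rw [orderOf_pow, Nat.gcd_eq_right (Nat.ordProj_dvd _ _)]
    exact (Nat.coprime_ordCompl hr (orderOf_pos v).ne').symm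
  haveI hnil : Group.IsNilpotent N := by
    refine Group.of_quotient_center_nilpotent (IsPGroup.isNilpotent (p := r) ?_)
    intro q
    obtain ⟨d, rfl⟩ := QuotientGroup.mk'_surjective _ q
    obtain ⟨k, hk⟩ := hpow d d.2
    refine ⟨k, ?_⟩
    rw [← map_pow]
    exact (QuotientGroup.eq_one_iff _).2 ((mem_center_iff_centralizer _).2 hk)
  have key : ∀ x : G, NC N x → ∀ a b : N, ((a ^ r : N) : G) ∈ cen x ∧
      ((a * b * a⁻¹ * b⁻¹ : N) : G) ∈ cen x := by
    intro x hx
    set D := cen x ⊓ N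
    set D' := D.subgroupOf N
    have hD' : D' ≠ ⊤ := fun e => hx.2 (mem_centralizer_iff.2 fun n hn =>
      mem_cen.1 (mem_inf.1 (mem_subgroupOf.1 (e ▸ mem_top (⟨n, hn⟩ : N)))).1)
    have hZD : ∀ n : N, (n : G) ∈ centralizer (N : Set G) → n ∈ D' := fun n hn =>
      mem_subgroupOf.2 ⟨mem_cen.2 (mem_centralizer_iff.1 hn x hx.1).symm, n.2⟩
    -- `D` is normal in `G`
    have hDn : D.Normal := by
      rw [← normalizer_eq_top_iff]
      have hle : cen x ≤ normalizer (D : Set G) := fun g hg => by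
        refine mem_normalizer_iff.2 fun v => ?_
        have key : ∀ g ∈ cen x, ∀ v ∈ D, g * v * g⁻¹ ∈ D := fun g hg v hv =>
          ⟨mul_mem (mul_mem hg (mem_inf.1 hv).1) ((cen _).inv_mem hg), hN.conj_mem v (mem_inf.1 hv).2 g⟩
        refine ⟨key g hg v, fun hv => ?_⟩
        have := key g⁻¹ ((cen _).inv_mem hg) _ hv
        simpa [mul_assoc] using this
      refine ((h x hx).le_iff.1 hle).resolve_right fun e => ?_
      obtain ⟨t, ht, htn⟩ := SetLike.exists_of_lt
        (Group.normalizerCondition_of_isNilpotent D' (lt_top_iff_ne_top.2 hD'))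
      refine htn (mem_subgroupOf.2 ⟨e ▸ mem_normalizer_iff.2 fun v => ?_, t.2⟩)
      constructor
      · intro hv
        exact mem_subgroupOf.1 ((mem_normalizer_iff.1 ht ⟨v, (mem_inf.1 hv).2⟩).1 (mem_subgroupOf.2 hv))
      · intro hv
        have hvN : v ∈ N := by
          have := hN.conj_mem _ (mem_inf.1 hv).2 (t : G)⁻¹
          simpa [mul_assoc] using this
        exact mem_subgroupOf.1 ((mem_normalizer_iff.1 ht ⟨v, hvN⟩).2 (mem_subgroupOf.2 hv))
    haveI := hDn
    obtain ⟨M, hM, hDM, hMp, hMc⟩ := frattini_like hr hD' fun g => by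
      obtain ⟨k, hk⟩ := hpow g g.2
      exact ⟨k, hZD _ (by push_cast; exact hk)⟩
    let S : Set G := {v | (∃ a ∈ N, a ^ r = v) ∨ ∃ a ∈ N, ∃ b ∈ N, a * b * a⁻¹ * b⁻¹ = v}
    have hYn : (closure S).Normal := by
      refine ⟨fun v hv g => ?_⟩
      have h1 : (closure S).map (MulAut.conj g).toMonoidHom ≤ closure S := by
        rw [MonoidHom.map_closure]
        refine closure_mono ?_
        rintro _ ⟨w, (⟨a, ha, rfl⟩ | ⟨a, ha, b, hb, rfl⟩), rfl⟩
        · exact Or.inl ⟨MulAut.conj g a, hN.conj_mem a ha g, (map_pow (MulAut.conj g) a r).symm⟩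
        · exact Or.inr ⟨MulAut.conj g a, hN.conj_mem a ha g, MulAut.conj g b, hN.conj_mem b hb g,
            by simp only [MulAut.conj_apply, MulEquiv.coe_toMonoidHom]; group⟩
      exact h1 ⟨v, hv, rfl⟩
    set Y := closure S ⊔ D
    have hYM : Y ≤ M.map N.subtype := by
      refine sup_le ((closure_le _).2 ?_) ?_
      · rintro v (⟨a, ha, rfl⟩ | ⟨a, ha, b, hb, rfl⟩)
        · exact ⟨_, hMp ⟨a, ha⟩, rfl⟩
        · exact ⟨_, hMc ⟨a, ha⟩ ⟨b, hb⟩, rfl⟩
      · exact fun v hv => ⟨⟨v, (mem_inf.1 hv).2⟩, hDM (mem_subgroupOf.2 hv), rfl⟩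
    have hYle : Y ≤ cen x := by
      by_contra hY
      have hsup : cen x ⊔ Y = ⊤ := (h x hx).2 _ (lt_of_le_of_ne le_sup_left fun e => hY (e ▸ le_sup_right))
      refine hM (eq_top_iff.2 fun n _ => ?_)
      haveI : Y.Normal := inferInstance
      obtain ⟨c, hc, w, hw, hcw⟩ := mem_sup_of_normal_right.1 (hsup ▸ mem_top (n : G))
      have hwN : w ∈ N := map_subtype_le M (hYM hw)
      have hcN : c ∈ N := by
        rw [show c = (n : G) * w⁻¹ by rw [← hcw, mul_inv_cancel_right]]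
        exact mul_mem n.2 (inv_mem hwN)
      have h1 : (n : G) ∈ M.map N.subtype :=
        hcw ▸ mul_mem (hYM (mem_sup_right (mem_inf.2 ⟨hc, hcN⟩))) (hYM hw)
      obtain ⟨m, hm, hme⟩ := h1
      rwa [← Subtype.ext hme]
    intro a b
    refine ⟨hYle (mem_sup_left (subset_closure (Or.inl ⟨a, a.2, by simp⟩))),
      hYle (mem_sup_left (subset_closure (Or.inr ⟨a, a.2, b, b.2, by simp⟩)))⟩
  have hcen : ∀ a b : N, a ^ r ∈ center N ∧ a * b * a⁻¹ * b⁻¹ ∈ center N := by
    intro a b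
    constructor <;> refine (mem_center_iff_centralizer _).2 (mem_centralizer_iff.2 fun n hn => ?_) <;>
      by_cases hnZ : n ∈ centralizer (N : Set G)
    · exact (mem_centralizer_iff.1 hnZ _ (SetLike.coe_mem _)).symm
    · exact (mem_cen.1 (key n ⟨hn, hnZ⟩ a b).1).symm
    · exact (mem_centralizer_iff.1 hnZ _ (SetLike.coe_mem _)).symm
    · exact (mem_cen.1 (key n ⟨hn, hnZ⟩ a b).2).symm
  refine ⟨⟨⟨?_⟩⟩, ?_⟩
  · rintro ⟨u, -⟩ ⟨v, -⟩
    obtain ⟨a, rfl⟩ := QuotientGroup.mk'_surjective _ u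
    obtain ⟨b, rfl⟩ := QuotientGroup.mk'_surjective _ v
    apply Subtype.ext
    show QuotientGroup.mk' _ a * QuotientGroup.mk' _ b = QuotientGroup.mk' _ b * QuotientGroup.mk' _ a
    rw [← mul_inv_eq_one, mul_inv_rev, ← map_inv, ← map_inv, ← map_mul, ← map_mul, ← map_mul]
    refine (QuotientGroup.eq_one_iff _).2 ?_
    rw [show a * b * (a⁻¹ * b⁻¹) = a * b * a⁻¹ * b⁻¹ by group]
    exact (hcen a b).2
  · intro u _
    obtain ⟨a, rfl⟩ := QuotientGroup.mk'_surjective _ u
    rw [← map_pow]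
    exact (QuotientGroup.eq_one_iff _).2 (hcen a a).1

/-- Commutators with a fixed `r`-element reach the center. -/
theorem exists_fixed_mod {r : ℕ} [Fact r.Prime] {F : Subgroup G} [hFn : F.Normal] (hFp : IsPGroup r F)
    (hFN : F ≤ N) (hFZ : ¬ F ≤ centralizer (N : Set G)) {u : G} {b : ℕ} (hub : orderOf u = r ^ b) :
    ∃ c ∈ F, c ∉ centralizer (N : Set G) ∧ u * c * u⁻¹ * c⁻¹ ∈ centralizer (N : Set G) := by
  have _ := h
  have _ := hFN
  set T := zpowers u ⊔ F
  haveI : Group.IsNilpotent T :=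
    ((IsPGroup.of_card (G := zpowers u) (n := b) (by rw [Nat.card_zpowers, hub])).to_sup_of_normal_right hFp).isNilpotent
  obtain ⟨f, hf, hfZ⟩ := SetLike.not_le_iff_exists.1 hFZ
  let u' : T := ⟨u, mem_sup_left (mem_zpowers u)⟩
  let seq : ℕ → T := fun n => Nat.rec ⟨f, mem_sup_right hf⟩ (fun _ c => u' * c * u'⁻¹ * c⁻¹) n
  have hF : ∀ n, (seq n).1 ∈ F := by
    intro n
    induction n with
    | zero => exact hf
    | succ n ih => exact mul_mem (hFn.conj_mem _ ih u) (inv_mem ih)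
  have hl : ∀ n, seq n ∈ (⊤ : Subgroup T).lowerCentralSeries n := by
    intro n
    induction n with
    | zero => rw [Subgroup.lowerCentralSeries_zero]; exact mem_top _
    | succ n ih =>
      have h1 : seq (n + 1) = ⁅seq n, u'⁆⁻¹ := by
        show u' * seq n * u'⁻¹ * (seq n)⁻¹ = _
        simp only [commutatorElement_def]
        group
      rw [h1]
      exact inv_mem (commutator_mem_commutator ih (mem_top u'))
  obtain ⟨m, hm⟩ := Subgroup.nilpotent_iff_lowerCentralSeries.1 (inferInstance : Group.IsNilpotent T)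
  have hex : ∃ n, (seq n).1 ∈ centralizer (N : Set G) := ⟨m, by
    have h1 := hl m
    rw [hm, mem_bot] at h1
    rw [h1]
    exact one_mem _⟩
  classical
  have h0 : Nat.find hex ≠ 0 := fun e => by
    have h1 := Nat.find_spec hex
    rw [e] at h1
    exact hfZ h1
  obtain ⟨n, hn⟩ := Nat.exists_eq_succ_of_ne_zero h0
  refine ⟨(seq n).1, hF n, Nat.find_min hex (by omega), ?_⟩
  have h1 := Nat.find_spec hex
  rw [hn] at h1
  exact h1

/-- A proper `G`-normal subgroup of a minimal noncentral `r`-subgroup is central; so are its powers and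
commutators. -/
theorem minimal_data {r : ℕ} [Fact r.Prime] {F : Subgroup G} [hFn : F.Normal] (hFp : IsPGroup r F)
    (hFN : F ≤ N) (hFZ : ¬ F ≤ centralizer (N : Set G))
    (hmin : ∀ K : Subgroup G, K.Normal → K ≤ F → K ≠ F → K ≤ centralizer (N : Set G)) :
    ∀ a ∈ F, ∀ b ∈ F, a ^ r ∈ centralizer (N : Set G) ∧
      a * b * a⁻¹ * b⁻¹ ∈ centralizer (N : Set G) := by
  have _ := h
  have _ := hFN
  haveI : Group.IsNilpotent F := hFp.isNilpotent
  haveI : Nontrivial F := (nontrivial_iff_ne_bot F).2 fun e => hFZ (e ▸ bot_le)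
  obtain ⟨M, hM, -, hMp, hMc⟩ := frattini_like (Fact.out (p := r.Prime)) (D := (⊥ : Subgroup F)) bot_ne_top
    (fun g => by obtain ⟨k, hk⟩ := hFp g; exact ⟨k, by rw [hk]; exact one_mem _⟩)
  let S : Set G := {v | (∃ a ∈ F, a ^ r = v) ∨ ∃ a ∈ F, ∃ b ∈ F, a * b * a⁻¹ * b⁻¹ = v}
  have hSM : closure S ≤ M.map F.subtype := (closure_le _).2 (by
    rintro v (⟨a, ha, rfl⟩ | ⟨a, ha, b, hb, rfl⟩)
    · exact ⟨_, hMp ⟨a, ha⟩, rfl⟩
    · exact ⟨_, hMc ⟨a, ha⟩ ⟨b, hb⟩, rfl⟩)
  have hn : (closure S).Normal := ⟨fun v hv g => by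
    have h1 : (closure S).map (MulAut.conj g).toMonoidHom ≤ closure S := by
      rw [MonoidHom.map_closure]
      refine closure_mono ?_
      rintro _ ⟨w, (⟨a, ha, rfl⟩ | ⟨a, ha, b, hb, rfl⟩), rfl⟩
      · exact Or.inl ⟨MulAut.conj g a, hFn.conj_mem a ha g, (map_pow (MulAut.conj g) a r).symm⟩
      · exact Or.inr ⟨MulAut.conj g a, hFn.conj_mem a ha g, MulAut.conj g b, hFn.conj_mem b hb g,
          by simp only [MulAut.conj_apply, MulEquiv.coe_toMonoidHom]; group⟩
    exact h1 ⟨v, hv, rfl⟩⟩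
  have hZ := hmin _ hn (hSM.trans (map_subtype_le _)) fun e => hM (eq_top_iff.2 fun a _ => by
    obtain ⟨m, hm, hme⟩ := (e ▸ hSM) a.2
    rwa [← Subtype.ext hme])
  exact fun a ha b hb => ⟨hZ (subset_closure (Or.inl ⟨a, ha, rfl⟩)),
    hZ (subset_closure (Or.inr ⟨a, ha, b, hb, rfl⟩))⟩

omit h in
theorem mem_cen_of_central {z n : G} (hz : z ∈ centralizer (N : Set G)) (hn : n ∈ N) : z ∈ cen n :=
  mem_cen.2 (mem_centralizer_iff.1 hz n hn).symm

/-- If an element of order prime to `r` is noncentral, none centralizes `F`. -/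
theorem not_le_cen {r : ℕ} [Fact r.Prime] {F : Subgroup G} [hFn : F.Normal] (hFp : IsPGroup r F)
    (hFN : F ≤ N) (hFZ : ¬ F ≤ centralizer (N : Set G)) {y : G} (hy : NC N y)
    (hyr : (orderOf y).Coprime r) : ¬ F ≤ cen y := by
  intro hFy
  obtain ⟨x, hxF, hxZ⟩ := SetLike.not_le_iff_exists.1 hFZ
  have hcop : ∀ f ∈ F, ∀ v : G, (orderOf v).Coprime r → (orderOf f).Coprime (orderOf v) := by
    intro f hf v hv
    obtain ⟨k, hk⟩ := IsPGroup.iff_orderOf.1 hFp ⟨f, hf⟩
    rw [orderOf_mk] at hk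
    rw [hk]
    exact (hv.pow_right k).symm
  have hxx : ∀ f ∈ F, NC N f → cen f = cen y := fun f hf hnc =>
    cen_eq_of_coprime h hnc hy (mem_cen.1 (hFy hf)) (hcop f hf y hyr)
  have hxy := hxx x hxF ⟨hFN hxF, hxZ⟩
  set M := cen y with hMdef
  have hM_eq : M = centralizer (F : Set G) := by
    refine le_antisymm (fun g hg => mem_centralizer_iff.2 fun f hf => ?_) fun g hg => ?_
    · by_cases hfZ : f ∈ centralizer (N : Set G)
      · -- central elements of `F`
        have h1 : g ∈ cen x := hxy ▸ hg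
        by_cases hfx : f * x ∈ centralizer (N : Set G)
        · exact absurd (by simpa using mul_mem (inv_mem hfZ) hfx) hxZ
        · have h2 : g ∈ cen (f * x) := (hxx _ (mul_mem hf hxF) ⟨hFN (mul_mem hf hxF), hfx⟩) ▸ hg
          have h3 := mem_cen.1 h2
          have h4 := mem_cen.1 h1
          refine mul_right_cancel (b := x) ?_
          calc f * g * x = f * (x * g) := by rw [mul_assoc, h4]
            _ = g * (f * x) := by rw [← mul_assoc, h3]
            _ = g * f * x := (mul_assoc _ _ _).symm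
      · exact (mem_cen.1 ((hxx f hf ⟨hFN hf, hfZ⟩).symm ▸ hg)).symm
    · rw [← hxy]
      exact mem_cen.2 (mem_centralizer_iff.1 hg x hxF).symm
  haveI hMn : M.Normal := by rw [hM_eq]; infer_instance
  have hFM : F ≤ M := hFy
  -- all noncentral elements of order prime to `r` lie in `M`
  have hr' : ∀ v ∈ N, (orderOf v).Coprime r → v ∈ M := by
    intro v hv hvr
    by_cases hvZ : v ∈ centralizer (N : Set G)
    · exact mem_cen_of_central hvZ hy.1
    by_contra hvM
    have hFv : ¬ F ≤ cen v := fun hc => hvM (hM_eq ▸ mem_centralizer_iff.2 fun f hf => mem_cen.1 (hc hf))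
    have hsup : cen v ⊔ F = ⊤ :=
      (h v ⟨hv, hvZ⟩).2 _ (lt_of_le_of_ne le_sup_left fun e => hFv (e ▸ le_sup_right))
    obtain ⟨c, hc, f, hf, hcf⟩ := mem_sup_of_normal_right.1 (hsup ▸ mem_top y)
    -- the commutator lies in `F` and in the elements of order prime to `r`
    have hw : v * y * v⁻¹ = y * (f⁻¹ * (v * f * v⁻¹)) := by
      have h1 : v * c * v⁻¹ = c := by rw [← mem_cen.1 hc]; group
      calc v * y * v⁻¹ = (v * c * v⁻¹) * (v * f * v⁻¹) := by rw [← hcf]; group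
        _ = c * f * (f⁻¹ * (v * f * v⁻¹)) := by rw [h1]; group
        _ = _ := by rw [hcf]
    set w := f⁻¹ * (v * f * v⁻¹)
    have hwF : w ∈ F := mul_mem (inv_mem hf) (hFn.conj_mem f hf v)
    have hcw : Commute y w := (mem_cen.1 (hFy hwF)).symm
    have h2 : w ^ orderOf y = 1 := by
      have h3 := congrArg (· ^ orderOf y) hw
      simp only [conj_pow, hcw.mul_pow, pow_orderOf_eq_one, one_mul, mul_one, mul_inv_cancel] at h3
      exact h3.symm
    have h4 : w = 1 := orderOf_eq_one_iff.1 (Nat.eq_one_of_dvd_coprimes (hcop w hwF y hyr)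
      dvd_rfl (orderOf_dvd_of_pow_eq_one h2))
    rw [h4, mul_one] at hw
    exact hvM (mem_cen.2 (mul_inv_eq_iff_eq_mul.1 hw))
  -- `M ⊓ N` is abelian
  have hB : ∀ v ∈ M ⊓ N, ∀ v' ∈ M ⊓ N, v * v' = v' * v := by
    have key : M ⊓ N ≤ centralizer ((M ⊓ N : Subgroup G) : Set G) := by
      refine le_of_prime_power_mem fun v hv ⟨q, b, hq, hb⟩ => ?_
      by_cases hvZ : v ∈ centralizer (N : Set G)
      · exact mem_centralizer_iff.2 fun w hw => mem_centralizer_iff.1 hvZ w (mem_inf.1 hw).2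
      have hvc : cen v = M := by
        by_cases hqr : q = r
        · subst hqr
          refine cen_eq_of_coprime h ⟨(mem_inf.1 hv).2, hvZ⟩ hy (mem_cen.1 (mem_inf.1 hv).1) ?_
          rw [hb]
          exact (hyr.pow_right b).symm
        · have hvq : (orderOf v).Coprime r := by
            rw [hb]
            exact Nat.Coprime.pow_left b ((Nat.coprime_primes hq Fact.out).2 hqr)
          rw [← hxy]
          refine (cen_eq_of_coprime h ⟨hFN hxF, hxZ⟩ ⟨(mem_inf.1 hv).2, hvZ⟩ ?_ (hcop x hxF v hvq)).symm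
          exact (mem_cen.1 (hxy.symm ▸ (mem_inf.1 hv).1)).symm
      exact mem_centralizer_iff.2 fun w hw => mem_cen.1 (hvc ▸ (mem_inf.1 hw).1)
    exact fun v hv v' hv' => (mem_centralizer_iff.1 (key hv) v' hv').symm
  -- an `r`-element outside `M`
  obtain ⟨u, huN, huM, b, hub⟩ : ∃ u ∈ N, u ∉ M ∧ ∃ b, orderOf u = r ^ b := by
    by_contra hcon
    have hNM : N ≤ M := le_of_prime_power_mem fun v hv ⟨q, b, hq, hb⟩ => by
      by_contra hvM
      by_cases hqr : q = r
      · exact hcon ⟨v, hv, hvM, b, by rw [hb, hqr]⟩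
      · refine hvM (hr' v hv ?_)
        rw [hb]
        exact Nat.Coprime.pow_left b ((Nat.coprime_primes hq Fact.out).2 hqr)
    exact hy.2 (mem_centralizer_iff.2 fun n hn => mem_cen.1 (hNM hn))
  have hu : NC N u := ⟨huN, fun hz => huM (mem_cen_of_central hz hy.1)⟩
  obtain ⟨c₀, hc₀F, hc₀Z, hc₀⟩ := exists_fixed_mod h hFp hFN hFZ hub
  -- commutators of `u` with conjugates
  haveI : IsMulCommutative (G ⧸ M) := by
    have hsimple : ∀ H : Subgroup (G ⧸ M), H = ⊥ ∨ H = ⊤ := by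
      intro H
      rcases (h y hy).le_iff.1 (show M ≤ H.comap (QuotientGroup.mk' M) from
        (QuotientGroup.ker_mk' M).symm.le.trans (MonoidHom.ker_le_comap _ _)) with e | e
      · exact Or.inr (comap_injective (QuotientGroup.mk'_surjective M) (by rw [e, comap_top]))
      · exact Or.inl (comap_injective (QuotientGroup.mk'_surjective M) (by
          rw [e, MonoidHom.comap_bot, QuotientGroup.ker_mk']))
    have hu1 : QuotientGroup.mk' M u ≠ 1 := fun e => huM ((QuotientGroup.eq_one_iff u).1 e)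
    refine ⟨⟨fun a c => ?_⟩⟩
    have hgen : zpowers (QuotientGroup.mk' M u) = ⊤ := (hsimple _).resolve_left (zpowers_ne_bot.2 hu1)
    obtain ⟨i, rfl⟩ := mem_zpowers_iff.1 (hgen ▸ mem_top a)
    obtain ⟨j, rfl⟩ := mem_zpowers_iff.1 (hgen ▸ mem_top c)
    exact ((Commute.refl (QuotientGroup.mk' M u)).zpow_zpow i j).eq
  have hconj : ∀ g : G, g * u * g⁻¹ * u⁻¹ ∈ M ⊓ N := fun g => mem_inf.2 ⟨by
    rw [← QuotientGroup.eq_one_iff]
    simp only [QuotientGroup.mk_mul, QuotientGroup.mk_inv]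
    rw [mul_comm' (g : G ⧸ M) u]
    group, mul_mem (hN.conj_mem u huN g) (inv_mem huN)⟩
  haveI hZn : (centralizer (N : Set G)).Normal := inferInstance
  let K : Subgroup G :=
    { carrier := {c | c ∈ M ⊓ N ∧ u * c * u⁻¹ * c⁻¹ ∈ centralizer (N : Set G)}
      mul_mem' := fun {a c} ha hc => ⟨mul_mem ha.1 hc.1, by
        have h1 : u * (a * c) * u⁻¹ * (a * c)⁻¹ =
            (u * a * u⁻¹ * a⁻¹) * (a * (u * c * u⁻¹ * c⁻¹) * a⁻¹) := by group
        rw [h1]
        exact mul_mem ha.2 (hZn.conj_mem _ hc.2 a)⟩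
      one_mem' := ⟨one_mem _, by simp⟩
      inv_mem' := fun {a} ha => ⟨inv_mem ha.1, by
        have h1 : u * a⁻¹ * u⁻¹ * a⁻¹⁻¹ = a⁻¹ * (u * a * u⁻¹ * a⁻¹)⁻¹ * a := by group
        rw [h1]
        simpa using hZn.conj_mem _ (inv_mem ha.2) a⁻¹⟩ }
  haveI : (M ⊓ N).Normal := inferInstance
  haveI hKn : K.Normal := ⟨fun c hc g => by
    refine ⟨(inferInstance : (M ⊓ N).Normal).conj_mem c hc.1 g, ?_⟩
    set d := g * u * g⁻¹ * u⁻¹
    have hud : u = d⁻¹ * (g * u * g⁻¹) := by simp only [d]; group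
    have hmem : (g * u * g⁻¹) * (g * c * g⁻¹) * (g * u * g⁻¹)⁻¹ ∈ M ⊓ N :=
      (inferInstance : (M ⊓ N).Normal).conj_mem _ ((inferInstance : (M ⊓ N).Normal).conj_mem c hc.1 g) _
    have h1 : u * (g * c * g⁻¹) * u⁻¹ * (g * c * g⁻¹)⁻¹ = g * (u * c * u⁻¹ * c⁻¹) * g⁻¹ := by
      have h2 : d⁻¹ * ((g * u * g⁻¹) * (g * c * g⁻¹) * (g * u * g⁻¹)⁻¹) * d =
          (g * u * g⁻¹) * (g * c * g⁻¹) * (g * u * g⁻¹)⁻¹ := by
        rw [hB _ (inv_mem (hconj g)) _ hmem, inv_mul_cancel_right]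
      calc u * (g * c * g⁻¹) * u⁻¹ * (g * c * g⁻¹)⁻¹
          = d⁻¹ * ((g * u * g⁻¹) * (g * c * g⁻¹) * (g * u * g⁻¹)⁻¹) * d * (g * c * g⁻¹)⁻¹ := by
            simp only [d]; group
        _ = _ := by rw [h2]; group
    rw [h1]
    exact hZn.conj_mem _ hc.2 g⟩
  have hc₀K : c₀ ∈ K := ⟨⟨hFM hc₀F, hFN hc₀F⟩, hc₀⟩
  have hfix : ∀ c ∈ M ⊓ N, c ∈ cen u → c ∈ centralizer (N : Set G) := by
    intro c hc hcu
    by_contra hcZ
    have h2 : cen c = M := by
      obtain ⟨q, k, hq, hnc, hkb⟩ := exists_prime_power (N := N) ⟨(mem_inf.1 hc).2, hcZ⟩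
      refine (cen_pow h ⟨(mem_inf.1 hc).2, hcZ⟩ hnc).trans ?_
      obtain ⟨e, he⟩ := hkb
      have hck : c ^ k ∈ M := pow_mem (mem_inf.1 hc).1 k
      by_cases hqr : q = r
      · subst hqr
        refine cen_eq_of_coprime h hnc hy (mem_cen.1 hck) ?_
        rw [he]
        exact (hyr.pow_right e).symm
      · have hvq : (orderOf (c ^ k)).Coprime r := by
          rw [he]
          exact Nat.Coprime.pow_left e ((Nat.coprime_primes hq Fact.out).2 hqr)
        rw [← hxy]
        refine (cen_eq_of_coprime h ⟨hFN hxF, hxZ⟩ hnc ?_ (hcop x hxF _ hvq)).symm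
        exact (mem_cen.1 (hxy.symm ▸ hck)).symm
    exact huM (h2 ▸ mem_cen.2 (mem_cen.1 hcu).symm)
  have hsup : cen u ⊔ K = ⊤ := (h u hu).2 _ (lt_of_le_of_ne le_sup_left fun e =>
    hc₀Z (hfix c₀ hc₀K.1 ((le_sup_right : K ≤ _).trans e.ge hc₀K)))
  obtain ⟨c, hc, k, hk, hck⟩ := mem_sup_of_normal_right.1 (hsup ▸ mem_top y)
  have hyB : y ∈ M ⊓ N := ⟨mem_cen.2 rfl, hy.1⟩
  have hcB : c ∈ M ⊓ N := by
    rw [show c = y * k⁻¹ by rw [← hck, mul_inv_cancel_right]]
    exact mul_mem hyB (inv_mem hk.1)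
  have hyK : y ∈ K := by
    rw [← hck]
    refine mul_mem ⟨hcB, ?_⟩ hk
    rw [← mem_cen.1 hc]
    simp
  refine hy.2 (hfix y hyB ?_)
  have hcom : ∀ n ∈ N, Commute n (u * y * u⁻¹ * y⁻¹) := fun n hn => mem_centralizer_iff.1 hyK.2 n hn
  exact mem_cen.2 (commute_of_central_commutator (by rw [hub]; exact (hyr.pow_right b).symm)
    (hcom u huN) (hcom y hy.1)).symm.eq

/-- Outside `r`, fixed points on a minimal `F` are central. -/
theorem fixed_central {r : ℕ} [Fact r.Prime] {F : Subgroup G} [hFn : F.Normal] (hFp : IsPGroup r F)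
    (hFN : F ≤ N) (hFZ : ¬ F ≤ centralizer (N : Set G))
    (hmin : ∀ K : Subgroup G, K.Normal → K ≤ F → K ≠ F → K ≤ centralizer (N : Set G))
    {y : G} (hy : NC N y) (hyr : (orderOf y).Coprime r) :
    ∀ f ∈ F, f ∈ cen y → f ∈ centralizer (N : Set G) := by
  have hd := minimal_data h hFp hFN hFZ hmin
  have hny := not_le_cen h hFp hFN hFZ hy hyr
  have hsup : cen y ⊔ F = ⊤ := (h y hy).2 _ (lt_of_le_of_ne le_sup_left fun e => hny (e ▸ le_sup_right))
  have hKn : (F ⊓ cen y).Normal := by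
    rw [← normalizer_eq_top_iff, ← top_le_iff, ← hsup]
    have key : ∀ g : G, g ∈ cen y ∨ g ∈ F → ∀ c ∈ F ⊓ cen y, g * c * g⁻¹ ∈ F ⊓ cen y := by
      rintro g (hg | hg) c hc
      · exact ⟨hFn.conj_mem c (mem_inf.1 hc).1 g,
          mul_mem (mul_mem hg (mem_inf.1 hc).2) ((cen y).inv_mem hg)⟩
      · refine ⟨hFn.conj_mem c (mem_inf.1 hc).1 g, ?_⟩
        rw [show g * c * g⁻¹ = (g * c * g⁻¹ * c⁻¹) * c by group]
        exact mul_mem (mem_cen_of_central (hd g hg c (mem_inf.1 hc).1).2 hy.1) (mem_inf.1 hc).2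
    refine sup_le (fun g hg => ?_) fun g hg => ?_
    · refine mem_normalizer_iff.2 fun c => ⟨key g (Or.inl hg) c, fun hc => ?_⟩
      have := key g⁻¹ (Or.inl ((cen y).inv_mem hg)) _ hc
      simpa [mul_assoc] using this
    · refine mem_normalizer_iff.2 fun c => ⟨key g (Or.inr hg) c, fun hc => ?_⟩
      have := key g⁻¹ (Or.inr (inv_mem hg)) _ hc
      simpa [mul_assoc] using this
  exact fun f hf hfy => hmin _ hKn inf_le_left
    (fun e => hny (inf_eq_left.1 e)) (mem_inf.2 ⟨hf, hfy⟩)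

/-- An `r`-element commuting with a noncentral element of order prime to `r` is central. -/
theorem r_part_central {r : ℕ} [Fact r.Prime] {F : Subgroup G} [hFn : F.Normal] (hFp : IsPGroup r F)
    (hFN : F ≤ N) (hFZ : ¬ F ≤ centralizer (N : Set G))
    (hmin : ∀ K : Subgroup G, K.Normal → K ≤ F → K ≠ F → K ≤ centralizer (N : Set G))
    {y : G} (hy : NC N y) (hyr : (orderOf y).Coprime r) {u : G} (huN : u ∈ N) (huy : u ∈ cen y)
    {b : ℕ} (hub : orderOf u = r ^ b) : u ∈ centralizer (N : Set G) := by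
  by_contra huZ
  have hu : NC N u := ⟨huN, huZ⟩
  have hd := minimal_data h hFp hFN hFZ hmin
  have hfix := fixed_central h hFp hFN hFZ hmin hy hyr
  have hcu : cen u = cen y := cen_eq_of_coprime h hu hy (mem_cen.1 huy) (by
    rw [hub]; exact (hyr.pow_right b).symm)
  haveI hZn : (centralizer (N : Set G)).Normal := inferInstance
  let K : Subgroup G :=
    { carrier := {c | c ∈ F ∧ u * c * u⁻¹ * c⁻¹ ∈ centralizer (N : Set G)}
      mul_mem' := fun {a c} ha hc => ⟨mul_mem ha.1 hc.1, by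
        have h1 : u * (a * c) * u⁻¹ * (a * c)⁻¹ =
            (u * a * u⁻¹ * a⁻¹) * (a * (u * c * u⁻¹ * c⁻¹) * a⁻¹) := by group
        rw [h1]
        exact mul_mem ha.2 (hZn.conj_mem _ hc.2 a)⟩
      one_mem' := ⟨one_mem _, by simp⟩
      inv_mem' := fun {a} ha => ⟨inv_mem ha.1, by
        have h1 : u * a⁻¹ * u⁻¹ * a⁻¹⁻¹ = a⁻¹ * (u * a * u⁻¹ * a⁻¹)⁻¹ * a := by group
        rw [h1]
        simpa using hZn.conj_mem _ (inv_mem ha.2) a⁻¹⟩ }
  have hZK : ∀ z ∈ F, z ∈ centralizer (N : Set G) → z ∈ K := fun z hzF hz => ⟨hzF, by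
    have h1 : u * z = z * u := mem_centralizer_iff.1 hz u huN
    rw [h1]; simp⟩
  obtain ⟨c₀, hc₀F, hc₀Z, hc₀⟩ := exists_fixed_mod h hFp hFN hFZ hub
  have hsup : cen u ⊔ F = ⊤ := by
    rw [hcu]
    exact (h y hy).2 _ (lt_of_le_of_ne le_sup_left fun e =>
      hc₀Z (hfix c₀ hc₀F ((le_sup_right : F ≤ _).trans e.ge hc₀F)))
  have key : ∀ g : G, g ∈ cen u ∨ g ∈ F → ∀ c ∈ K, g * c * g⁻¹ ∈ K := by
    rintro g (hg | hg) c hc
    · refine ⟨hFn.conj_mem c hc.1 g, ?_⟩
      have h1 : g * u * g⁻¹ = u := by rw [mem_cen.1 hg, mul_inv_cancel_right]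
      have h2 : u * (g * c * g⁻¹) * u⁻¹ * (g * c * g⁻¹)⁻¹ = g * (u * c * u⁻¹ * c⁻¹) * g⁻¹ := by
        conv_lhs => rw [← h1]
        group
      rw [h2]
      exact hZn.conj_mem _ hc.2 g
    · rw [show g * c * g⁻¹ = (g * c * g⁻¹ * c⁻¹) * c by group]
      exact K.mul_mem (hZK _ (mul_mem (hFn.conj_mem c hc.1 g) (inv_mem hc.1)) (hd g hg c hc.1).2) hc
  have hKn : K.Normal := by
    rw [← normalizer_eq_top_iff, ← top_le_iff, ← hsup]
    refine sup_le (fun g hg => ?_) fun g hg => ?_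
    · refine mem_normalizer_iff.2 fun c => ⟨key g (Or.inl hg) c, fun hc => ?_⟩
      have := key g⁻¹ (Or.inl ((cen u).inv_mem hg)) _ hc
      simpa [mul_assoc] using this
    · refine mem_normalizer_iff.2 fun c => ⟨key g (Or.inr hg) c, fun hc => ?_⟩
      have := key g⁻¹ (Or.inr (inv_mem hg)) _ hc
      simpa [mul_assoc] using this
  have hKF : F ≤ K := by
    by_contra hc
    exact hc₀Z (hmin K hKn (fun c hc => hc.1) (fun e => hc e.ge) ⟨hc₀F, hc₀⟩)
  refine not_le_cen h hFp hFN hFZ hy hyr fun f hf => ?_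
  set z := u * f * u⁻¹ * f⁻¹
  have hzc : ∀ n ∈ N, n * z = z * n := fun n hn => mem_centralizer_iff.1 (hKF hf).2 n hn
  set w := f⁻¹ * (y * f * y⁻¹)
  have hyu : y * u * y⁻¹ = u := by rw [← mem_cen.1 huy, mul_inv_cancel_right]
  have hw : u * w * u⁻¹ = w := by
    have h1 : u * (y * f * y⁻¹) * u⁻¹ = y * (u * f * u⁻¹) * y⁻¹ := by
      conv_lhs => rw [← hyu]
      group
    have h2 : u * f * u⁻¹ = z * f := by simp only [z]; group
    calc u * w * u⁻¹ = (u * f * u⁻¹)⁻¹ * (u * (y * f * y⁻¹) * u⁻¹) := by simp only [w]; group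
      _ = f⁻¹ * z⁻¹ * (y * z * (f * y⁻¹)) := by rw [h1, h2]; group
      _ = w := by rw [hzc y hy.1]; simp only [w]; group
  have hwF : w ∈ F := mul_mem (inv_mem hf) (hFn.conj_mem f hf y)
  have hwc : w ∈ cen u := mem_cen.2 ((mul_inv_eq_iff_eq_mul.1 hw).symm)
  have hwZ := hfix w hwF (hcu ▸ hwc)
  have hft : y * f * y⁻¹ * f⁻¹ ∈ centralizer (N : Set G) := by
    have := hZn.conj_mem w hwZ f
    rwa [show f * w * f⁻¹ = y * f * y⁻¹ * f⁻¹ by simp only [w]; group] at this
  obtain ⟨k, hk⟩ := IsPGroup.iff_orderOf.1 hFp ⟨f, hf⟩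
  rw [orderOf_mk] at hk
  exact mem_cen.2 (commute_of_central_commutator (by rw [hk]; exact hyr.pow_right k)
    (mem_centralizer_iff.1 hft y hy.1) (mem_centralizer_iff.1 hft f (hFN hf))).symm.eq

/-- The Frobenius alternative. -/
theorem frobenius_case {r : ℕ} [Fact r.Prime] {F : Subgroup G} [hFn : F.Normal] (hFp : IsPGroup r F)
    (hFN : F ≤ N) (hFZ : ¬ F ≤ centralizer (N : Set G))
    (hmin : ∀ K : Subgroup G, K.Normal → K ≤ F → K ≠ F → K ≤ centralizer (N : Set G))
    {y : G} (hy : NC N y) (hyr : (orderOf y).Coprime r) :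
    ∃ (Q K : Subgroup (↥N ⧸ center ↥N)), IsFrobeniusComplement Q ∧ (Nat.card Q).Prime ∧
      K.Normal ∧ (K : Set (↥N ⧸ center ↥N)) = frobeniusKernel Q ∧ IsElementaryAbelian r K := by
  have hd := minimal_data h hFp hFN hFZ hmin
  have hfix := fixed_central h hFp hFN hFZ hmin hy hyr
  have hrp := fun u hu hu' b hb =>
    r_part_central h hFp hFN hFZ hmin hy hyr (u := u) hu hu' (b := b) hb
  have hcopF : ∀ f ∈ F, (orderOf f).Coprime (orderOf y) := by
    intro f hf
    obtain ⟨k, hk⟩ := IsPGroup.iff_orderOf.1 hFp ⟨f, hf⟩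
    rw [orderOf_mk] at hk
    rw [hk]; exact (hyr.pow_right k).symm
  obtain ⟨x, hxF, hxZ⟩ := SetLike.not_le_iff_exists.1 hFZ
  have hx : NC N x := ⟨hFN hxF, hxZ⟩
  have hny := not_le_cen h hFp hFN hFZ hy hyr
  have hsupy : cen y ⊔ F = ⊤ := (h y hy).2 _ (lt_of_le_of_ne le_sup_left fun e => hny (e ▸ le_sup_right))
  haveI hZn : (centralizer (N : Set G) ⊓ N).Normal := inferInstance
  set F' := F ⊔ (centralizer (N : Set G) ⊓ N)
  have hF'N : F' ≤ N := sup_le hFN inf_le_right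
  have hdecompF : ∀ v ∈ F', ∃ f ∈ F, ∃ z ∈ centralizer (N : Set G), z ∈ N ∧ f * z = v := by
    intro v hv
    obtain ⟨f, hf, z, hz, rfl⟩ := mem_sup_of_normal_right.1 hv
    exact ⟨f, hf, z, (mem_inf.1 hz).1, (mem_inf.1 hz).2, rfl⟩
  have hyF' : y ∉ F' := by
    intro hc
    obtain ⟨f, hf, z, hz, hzN, hyeq⟩ := hdecompF y hc
    have hfy : Commute f y := by
      rw [← hyeq]
      exact (Commute.refl f).mul_right (mem_centralizer_iff.1 hz f (hFN hf))
    have := hfix f hf (mem_cen.2 hfy.eq)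
    exact hy.2 (hyeq ▸ mul_mem this hz)
  -- elements of order prime to `r` commuting with `x` are central
  have hxr : ∀ v ∈ N, v ∈ cen x → (orderOf v).Coprime r → v ∈ centralizer (N : Set G) := by
    intro v hv hvx hvr
    by_contra hvZ
    exact hxZ (fixed_central h hFp hFN hFZ hmin ⟨hv, hvZ⟩ hvr x hxF (mem_cen.2 (mem_cen.1 hvx).symm))
  have hpowr : ∀ v : G, ∃ k, (orderOf (v ^ r ^ k)).Coprime r := fun v => by
    refine ⟨(orderOf v).factorization r, ?_⟩
    rw [orderOf_pow, Nat.gcd_eq_right (Nat.ordProj_dvd _ _)]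
    exact (Nat.coprime_ordCompl Fact.out (orderOf_pos v).ne').symm
  haveI hF'n : F'.Normal := inferInstance
  have hF'x : F' ≤ cen x := by
    by_contra hc
    have hs : cen x ⊔ F' = ⊤ := (h x hx).2 _ (lt_of_le_of_ne le_sup_left fun e => hc (e ▸ le_sup_right))
    obtain ⟨c, hcc, f, hf, hcf⟩ := mem_sup_of_normal_right.1 (hs ▸ mem_top y)
    have hcN : c ∈ N := by
      rw [show c = y * f⁻¹ by rw [← hcf, mul_inv_cancel_right]]
      exact mul_mem hy.1 (inv_mem (hF'N hf))
    obtain ⟨k, hk⟩ := hpowr c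
    have hckZ := hxr _ (N.pow_mem hcN _) (pow_mem hcc _) hk
    have hcq : QuotientGroup.mk' F' c = QuotientGroup.mk' F' y := by
      rw [← hcf, map_mul, show QuotientGroup.mk' F' f = 1 from (QuotientGroup.eq_one_iff f).2 hf, mul_one]
    have hyk : QuotientGroup.mk' F' y ^ r ^ k = 1 := by
      rw [← hcq, ← map_pow]
      exact (QuotientGroup.eq_one_iff _).2 (mem_sup_right (mem_inf.2 ⟨hckZ, N.pow_mem hcN _⟩))
    refine hyF' ((QuotientGroup.eq_one_iff y).1 (orderOf_eq_one_iff.1 ?_))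
    exact Nat.eq_one_of_dvd_coprimes (hyr.pow_right k) (orderOf_map_dvd (QuotientGroup.mk' F') y) (orderOf_dvd_of_pow_eq_one hyk)
  have hFab : ∀ a ∈ F, ∀ b ∈ F, a * b = b * a := by
    have hall : ∀ x' ∈ F, x' ∉ centralizer (N : Set G) → F ≤ cen x' := by
      intro x' hx' hx'Z
      by_contra hc
      have hs : cen x' ⊔ F = ⊤ :=
        (h x' ⟨hFN hx', hx'Z⟩).2 _ (lt_of_le_of_ne le_sup_left fun e => hc (e ▸ le_sup_right))
      obtain ⟨c, hcc, f, hf, hcf⟩ := mem_sup_of_normal_right.1 (hs ▸ mem_top y)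
      have hcN : c ∈ N := by
        rw [show c = y * f⁻¹ by rw [← hcf, mul_inv_cancel_right]]
        exact mul_mem hy.1 (inv_mem (hFN hf))
      obtain ⟨k, hk⟩ := hpowr c
      have hckZ : c ^ r ^ k ∈ centralizer (N : Set G) := by
        by_contra hcZ
        exact hx'Z (fixed_central h hFp hFN hFZ hmin ⟨N.pow_mem hcN _, hcZ⟩ hk x' hx'
          (mem_cen.2 (mem_cen.1 (pow_mem hcc _)).symm))
      have hcq : QuotientGroup.mk' F' c = QuotientGroup.mk' F' y := by
        rw [← hcf, map_mul,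
          show QuotientGroup.mk' F' f = 1 from (QuotientGroup.eq_one_iff f).2 (mem_sup_left hf), mul_one]
      have hyk : QuotientGroup.mk' F' y ^ r ^ k = 1 := by
        rw [← hcq, ← map_pow]
        exact (QuotientGroup.eq_one_iff _).2 (mem_sup_right (mem_inf.2 ⟨hckZ, N.pow_mem hcN _⟩))
      refine hyF' ((QuotientGroup.eq_one_iff y).1 (orderOf_eq_one_iff.1 ?_))
      exact Nat.eq_one_of_dvd_coprimes (hyr.pow_right k) (orderOf_map_dvd (QuotientGroup.mk' F') y)
        (orderOf_dvd_of_pow_eq_one hyk)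
    intro a ha b hb
    by_cases haZ : a ∈ centralizer (N : Set G)
    · exact (mem_centralizer_iff.1 haZ b (hFN hb)).symm
    · exact (mem_cen.1 (hall a ha haZ hb)).symm
  set M := cen x with hMdef
  have hFM : F ≤ M := fun f hf => mem_cen.2 (hFab f hf x hxF)
  have hyM : y ∉ M := fun hc => hy.2 (hxr y hy.1 hc hyr)
  -- `M` is normal
  haveI hMn : M.Normal := by
    set W := cen y ⊓ M
    have hWy : W ≤ cen y := inf_le_left
    have hdec : ∀ g ∈ M, ∃ w ∈ W, ∃ f ∈ F, w * f = g := by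
      intro g hg
      obtain ⟨c, hc, f, hf, hcf⟩ := mem_sup_of_normal_right.1 (hsupy ▸ mem_top g)
      refine ⟨c, mem_inf.2 ⟨hc, ?_⟩, f, hf, hcf⟩
      rw [show c = g * f⁻¹ by rw [← hcf, mul_inv_cancel_right]]
      exact mul_mem hg (inv_mem (hFM hf))
    have hyW : ∀ w ∈ W, y * w * y⁻¹ = w := fun w hw => by
      rw [← mem_cen.1 (mem_inf.1 hw).1, mul_inv_cancel_right]
    have hgen : M ⊔ zpowers y = ⊤ := (h x hx).2 _ (lt_of_le_of_ne le_sup_left fun e =>
      hyM ((le_sup_right : zpowers y ≤ _).trans e.ge (mem_zpowers y)))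
    rw [← normalizer_eq_top_iff, ← top_le_iff, ← hgen]
    refine sup_le le_normalizer (zpowers_le.2 (mem_normalizer_iff.2 fun g => ?_))
    have hy1 : ∀ g ∈ M, y * g * y⁻¹ ∈ M := by
      intro g hg
      obtain ⟨w, hw, f, hf, rfl⟩ := hdec g hg
      rw [show y * (w * f) * y⁻¹ = (y * w * y⁻¹) * (y * f * y⁻¹) by group, hyW w hw]
      exact mul_mem (mem_inf.1 hw).2 (hFM (hFn.conj_mem f hf y))
    have hy2 : ∀ g ∈ M, y⁻¹ * g * y ∈ M := by
      intro g hg
      obtain ⟨w, hw, f, hf, rfl⟩ := hdec g hg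
      have h1 : y⁻¹ * w * y = w := by
        conv_lhs => rw [← hyW w hw]
        group
      rw [show y⁻¹ * (w * f) * y = (y⁻¹ * w * y) * (y⁻¹ * f * y) by group, h1]
      refine mul_mem (mem_inf.1 hw).2 (hFM ?_)
      simpa using hFn.conj_mem f hf y⁻¹
    exact ⟨hy1 g, fun hg => by simpa [mul_assoc] using hy2 _ hg⟩
  have hMF : ∀ f ∈ F, M ≤ cen f := by
    let K : Subgroup G := F ⊓ centralizer (M : Set G)
    haveI : K.Normal := inferInstance
    have hxK : x ∈ K := mem_inf.2 ⟨hxF, mem_centralizer_iff.2 fun g hg => mem_cen.1 hg⟩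
    have hKF : K = F := by
      by_contra hne
      exact hxZ (hmin K inferInstance inf_le_left hne hxK)
    intro f hf g hg
    exact mem_cen.2 (mem_centralizer_iff.1 (mem_inf.1 (hKF.symm ▸ hf : f ∈ K)).2 g hg)
  have hZM : centralizer (N : Set G) ≤ M := fun z hz => mem_cen_of_central hz hx.1
  -- `M ⊓ cen y ⊓ N` is central
  have hHM : ∀ v ∈ N, v ∈ cen y → v ∈ M → v ∈ centralizer (N : Set G) := by
    intro v hv hvy hvM
    have hle : zpowers v ≤ centralizer (N : Set G) := le_of_prime_power_mem fun w hw ⟨q, b, hq, hb⟩ => by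
      obtain ⟨i, rfl⟩ := mem_zpowers_iff.1 hw
      by_cases hqr : q = r
      · exact hrp _ (N.zpow_mem hv i) ((cen y).zpow_mem hvy i) b (by rw [hb, hqr])
      · refine hxr _ (N.zpow_mem hv i) (M.zpow_mem hvM i) ?_
        rw [hb]
        exact Nat.Coprime.pow_left b ((Nat.coprime_primes hq Fact.out).2 hqr)
    exact hle (mem_zpowers v)
  have hdecN : ∀ n ∈ N, ∃ c ∈ N, c ∈ cen y ∧ ∃ f ∈ F, c * f = n := by
    intro n hn
    obtain ⟨c, hc, f, hf, hcf⟩ := mem_sup_of_normal_right.1 (hsupy ▸ mem_top n)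
    refine ⟨c, ?_, hc, f, hf, hcf⟩
    rw [show c = n * f⁻¹ by rw [← hcf, mul_inv_cancel_right]]
    exact mul_mem hn (inv_mem (hFN hf))
  -- the quotient modulo the center
  set π := QuotientGroup.mk' (center N)
  set H := (cen y ⊓ N).subgroupOf N
  set L := F.subgroupOf N
  set Q := H.map π
  set K := L.map π
  have hπ1 : ∀ n : N, π n = 1 ↔ (n : G) ∈ centralizer (N : Set G) := fun n =>
    (QuotientGroup.eq_one_iff n).trans (mem_center_iff_centralizer n)
  have hQmem : ∀ n : N, π n ∈ Q → (n : G) ∈ cen y := by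
    rintro n ⟨m, hm, hmn⟩
    have h1 : π (m⁻¹ * n) = 1 := by rw [map_mul, map_inv, hmn, inv_mul_cancel]
    have h2 : (n : G) = (m : G) * ((m⁻¹ * n : N) : G) := by push_cast; group
    rw [h2]
    exact mul_mem (mem_inf.1 (mem_subgroupOf.1 hm)).1 (mem_cen_of_central ((hπ1 _).1 h1) hy.1)
  haveI hKn : K.Normal := Subgroup.Normal.map inferInstance π (QuotientGroup.mk'_surjective _)
  have hdis : ∀ v, v ∈ Q → v ∈ K → v = 1 := by
    rintro v hvQ ⟨n, hn, rfl⟩
    exact (hπ1 n).2 (hfix n (mem_subgroupOf.1 hn) (hQmem n hvQ))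
  -- the order of `Q`
  haveI : Fintype Q := Fintype.ofFinite _
  have hquot : ∀ T : Subgroup (G ⧸ M), T = ⊥ ∨ T = ⊤ := by
    intro T
    rcases (h x hx).le_iff.1 (show M ≤ T.comap (QuotientGroup.mk' M) from
      (QuotientGroup.ker_mk' M).symm.le.trans (MonoidHom.ker_le_comap _ _)) with e | e
    · exact Or.inr (comap_injective (QuotientGroup.mk'_surjective M) (by rw [e, comap_top]))
    · exact Or.inl (comap_injective (QuotientGroup.mk'_surjective M) (by
        rw [e, MonoidHom.comap_bot, QuotientGroup.ker_mk']))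
  have hprimeM : (Nat.card (G ⧸ M)).Prime := by
    have hyq : QuotientGroup.mk' M y ≠ 1 := fun e => hyM ((QuotientGroup.eq_one_iff y).1 e)
    haveI : Nontrivial (G ⧸ M) := ⟨⟨_, _, hyq⟩⟩
    obtain ⟨ℓ, hℓ, hℓd⟩ := Nat.exists_prime_and_dvd (Finite.one_lt_card (α := G ⧸ M)).ne'
    haveI : Fact ℓ.Prime := ⟨hℓ⟩
    obtain ⟨e, he⟩ := exists_prime_orderOf_dvd_card' ℓ hℓd
    have hgen : zpowers e = ⊤ := (hquot _).resolve_left (zpowers_ne_bot.2 fun e1 => hℓ.ne_one (by
      rw [← he, e1, orderOf_one]))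
    rwa [← Subgroup.card_top, ← hgen, Nat.card_zpowers, he]
  have hπy : π ⟨y, hy.1⟩ ∈ Q := mem_map_of_mem π (mem_subgroupOf.2 ⟨mem_cen.2 rfl, hy.1⟩)
  have hπy1 : π ⟨y, hy.1⟩ ≠ 1 := fun e => hy.2 ((hπ1 _).1 e)
  let θ : ↥N ⧸ center ↥N →* G ⧸ M := QuotientGroup.lift (center N) ((QuotientGroup.mk' M).comp N.subtype)
    fun n hn => by
      rw [MonoidHom.mem_ker, MonoidHom.comp_apply]
      exact (QuotientGroup.eq_one_iff _).2 (hZM ((mem_center_iff_centralizer n).1 hn))
  have hQcard : (Nat.card Q).Prime := by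
    have hinj : Function.Injective (θ.comp Q.subtype) := by
      rw [← MonoidHom.ker_eq_bot_iff, eq_bot_iff]
      rintro ⟨v, hv⟩ hk
      obtain ⟨n, rfl⟩ := QuotientGroup.mk'_surjective _ v
      have h1 : (n : G) ∈ M := (QuotientGroup.eq_one_iff _).1 hk
      exact mem_bot.2 (Subtype.ext ((hπ1 n).2 (hHM n n.2 (hQmem n hv) h1)))
    have h1 := Subgroup.card_dvd_of_injective _ hinj
    rcases (Nat.dvd_prime hprimeM).1 h1 with h2 | h2
    · exact absurd ((Subgroup.card_eq_one.1 h2) ▸ hπy) (by rwa [mem_bot])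
    · rwa [h2]
  have hQnorm : ∀ v, v ∈ normalizer (Q : Set (↥N ⧸ center ↥N)) → v ∈ Q := by
    intro v hv
    obtain ⟨n, rfl⟩ := QuotientGroup.mk'_surjective _ v
    obtain ⟨c, hcN, hcy, f, hf, hcf⟩ := hdecN n n.2
    have hn : n = ⟨c, hcN⟩ * ⟨f, hFN hf⟩ := Subtype.ext hcf.symm
    have hcQ : π ⟨c, hcN⟩ ∈ Q := mem_map_of_mem π (mem_subgroupOf.2 ⟨hcy, hcN⟩)
    have hfn : π ⟨f, hFN hf⟩ ∈ normalizer (Q : Set (↥N ⧸ center ↥N)) := by
      have := mul_mem (inv_mem (le_normalizer hcQ)) hv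
      rwa [hn, map_mul, inv_mul_cancel_left] at this
    have hconj := mul_mem ((mem_normalizer_iff.1 hfn _).1 hπy) (inv_mem hπy)
    have hinK : π ⟨f, hFN hf⟩ * π ⟨y, hy.1⟩ * (π ⟨f, hFN hf⟩)⁻¹ * (π ⟨y, hy.1⟩)⁻¹ ∈ K := by
      rw [show π ⟨f, hFN hf⟩ * π ⟨y, hy.1⟩ * (π ⟨f, hFN hf⟩)⁻¹ * (π ⟨y, hy.1⟩)⁻¹ =
        π ⟨f, hFN hf⟩ * (π ⟨y, hy.1⟩ * (π ⟨f, hFN hf⟩)⁻¹ * (π ⟨y, hy.1⟩)⁻¹) by group]
      have hfK : π ⟨f, hFN hf⟩ ∈ K := mem_map_of_mem π (mem_subgroupOf.2 hf)
      exact mul_mem hfK (hKn.conj_mem _ (inv_mem hfK) _)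
    have hone := hdis _ hconj hinK
    rw [← map_inv, ← map_mul, ← map_mul, ← map_inv, ← map_mul, hπ1] at hone
    push_cast at hone
    have hcom : Commute f y := commute_of_central_commutator (hcopF f hf)
      (mem_centralizer_iff.1 hone f (hFN hf)) (mem_centralizer_iff.1 hone y hy.1)
    have hfZ := hfix f hf (mem_cen.2 hcom.eq)
    rw [hn, map_mul, (hπ1 ⟨f, hFN hf⟩).2 hfZ, mul_one]
    exact hcQ
  have hFc : IsFrobeniusComplement Q := by
    refine ⟨fun e => hπy1 (by rw [← mem_bot, ← e]; exact hπy), fun e => ?_, fun g hg => ?_⟩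
    · have h1 : π ⟨x, hx.1⟩ ∈ Q := e ▸ mem_top _
      exact hxZ ((hπ1 _).1 (hdis _ h1 (mem_map_of_mem π (mem_subgroupOf.2 hxF))))
    · haveI : Fact (Nat.card Q).Prime := ⟨hQcard⟩
      rcases Subgroup.eq_bot_or_eq_top_of_prime_card ((Q ⊓ MulAut.conj g • Q).subgroupOf Q) with e | e
      · rw [subgroupOf_eq_bot, disjoint_iff] at e
        rwa [inf_comm, ← inf_assoc, inf_idem] at e
      · exfalso
        rw [subgroupOf_eq_top] at e
        have h1 : Q = MulAut.conj g • Q :=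
          eq_of_le_of_card_ge (e.trans inf_le_right) (le_of_eq (Nat.card_congr (equivSMul _ Q).toEquiv).symm)
        exact hg (hQnorm g (mem_normalizer_iff.2 fun t => by
          conv_rhs => rw [h1]
          exact (smul_mem_pointwise_smul_iff).symm))
  have hKab : ∀ a ∈ K, ∀ b ∈ K, a * b = b * a := by
    rintro _ ⟨a, ha, rfl⟩ _ ⟨b, hb, rfl⟩
    rw [← map_mul, ← map_mul]
    exact congrArg π (Subtype.ext (hFab a (mem_subgroupOf.1 ha) b (mem_subgroupOf.1 hb)))
  refine ⟨Q, K, hFc, hQcard, hKn, ?_, ⟨⟨⟨fun a b => Subtype.ext (hKab a a.2 b b.2)⟩⟩, ?_⟩⟩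
  · ext v
    constructor
    · intro hv
      rcases eq_or_ne v 1 with e | e
      · exact Or.inl e
      refine Or.inr fun g hg => e ?_
      rw [mem_pointwise_smul_iff_inv_smul_mem] at hg
      have h1 : g⁻¹ * v * g = 1 := hdis _ (by simpa using hg) (by simpa using hKn.conj_mem v hv g⁻¹)
      calc v = g * (g⁻¹ * v * g) * g⁻¹ := by group
        _ = 1 := by rw [h1]; group
    · rintro (rfl | hv)
      · exact one_mem K
      obtain ⟨n, rfl⟩ := QuotientGroup.mk'_surjective _ v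
      obtain ⟨c, hcN, hcy, f, hf, hcf⟩ := hdecN n n.2
      set q := π ⟨c, hcN⟩
      have hcQ : q ∈ Q := mem_map_of_mem π (mem_subgroupOf.2 ⟨hcy, hcN⟩)
      have hn : π n = q * π ⟨f, hFN hf⟩ := by rw [← map_mul]; exact congrArg π (Subtype.ext hcf.symm)
      have hfK : π ⟨f, hFN hf⟩ ∈ K := mem_map_of_mem π (mem_subgroupOf.2 hf)
      rw [SetLike.mem_coe]
      by_cases hq : q = 1
      · rw [hn, hq, one_mul]; exact hfK
      exfalso
      let ψ : K → K := fun k => ⟨q⁻¹ * k * q * (k : ↥N ⧸ center ↥N)⁻¹,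
        mul_mem (by simpa using hKn.conj_mem _ k.2 q⁻¹) (inv_mem k.2)⟩
      have hψ : Function.Injective ψ := by
        intro a b hab
        have h1 : q⁻¹ * (a : ↥N ⧸ center ↥N) * q * (a : ↥N ⧸ center ↥N)⁻¹ =
            q⁻¹ * (b : ↥N ⧸ center ↥N) * q * (b : ↥N ⧸ center ↥N)⁻¹ := congrArg Subtype.val hab
        set d := (b : ↥N ⧸ center ↥N)⁻¹ * a with hd
        have hdK : d ∈ K := mul_mem (inv_mem b.2) a.2
        have hbK : ∀ k ∈ K, k * (b : ↥N ⧸ center ↥N)⁻¹ = (b : ↥N ⧸ center ↥N)⁻¹ * k := fun k hk =>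
          hKab k hk _ (inv_mem b.2)
        have h2 : q⁻¹ * d * q = d := by
          have hA : q⁻¹ * (a : ↥N ⧸ center ↥N) * q ∈ K := by simpa using hKn.conj_mem _ a.2 q⁻¹
          have hBm : q⁻¹ * (b : ↥N ⧸ center ↥N) * q ∈ K := by simpa using hKn.conj_mem _ b.2 q⁻¹
          calc q⁻¹ * d * q = (q⁻¹ * (b : ↥N ⧸ center ↥N) * q)⁻¹ *
                (q⁻¹ * (a : ↥N ⧸ center ↥N) * q * (a : ↥N ⧸ center ↥N)⁻¹) * a := by rw [hd]; group
            _ = (b : ↥N ⧸ center ↥N)⁻¹ * a := by rw [h1]; group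
        have hcom : Commute q d := by
          calc q * d = q * (q⁻¹ * d * q) := by rw [h2]
            _ = d * q := by group
        have hQd : d ∈ Q := by
          by_contra hdQ
          have hcap := hFc.2.2 d hdQ
          have hqm : q ∈ Q ⊓ MulAut.conj d • Q := by
            refine mem_inf.2 ⟨hcQ, mem_pointwise_smul_iff_inv_smul_mem.2 ?_⟩
            rw [← map_inv]
            show d⁻¹ * q * (d⁻¹)⁻¹ ∈ Q
            rwa [inv_inv, mul_assoc, hcom.eq, inv_mul_cancel_left]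
          rw [hcap, mem_bot] at hqm
          exact hq hqm
        have hd1 := hdis d hQd hdK
        exact Subtype.ext (inv_mul_eq_one.1 hd1).symm
      obtain ⟨k, hk⟩ := (Finite.injective_iff_surjective.1 hψ) ⟨_, hfK⟩
      have hk' : q⁻¹ * (k : ↥N ⧸ center ↥N) * q * (k : ↥N ⧸ center ↥N)⁻¹ = π ⟨f, hFN hf⟩ :=
        congrArg Subtype.val hk
      refine hv (k : ↥N ⧸ center ↥N) (mem_pointwise_smul_iff_inv_smul_mem.2 ?_)
      rw [← map_inv]
      show (k : ↥N ⧸ center ↥N)⁻¹ * π n * ((k : ↥N ⧸ center ↥N)⁻¹)⁻¹ ∈ Q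
      rw [hn, ← hk', show (k : ↥N ⧸ center ↥N)⁻¹ * (q * (q⁻¹ * k * q * (k : ↥N ⧸ center ↥N)⁻¹)) *
        ((k : ↥N ⧸ center ↥N)⁻¹)⁻¹ = q by group]
      exact hcQ
  · rintro _ ⟨a, ha, rfl⟩
    rw [← map_pow, hπ1]
    exact (hd a (mem_subgroupOf.1 ha) a (mem_subgroupOf.1 ha)).1

/-- The dichotomy. -/
theorem main :
    (∃ p : ℕ, p.Prime ∧ IsElementaryAbelian p (⊤ : Subgroup (↥N ⧸ center ↥N))) ∨
    (∃ (Q K : Subgroup (↥N ⧸ center ↥N)) (p : ℕ), p.Prime ∧ IsFrobeniusComplement Q ∧ (Nat.card Q).Prime ∧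
      K.Normal ∧ (K : Set (↥N ⧸ center ↥N)) = frobeniusKernel Q ∧ IsElementaryAbelian p K) := by
  by_cases hna : N ≤ centralizer (N : Set G)
  · refine Or.inl ⟨2, Nat.prime_two, ?_⟩
    have h1 : ∀ q : ↥N ⧸ center ↥N, q = 1 := by
      intro q
      obtain ⟨n, rfl⟩ := QuotientGroup.mk'_surjective _ q
      exact (QuotientGroup.eq_one_iff n).2 ((mem_center_iff_centralizer n).2 (hna n.2))
    exact ⟨⟨⟨fun a b => Subtype.ext (by rw [h1 (a * b : _), h1 (b * a : _)])⟩⟩, fun a _ => h1 _⟩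
  obtain ⟨r, F₁, hr, hF₁⟩ := exists_normal_pgroup h hna
  haveI : Fact r.Prime := ⟨hr⟩
  by_cases hall : ∀ v ∈ N, (orderOf v).Coprime r → v ∈ centralizer (N : Set G)
  · exact Or.inl ⟨r, hr, elementary_case h hr hna hall⟩
  push Not at hall
  obtain ⟨y, hyN, hyr, hyZ⟩ := hall
  obtain ⟨F, hF, hmin⟩ := (Set.toFinite
    {F : Subgroup G | F.Normal ∧ F ≤ N ∧ IsPGroup r F ∧ ¬ F ≤ centralizer (N : Set G)}).exists_minimal ⟨F₁, hF₁⟩
  obtain ⟨hFn, hFN, hFp, hFZ⟩ := hF
  haveI := hFn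
  obtain ⟨Q, K, hQK⟩ := frobenius_case h hFp hFN hFZ (fun K hK hKF hne => by
    by_contra hc
    exact hne (le_antisymm hKF (hmin ⟨hK, hKF.trans hFN, hFp.to_le hKF, hc⟩ hKF))) ⟨hyN, hyZ⟩ hyr
  exact Or.inr ⟨Q, K, r, hr, hQK⟩

end Structure

end Cfsg.Agent.FGS2.MaxCentralizer
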