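import Mathlib
import Cfsg.Prelude.Def_KGroupFacts

/-! Elementary facts on central and stem extensions. -/

namespace Cfsg.Agent.FGS2

open Subgroup
open scoped commutatorElement

variable {X Y Q : Type*} [Group X] [Group Y] [Group Q]

theorem lifts_agree_on_commutator (ξ : Y →* Q) (hc : ξ.ker ≤ center Y) (φ₁ φ₂ : X →* Y)
    (h : ξ.comp φ₁ = ξ.comp φ₂) : commutator X ≤ φ₁.eqLocus φ₂ := by
  rw [commutator_eq_closure, closure_le]
  rintro _ ⟨a, b, rfl⟩
  have key : ∀ x, ∃ z ∈ center Y, φ₁ x = φ₂ x * z := fun x =>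
    ⟨(φ₂ x)⁻¹ * φ₁ x, hc (by
      have := DFunLike.congr_fun h x
      simp only [MonoidHom.coe_comp, Function.comp_apply] at this
      simp [MonoidHom.mem_ker, this]), by group⟩
  obtain ⟨z, hz, ha⟩ := key a
  obtain ⟨w, hw, hb⟩ := key b
  show φ₁ ⁅a, b⁆ = φ₂ ⁅a, b⁆
  rw [map_commutatorElement, map_commutatorElement, ha, hb]
  rw [mem_center_iff] at hz hw
  simp only [commutatorElement_def, mul_inv_rev]
  have h1 : φ₂ a * z * (φ₂ b * w) * (z⁻¹ * (φ₂ a)⁻¹) = φ₂ a * φ₂ b * (φ₂ a)⁻¹ * w := by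
    calc _ = φ₂ a * (z * (φ₂ b * w)) * (z⁻¹ * (φ₂ a)⁻¹) := by group
      _ = φ₂ a * ((φ₂ b * w) * z) * (z⁻¹ * (φ₂ a)⁻¹) := by rw [hz (φ₂ b * w)]
      _ = φ₂ a * φ₂ b * (w * (φ₂ a)⁻¹) := by group
      _ = φ₂ a * φ₂ b * ((φ₂ a)⁻¹ * w) := by rw [hw (φ₂ a)⁻¹]
      _ = _ := by group
  rw [h1]; group

/-- A subgroup that together with a central subgroup generates the group contains all commutators. -/
theorem commutator_le_commutator_of_central_sup (H Z : Subgroup X) (hZ : Z ≤ center X)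
    (h : H ⊔ Z = ⊤) : commutator X ≤ ⁅H, H⁆ := by
  have hZn : Z.Normal := ⟨fun n hn g => by
    rw [Subgroup.mem_center_iff.1 (hZ hn) g]; simpa using hn⟩
  have key : ∀ x : X, ∃ a ∈ H, ∃ z ∈ Z, a * z = x := fun x =>
    Subgroup.mem_sup_of_normal_right.1 (h ▸ mem_top x)
  rw [commutator_eq_closure, closure_le]
  rintro _ ⟨a, b, rfl⟩
  obtain ⟨a', ha', z, hz, rfl⟩ := key a
  obtain ⟨b', hb', w, hw, rfl⟩ := key b
  have hz' := mem_center_iff.1 (hZ hz)
  have hw' := mem_center_iff.1 (hZ hw)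
  have : ⁅a' * z, b' * w⁆ = ⁅a', b'⁆ := by
    simp only [commutatorElement_def, mul_inv_rev]
    calc a' * z * (b' * w) * (z⁻¹ * a'⁻¹) * (w⁻¹ * b'⁻¹)
        = a' * (z * (b' * w)) * (z⁻¹ * a'⁻¹) * (w⁻¹ * b'⁻¹) := by group
      _ = a' * ((b' * w) * z) * (z⁻¹ * a'⁻¹) * (w⁻¹ * b'⁻¹) := by rw [hz' (b' * w)]
      _ = a' * b' * (w * a'⁻¹) * (w⁻¹ * b'⁻¹) := by group
      _ = a' * b' * (a'⁻¹ * w) * (w⁻¹ * b'⁻¹) := by rw [hw' a'⁻¹]
      _ = _ := by group
  rw [this]
  exact commutator_mem_commutator ha' hb'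

/-- A subgroup that together with a central subgroup generates the group contains all commutators. -/
theorem commutator_le_of_central_sup (H Z : Subgroup X) (hZ : Z ≤ center X) (h : H ⊔ Z = ⊤) :
    commutator X ≤ H :=
  (commutator_le_commutator_of_central_sup H Z hZ h).trans
    (commutator_le.2 fun _ ha _ hb =>
      H.mul_mem (H.mul_mem (H.mul_mem ha hb) (H.inv_mem ha)) (H.inv_mem hb))

/-- A stem extension has no proper subgroup mapping onto the quotient. -/
theorem stem_eq_top_of_map_eq_top {σ : X →* Q} (hσ : Cfsg.IsStemExtension σ) (H : Subgroup X)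
    (h : H.map σ = ⊤) : H = ⊤ := by
  obtain ⟨hs, hc, hd⟩ := hσ
  have hsup : H ⊔ σ.ker = ⊤ := by
    rw [← comap_map_eq, h, comap_top]
  have := commutator_le_of_central_sup H σ.ker hc hsup
  rw [eq_top_iff, ← hsup]
  exact sup_le le_rfl (hd.trans this)

theorem surjective_of_stem {σ : X →* Q} (hσ : Cfsg.IsStemExtension σ) {φ : Y →* X}
    (h : Function.Surjective (σ.comp φ)) : Function.Surjective φ := by
  rw [← MonoidHom.range_eq_top]
  apply stem_eq_top_of_map_eq_top hσ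
  rw [MonoidHom.map_range, MonoidHom.range_eq_top.2 h]

/-- Schur: the commutator subgroup of a central extension of a finite group is finite. -/
theorem finite_commutator_of_finite_quotient [Finite Q] (π : X →* Q) (hc : π.ker ≤ center X) :
    Finite (commutator X) := by
  have hbase : ∀ a b a' b' : X, π a = π a' → π b = π b' → ⁅a, b⁆ = ⁅a', b'⁆ := by
    intro a b a' b' ha hb
    have h1 : a'⁻¹ * a ∈ center X := hc (by simp [MonoidHom.mem_ker, ha])
    have h2 : b'⁻¹ * b ∈ center X := hc (by simp [MonoidHom.mem_ker, hb])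
    rw [mem_center_iff] at h1 h2
    obtain ⟨z, rfl⟩ : ∃ z, a = a' * z := ⟨a'⁻¹ * a, by group⟩
    obtain ⟨w, rfl⟩ : ∃ w, b = b' * w := ⟨b'⁻¹ * b, by group⟩
    simp only [inv_mul_cancel_left] at h1 h2
    simp only [commutatorElement_def, mul_inv_rev]
    calc a' * z * (b' * w) * (z⁻¹ * a'⁻¹) * (w⁻¹ * b'⁻¹)
        = a' * (z * (b' * w)) * (z⁻¹ * a'⁻¹) * (w⁻¹ * b'⁻¹) := by group
      _ = a' * ((b' * w) * z) * (z⁻¹ * a'⁻¹) * (w⁻¹ * b'⁻¹) := by rw [h1 (b' * w)]
      _ = a' * b' * (w * a'⁻¹) * (w⁻¹ * b'⁻¹) := by group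
      _ = a' * b' * (a'⁻¹ * w) * (w⁻¹ * b'⁻¹) := by rw [h2 a'⁻¹]
      _ = _ := by group
  classical
  let r : Q → X := fun q => if h : ∃ x, π x = q then h.choose else 1
  have hr : ∀ x, π (r (π x)) = π x := fun x => by
    have hx : ∃ y, π y = π x := ⟨x, rfl⟩
    simp only [r, dif_pos hx]; exact hx.choose_spec
  have : (commutatorSet X) ⊆ Set.range fun p : Q × Q => ⁅r p.1, r p.2⁆ := by
    rintro _ ⟨a, b, rfl⟩
    exact ⟨(π a, π b), hbase _ _ _ _ (hr a) (hr b)⟩
  have : Finite (commutatorSet X) :=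
    ((Set.finite_range _).subset this).to_subtype
  infer_instance

/-- Grün's lemma in the form: a perfect central extension maps centre onto centre. -/
theorem map_center_of_perfect (hX : commutator X = ⊤) (π : X →* Q) (hπ : Function.Surjective π)
    (hker : π.ker ≤ center X) : (center X).map π = center Q := by
  apply le_antisymm
  · rintro _ ⟨z, hz, rfl⟩
    rw [mem_center_iff]
    intro q
    obtain ⟨x, rfl⟩ := hπ q
    rw [← map_mul, ← map_mul, mem_center_iff.1 hz x]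
  · intro q hq
    obtain ⟨z, rfl⟩ := hπ q
    refine ⟨z, ?_, rfl⟩
    have h := lifts_agree_on_commutator π hker (MulAut.conj z).toMonoidHom (MonoidHom.id X) (by
      ext x
      have := mem_center_iff.1 hq (π x)
      simp [← this])
    rw [SetLike.mem_coe, mem_center_iff]
    intro x
    have := h (hX ▸ mem_top x)
    change z * x * z⁻¹ = x at this
    exact (mul_inv_eq_iff_eq_mul.1 this).symm

end Cfsg.Agent.FGS2
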