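import Cfsg.Agent.FGS2.Schur

/-! Tools for computing small Schur multipliers. -/

namespace Cfsg.Agent.FGS2

open Subgroup
open scoped commutatorElement

universe u v w

theorem hasCyclic_one_of_stem_ker_eq_bot {Q : Type u} [Group Q] [Finite Q]
    (h : ∀ (Γ : Type u) [Group Γ] [Finite Γ] (σ : Γ →* Q), Cfsg.IsStemExtension σ → σ.ker = ⊥) :
    Cfsg.HasCyclicSchurMultiplier Q 1 := by
  rw [hasCyclicSchurMultiplier_one_iff]
  obtain ⟨Γ, _, _, σ, hσ, ⟨e⟩⟩ := exists_cover (Q := Q)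
  rw [Subgroup.eq_bot_iff_forall]
  intro x hx
  have h1 : e.symm ⟨x, hx⟩ = 1 := Subtype.ext (by
    have := (e.symm ⟨x, hx⟩).2
    simpa [h Γ σ hσ] using this)
  have h2 := congrArg e h1
  rw [e.apply_symm_apply, map_one] at h2
  exact congrArg Subtype.val h2

/-- A surjection from `ZMod n` onto a subgroup of a cyclic group with exponent `n`. -/
theorem exists_surj_zmod {Γ : Type v} [Group Γ] {n : ℕ} {K : Subgroup Γ} {d : Γ}
    (hK : K ≤ zpowers d) (hd : d ^ n = 1) :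
    ∃ π : Multiplicative (ZMod n) →* K, Function.Surjective π := by
  have : IsCyclic K := isCyclic_of_injective (Subgroup.inclusion hK) (Subgroup.inclusion_injective hK)
  obtain ⟨g, hg⟩ := IsCyclic.exists_generator (α := K)
  have hgn : g ^ n = 1 := by
    obtain ⟨k, hk⟩ := Subgroup.mem_zpowers_iff.1 (hK g.2)
    apply Subtype.ext
    rw [SubmonoidClass.coe_pow, ← hk, OneMemClass.coe_one, ← zpow_natCast, ← zpow_mul, mul_comm,
      zpow_mul, zpow_natCast, hd, one_zpow]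
  let f : {f : ℤ →+ Additive K // f n = 0} := ⟨zmultiplesHom _ (Additive.ofMul g), by
    show (n : ℤ) • Additive.ofMul g = 0
    rw [natCast_zsmul, ← ofMul_pow, hgn]; rfl⟩
  refine ⟨AddMonoidHom.toMultiplicativeLeft (ZMod.lift n f), fun y => ?_⟩
  obtain ⟨k, rfl⟩ := Subgroup.mem_zpowers_iff.1 (hg y)
  exact ⟨Multiplicative.ofAdd (k : ZMod n), by simp [f]⟩

variable {Γ : Type u} [Group Γ]

/-- The commutator subgroup of a two-generated group with normalized `⟨⁅b, a⁆⟩`. -/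
theorem commutator_le_zpowers [Finite Γ] {a b : Γ} (hgen : closure ({a, b} : Set Γ) = ⊤)
    (ha : a * ⁅b, a⁆ * a⁻¹ ∈ zpowers ⁅b, a⁆) (hb : b * ⁅b, a⁆ * b⁻¹ ∈ zpowers ⁅b, a⁆) :
    commutator Γ ≤ zpowers ⁅b, a⁆ := by
  set N := zpowers ⁅b, a⁆ with hN
  have hmem : ∀ g : Γ, g * ⁅b, a⁆ * g⁻¹ ∈ N → g ∈ normalizer (N : Set Γ) := by
    intro g hg
    have hle : N.map (MulAut.conj g).toMonoidHom ≤ N := by
      rw [hN, MonoidHom.map_zpowers, zpowers_le]; exact hg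
    have heq : N.map (MulAut.conj g).toMonoidHom = N :=
      eq_of_le_of_card_ge hle (Subgroup.card_map_of_injective (MulAut.conj g).injective).ge
    rw [Subgroup.mem_normalizer_iff]
    intro x
    have := Subgroup.mem_map_equiv (f := MulAut.conj g) (K := N) (x := g * x * g⁻¹)
    rw [show N.map (MulAut.conj g : Γ ≃* Γ).toMonoidHom = N from heq] at this
    refine (this.trans ?_).symm
    simp [mul_assoc]
  have : N.Normal := by
    rw [← Subgroup.normalizer_eq_top_iff, eq_top_iff, ← hgen, closure_le]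
    rintro x (rfl | rfl)
    · exact hmem _ ha
    · exact hmem _ hb
  have hcomm : ∀ x ∈ ({a, b} : Set Γ), ∀ y ∈ ({a, b} : Set Γ),
      QuotientGroup.mk' N x * QuotientGroup.mk' N y = QuotientGroup.mk' N y * QuotientGroup.mk' N x := by
    have h1 : QuotientGroup.mk' N b * QuotientGroup.mk' N a = QuotientGroup.mk' N a * QuotientGroup.mk' N b := by
      rw [← commutatorElement_eq_one_iff_mul_comm, ← map_commutatorElement, ← MonoidHom.mem_ker,
        QuotientGroup.ker_mk']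
      exact mem_zpowers _
    rintro x (rfl | rfl) y (rfl | rfl) <;> first | rfl | exact h1 | exact h1.symm
  have htop : closure ((QuotientGroup.mk' N) '' {a, b}) = ⊤ := by
    rw [← MonoidHom.map_closure, hgen, ← MonoidHom.range_eq_map, QuotientGroup.range_mk']
  have := Subgroup.isMulCommutative_closure (k := (QuotientGroup.mk' N) '' {a, b}) (by
    rintro _ ⟨x, hx, rfl⟩ _ ⟨y, hy, rfl⟩; exact hcomm x hx y hy)
  rw [commutator_eq_closure, closure_le]
  rintro _ ⟨x, y, rfl⟩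
  rw [SetLike.mem_coe, ← QuotientGroup.ker_mk' N, MonoidHom.mem_ker, map_commutatorElement,
    commutatorElement_eq_one_iff_mul_comm]
  have hx : QuotientGroup.mk' N x ∈ closure ((QuotientGroup.mk' N) '' {a, b}) := htop ▸ mem_top _
  have hy : QuotientGroup.mk' N y ∈ closure ((QuotientGroup.mk' N) '' {a, b}) := htop ▸ mem_top _
  exact congrArg Subtype.val (this.is_comm.comm ⟨_, hx⟩ ⟨_, hy⟩)

theorem closure_pair_of_stem {Q : Type v} [Group Q] {σ : Γ →* Q} (hσ : Cfsg.IsStemExtension σ)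
    {a b : Γ} (h : closure ({σ a, σ b} : Set Q) = ⊤) : closure ({a, b} : Set Γ) = ⊤ := by
  apply stem_eq_top_of_map_eq_top hσ
  rw [MonoidHom.map_closure, Set.image_pair, h]

/-- In a stem extension of a dihedral-like quotient the commutator subgroup is
cyclic of exponent dividing `n`. -/
theorem stem_dihedral_like [Finite Γ] {Q : Type v} [Group Q] {σ : Γ →* Q}
    (hσ : Cfsg.IsStemExtension σ) {a x : Γ} {n : ℕ}
    (hgen : closure ({σ a, σ x} : Set Q) = ⊤) (hrel : σ x * σ a * (σ x)⁻¹ = (σ a)⁻¹)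
    (hn : Commute (a ^ n) x) :
    ⁅x, a⁆ ^ n = 1 ∧ commutator Γ ≤ zpowers ⁅x, a⁆ ∧ σ ⁅x, a⁆ = ((σ a) ^ 2)⁻¹ := by
  obtain ⟨w, hw, hxa⟩ : ∃ w ∈ σ.ker, x * a * x⁻¹ = a⁻¹ * w :=
    ⟨a * (x * a * x⁻¹), by rw [MonoidHom.mem_ker, map_mul, map_mul, map_mul, map_inv, hrel,
      mul_inv_cancel], by group⟩
  have hwc := Subgroup.mem_center_iff.1 (hσ.2.1 hw)
  have hc : ⁅x, a⁆ = a⁻¹ * a⁻¹ * w := by
    rw [commutatorElement_def, hxa, mul_assoc, ← hwc, ← mul_assoc]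
  have hwi : ∀ y : Γ, y * w⁻¹ = w⁻¹ * y := fun y => (Commute.inv_right (hwc y)).eq
  have hA : a * ⁅x, a⁆ * a⁻¹ = ⁅x, a⁆ := by
    rw [hc]
    calc a * (a⁻¹ * a⁻¹ * w) * a⁻¹ = a⁻¹ * (w * a⁻¹) := by group
      _ = a⁻¹ * (a⁻¹ * w) := by rw [hwc a⁻¹]
      _ = _ := by group
  have hX : x * ⁅x, a⁆ * x⁻¹ = ⁅x, a⁆⁻¹ := by
    rw [hc]
    calc x * (a⁻¹ * a⁻¹ * w) * x⁻¹ = (x * a * x⁻¹)⁻¹ * (x * a * x⁻¹)⁻¹ * (x * w * x⁻¹) := by group
      _ = (w⁻¹ * a) * (w⁻¹ * a) * w := by rw [hxa, hwc x]; group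
      _ = w⁻¹ * (a * w⁻¹) * (a * w) := by group
      _ = w⁻¹ * (w⁻¹ * a) * (w * a) := by rw [hwi a, hwc a]
      _ = w⁻¹ * w⁻¹ * (a * w) * a := by group
      _ = w⁻¹ * w⁻¹ * (w * a) * a := by rw [hwc a]
      _ = _ := by simp [mul_assoc]
  refine ⟨?_, ?_, ?_⟩
  · have hcw : Commute a⁻¹ w := hwc _
    have h1 : (a⁻¹ * w) ^ n = a ^ n := by
      rw [← hxa, conj_pow, ← hn.eq, mul_inv_cancel_right]
    rw [hcw.mul_pow] at h1
    rw [hc, mul_assoc, Commute.mul_pow ((Commute.refl a⁻¹).mul_right hcw), hcw.mul_pow, h1,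
      inv_pow, inv_mul_cancel]
  · apply commutator_le_zpowers (closure_pair_of_stem hσ hgen)
    · rw [hA]; exact mem_zpowers _
    · rw [hX]; exact inv_mem (mem_zpowers _)
  · rw [hc, map_mul, MonoidHom.mem_ker.1 hw, mul_one, map_mul, map_inv, pow_two, mul_inv_rev]

theorem mem_zpowers_pow_of_map_eq_one [Finite Γ] {Q : Type v} [Group Q] (σ : Γ →* Q) {c z : Γ}
    {k : ℕ} (hc : z ∈ zpowers c) (hz : σ z = 1) (hk : orderOf (σ c) = k) : z ∈ zpowers (c ^ k) := by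
  rw [← mem_powers_iff_mem_zpowers] at hc
  obtain ⟨i, rfl⟩ := hc
  rw [map_pow, ← orderOf_dvd_iff_pow_eq_one, hk] at hz
  obtain ⟨j, rfl⟩ := hz
  exact Subgroup.mem_zpowers_iff.2 ⟨j, by rw [zpow_natCast, ← pow_mul]⟩

end Cfsg.Agent.FGS2
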