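import Cfsg.Agent.Core.SchurZassenhaus
import Cfsg.Agent.Core.Conj

/-! Lifting cyclic subgroups through a normal subgroup of coprime order. -/

namespace Cfsg.Agent.FGS2

open Subgroup
open scoped Pointwise

variable {G : Type*} [Group G] [Finite G] (N : Subgroup G) [N.Normal]

theorem exists_lift_orderOf (z : G ⧸ N) (h : (orderOf z).Coprime (Nat.card N)) :
    ∃ x : G, (x : G ⧸ N) = z ∧ orderOf x = orderOf z := by
  obtain ⟨g, rfl⟩ := QuotientGroup.mk_surjective z
  set o := orderOf (g : G ⧸ N) with ho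
  obtain ⟨c, hc⟩ : ∃ c, Nat.card N * c ≡ 1 [MOD o] := by
    rcases Nat.eq_zero_or_pos (o - 1) with h0 | h0
    · refine ⟨0, ?_⟩
      have : o = 1 := by have := orderOf_pos (g : G ⧸ N); omega
      rw [this]; exact Nat.modEq_one
    · obtain ⟨c, -, hc⟩ := Nat.exists_mul_mod_eq_one_of_coprime h.symm (by omega)
      exact ⟨c, by rw [Nat.ModEq, hc, Nat.one_mod_eq_one.2 (by omega)]⟩
  have hx : ((g ^ (Nat.card N * c) : G) : G ⧸ N) = (g : G ⧸ N) := by
    rw [QuotientGroup.mk_pow]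
    conv_rhs => rw [← pow_one (g : G ⧸ N)]
    exact pow_eq_pow_iff_modEq.2 hc
  refine ⟨_, hx, Nat.dvd_antisymm (orderOf_dvd_of_pow_eq_one ?_) ?_⟩
  · have h1 : g ^ o ∈ N := by
      rw [← QuotientGroup.eq_one_iff, QuotientGroup.mk_pow, ho, pow_orderOf_eq_one]
    rw [← pow_mul, mul_comm (Nat.card N * c) o, ← mul_assoc, pow_mul, pow_mul]
    have h2 : (g ^ o) ^ Nat.card N = 1 := congrArg Subtype.val (pow_card_eq_one' (x := (⟨_, h1⟩ : N)))
    rw [h2, one_pow]
  · conv_lhs => rw [ho, ← hx]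
    exact orderOf_map_dvd (QuotientGroup.mk' N) _

theorem conj_lifts {x x' : G} (hcop : (orderOf (x : G ⧸ N)).Coprime (Nat.card N))
    (hx : orderOf x = orderOf (x : G ⧸ N)) (hx' : orderOf x' = orderOf (x : G ⧸ N))
    (hmem : (x' : G ⧸ N) ∈ zpowers (x : G ⧸ N)) :
    ∃ n ∈ N, MulAut.conj n • zpowers x = zpowers x' := by
  let T := (zpowers (x : G ⧸ N)).comap (QuotientGroup.mk' N)
  have hNT : N ≤ T := fun n hn => by
    show (n : G ⧸ N) ∈ zpowers _
    rw [(QuotientGroup.eq_one_iff n).2 hn]; exact one_mem _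
  have hxT : x ∈ T := mem_zpowers (x : G ⧸ N)
  have hx'T : x' ∈ T := hmem
  let f : T →* zpowers (x : G ⧸ N) :=
    ((QuotientGroup.mk' N).comp T.subtype).codRestrict _ fun y => y.2
  have hf : Function.Surjective f := fun y => by
    obtain ⟨g, hg⟩ := QuotientGroup.mk'_surjective N y.1
    exact ⟨⟨g, show (QuotientGroup.mk' N) g ∈ _ from hg ▸ y.2⟩, Subtype.ext hg⟩
  have hker : f.ker = N.subgroupOf T := by
    ext y
    rw [MonoidHom.mem_ker, mem_subgroupOf, ← QuotientGroup.eq_one_iff]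
    exact Subtype.ext_iff
  have hidx : (N.subgroupOf T).index = orderOf (x : G ⧸ N) := by
    rw [← hker, index_ker, MonoidHom.range_eq_top.2 hf, card_top, Nat.card_zpowers]
  have hcardN : Nat.card (N.subgroupOf T) = Nat.card N :=
    Nat.card_congr (subgroupOfEquivOfLe hNT).toEquiv
  have hsolv : Group.IsSolvable (T ⧸ N.subgroupOf T) := by
    let e := QuotientGroup.quotientKerEquivOfSurjective f hf
    have : IsCyclic (T ⧸ f.ker) := isCyclic_of_surjective e.symm.toMonoidHom e.symm.surjective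
    have hcyc : IsCyclic (T ⧸ N.subgroupOf T) :=
      isCyclic_of_surjective (QuotientGroup.quotientMulEquivOfEq hker).toMonoidHom (MulEquiv.surjective _)
    let _ : CommGroup (T ⧸ N.subgroupOf T) := IsCyclic.commGroup
    infer_instance
  obtain ⟨n, hn, hH⟩ := Cfsg.Agent.Core.exists_conj_eq_of_coprime (N := N.subgroupOf T)
    (by rw [hidx, hcardN]; exact hcop.symm) (Or.inr hsolv)
    (H := zpowers (⟨x, hxT⟩ : T)) (K := zpowers (⟨x', hx'T⟩ : T))
    (by rw [hidx, Nat.card_zpowers, orderOf_mk, hx]) (by rw [hidx, Nat.card_zpowers, orderOf_mk, hx'])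
  refine ⟨n, hn, ?_⟩
  have := congrArg (Subgroup.map T.subtype) hH
  rw [Cfsg.Agent.Core.conj_smul_eq_map] at this
  rw [Cfsg.Agent.Core.conj_smul_eq_map]
  rw [MonoidHom.map_zpowers, MonoidHom.map_zpowers, MonoidHom.map_zpowers] at this
  rw [MonoidHom.map_zpowers]
  exact this

end Cfsg.Agent.FGS2
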