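import Cfsg.Agent.Chars.Induced
import Cfsg.Agent.Chars.Linear
import Cfsg.Agent.Chars2.ClassSum
import Mathlib.Tactic

/-!
No finite group has an abelian TI subgroup `C` of order `2q` (`q ≥ 3` odd) which is the centraliser
of its elements of order at least three, with normaliser `C⟨u⟩` inverting it, a single class of
involutions and all products of two involutions conjugate into `C`.
-/

set_option autoImplicit false
set_option linter.style.haveILetI false

namespace Cfsg.Agent.FGS2.KleinTI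

open Cfsg.Agent.Chars
open scoped ComplexConjugate

/-- The hypotheses. -/
structure Config {G : Type*} [Group G] (C : Subgroup G) (q : ℕ) (t u : G) : Prop where
  comm : ∀ a ∈ C, ∀ b ∈ C, a * b = b * a
  card : Nat.card C = 2 * q
  odd : Odd q
  three_le : 3 ≤ q
  t_mem : t ∈ C
  t_ord : orderOf t = 2
  u_not : u ∉ C
  u_sq : u * u = 1
  u_inv : ∀ x ∈ C, u * x * u⁻¹ = x⁻¹
  ti : ∀ x ∈ C, x ≠ 1 → ∀ g : G, g * x * g⁻¹ ∈ C → g ∈ C ∨ g * u⁻¹ ∈ C
  invol : ∀ i : G, orderOf i = 2 → IsConj t i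
  real : ∀ i j : G, orderOf i = 2 → orderOf j = 2 → i ≠ j → ∃ h : G, h * (i * j) * h⁻¹ ∈ C

theorem two_support {X : Type*} [Fintype X] [DecidableEq X] (f : X → ℤ) (h : ∑ x, f x * f x = 2) :
    ∃ a b, a ≠ b ∧ f a * f a = 1 ∧ f b * f b = 1 ∧ ∀ x, x ≠ a → x ≠ b → f x = 0 := by
  have hle : ∀ x, f x * f x ≤ 2 := fun x => h ▸
    Finset.single_le_sum (f := fun x => f x * f x) (fun y _ => mul_self_nonneg _) (Finset.mem_univ x)
  have h01 : ∀ x, f x ≠ 0 → f x * f x = 1 := by
    intro x hx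
    have := hle x
    have h1 : -1 ≤ f x := by nlinarith
    have h2 : f x ≤ 1 := by nlinarith
    rcases (by omega : f x = -1 ∨ f x = 1) with e | e <;> simp [e]
  let S := Finset.univ.filter fun x => f x ≠ 0
  have hS : (S.card : ℤ) = 2 := by
    rw [← h, ← Finset.sum_filter_add_sum_filter_not Finset.univ (fun x => f x ≠ 0)]
    rw [Finset.sum_congr rfl (fun x hx => h01 x (Finset.mem_filter.mp hx).2),
      Finset.sum_eq_zero (s := Finset.univ.filter fun x => ¬ f x ≠ 0) (fun x hx => by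
        rw [not_not.mp (Finset.mem_filter.mp hx).2, mul_zero])]
    simp [S]
  obtain ⟨a, b, hab, hSab⟩ := Finset.card_eq_two.mp (by exact_mod_cast hS : S.card = 2)
  have hmem : ∀ x, x ∈ S ↔ x = a ∨ x = b := fun x => by rw [hSab]; simp
  refine ⟨a, b, hab, h01 a (Finset.mem_filter.mp ((hmem a).2 (Or.inl rfl))).2,
    h01 b (Finset.mem_filter.mp ((hmem b).2 (Or.inr rfl))).2, fun x hxa hxb => ?_⟩
  by_contra hx
  rcases (hmem x).1 (Finset.mem_filter.mpr ⟨Finset.mem_univ x, hx⟩) with e | e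
  · exact hxa e
  · exact hxb e

theorem sum_two_support {X : Type*} [Fintype X] [DecidableEq X] {R : Type*} [AddCommMonoid R]
    (F : X → R) {a b : X} (hab : a ≠ b) (h : ∀ x, x ≠ a → x ≠ b → F x = 0) :
    ∑ x, F x = F a + F b := by
  rw [← Finset.sum_pair hab]
  exact (Finset.sum_subset (Finset.subset_univ _) fun x _ hx => h x
    (fun e => hx (by simp [e])) (fun e => hx (by simp [e]))).symm

theorem pick {a b g k : ℤ} (ha : a * a = 1) (hb : b * b = 1) (hg : -1 ≤ g ∧ g ≤ 1) (hk : -1 ≤ k ∧ k ≤ 1)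
    (e : a * g + b * k = 1) : (g = a ∧ k = 0) ∨ (g = 0 ∧ k = b) := by
  rcases mul_self_eq_one_iff.1 ha with rfl | rfl <;> rcases mul_self_eq_one_iff.1 hb with rfl | rfl <;> omega

/-- The combinatorics of the decompositions. -/
theorem combinatorics {X : Type*} [Fintype X] [DecidableEq X] {Φ : Type*} (l1 l2 m : Φ) (d : Φ → X → ℤ)
    (nr : Φ → Prop) (inv : Φ → Φ) (h1 : nr l1) (h2 : nr l2) (h12 : l2 ≠ l1) (h12' : l2 ≠ inv l1)
    (hself : ∀ φ, nr φ → ∑ x, d φ x * d φ x = 2)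
    (hm : ∑ x, d m x * d m x = 3)
    (hsymm : ∀ φ, nr φ → d (inv φ) = d φ)
    (hmi : ∀ φ, nr φ → ∑ x, d φ x * d m x = 1)
    (hpair : ∀ φ ψ, nr φ → nr ψ → ψ ≠ φ → ψ ≠ inv φ → ∑ x, d φ x * d ψ x = 1) :
    ∃ (A B : X) (a b : ℤ), A ≠ B ∧ a * a = 1 ∧ b * b = 1 ∧ d l1 A = a ∧ d l1 B = b ∧
      (∀ x, x ≠ A → x ≠ B → d l1 x = 0) ∧ (∀ φ, nr φ → d φ A = a) ∧
      (∀ φ, nr φ → φ ≠ l1 → φ ≠ inv l1 → d φ B = 0) ∧
      ((d m A = a ∧ d m B = 0) ∨ (d m A = 0 ∧ d m B = b)) := by
  have hwle : ∀ x, -1 ≤ d m x ∧ d m x ≤ 1 := fun x => by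
    have := hm ▸ Finset.single_le_sum (f := fun x => d m x * d m x) (fun y _ => mul_self_nonneg _) (Finset.mem_univ x)
    constructor <;> nlinarith
  have hgle : ∀ φ, nr φ → ∀ x, -1 ≤ d φ x ∧ d φ x ≤ 1 := fun φ hφ x => by
    have := hself φ hφ ▸ Finset.single_le_sum (f := fun x => d φ x * d φ x) (fun y _ => mul_self_nonneg _) (Finset.mem_univ x)
    constructor <;> nlinarith
  have sq1 : ∀ z : ℤ, z * z = 1 → z = 1 ∨ z = -1 := fun z hz => mul_self_eq_one_iff.mp hz
  obtain ⟨A0, B0, hAB0, ha0, hb0, hrest0⟩ := two_support (d l1) (hself l1 h1)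
  obtain ⟨P, Q, hPQ, hP, hQ, hrest2⟩ := two_support (d l2) (hself l2 h2)
  have e12 := hpair l1 l2 h1 h2 h12 h12'
  rw [sum_two_support _ hAB0 (fun x hxa hxb => by rw [hrest0 x hxa hxb, zero_mul])] at e12
  -- choose `A` to be the common one
  obtain ⟨A, B, hAB, ha, hb, hrest, hA2, hB2⟩ : ∃ A B, A ≠ B ∧ d l1 A * d l1 A = 1 ∧ d l1 B * d l1 B = 1 ∧
      (∀ x, x ≠ A → x ≠ B → d l1 x = 0) ∧ d l2 A = d l1 A ∧ d l2 B = 0 := by
    rcases pick ha0 hb0 (hgle l2 h2 A0) (hgle l2 h2 B0) e12 with ⟨e, e'⟩ | ⟨e, e'⟩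
    · exact ⟨A0, B0, hAB0, ha0, hb0, hrest0, e, e'⟩
    · exact ⟨B0, A0, hAB0.symm, hb0, ha0, fun x hxa hxb => hrest0 x hxb hxa, e', e⟩
  obtain ⟨C, hCA, hC, hrestC⟩ : ∃ C, C ≠ A ∧ d l2 C * d l2 C = 1 ∧ ∀ x, x ≠ A → x ≠ C → d l2 x = 0 := by
    have hA0 : d l2 A ≠ 0 := by rw [hA2]; intro e; rw [e] at ha; norm_num at ha
    by_cases e : P = A
    · subst e; exact ⟨Q, hPQ.symm, hQ, hrest2⟩
    · have : Q = A := by
        by_contra e'
        exact hA0 (hrest2 A (Ne.symm e) (Ne.symm e'))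
      subst this
      exact ⟨P, hPQ, hP, fun x hx1 hx2 => hrest2 x hx2 hx1⟩
  have hBC : B ≠ C := fun e => by rw [← e, hB2] at hC; norm_num at hC
  have i1 : ∀ g : X → ℤ, ∑ x, d l1 x * g x = d l1 A * g A + d l1 B * g B := fun g =>
    sum_two_support _ hAB (fun x hxa hxb => by rw [hrest x hxa hxb, zero_mul])
  have i2 : ∀ g : X → ℤ, ∑ x, d l2 x * g x = d l1 A * g A + d l2 C * g C := fun g => by
    rw [sum_two_support _ hCA.symm (fun x hxa hxb => by rw [hrestC x hxa hxb, zero_mul]), hA2]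
  have w1 := hmi l1 h1
  have w2 := hmi l2 h2
  rw [i1] at w1
  rw [i2] at w2
  have key : ∀ φ, nr φ → φ ≠ l1 → φ ≠ inv l1 → d φ A = d l1 A ∧ d φ B = 0 := by
    intro φ hφ hne hne'
    by_cases e2 : φ = l2 ∨ φ = inv l2
    · have hd : d φ = d l2 := by
        rcases e2 with e2 | e2
        · rw [e2]
        · rw [e2, hsymm l2 h2]
      rw [hd]; exact ⟨hA2, hB2⟩
    push Not at e2
    have p1 := hpair l1 φ h1 hφ hne hne'
    have p2 := hpair l2 φ h2 hφ e2.1 e2.2
    rw [i1] at p1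
    rw [i2] at p2
    rcases pick ha hb (hgle φ hφ A) (hgle φ hφ B) p1 with e | ⟨eA, eB⟩
    · exact e
    exfalso
    rcases pick ha hC (hgle φ hφ A) (hgle φ hφ C) p2 with ⟨eA', -⟩ | ⟨-, eC⟩
    · rw [eA] at eA'; rw [← eA'] at ha; norm_num at ha
    obtain ⟨P', Q', hPQ', hP', hQ', hrest'⟩ := two_support (d φ) (hself φ hφ)
    have hB0 : d φ B ≠ 0 := fun e => by rw [eB] at e; rw [e] at hb; norm_num at hb
    have hC0 : d φ C ≠ 0 := fun e => by rw [eC] at e; rw [e] at hC; norm_num at hC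
    have hs : ∀ x, x ≠ B → x ≠ C → d φ x = 0 := by
      intro x hxB hxC
      by_contra hx
      have m1 : B = P' ∨ B = Q' := by
        by_contra hh; push Not at hh; exact hB0 (hrest' B hh.1 hh.2)
      have m2 : C = P' ∨ C = Q' := by
        by_contra hh; push Not at hh; exact hC0 (hrest' C hh.1 hh.2)
      have m3 : x = P' ∨ x = Q' := by
        by_contra hh; push Not at hh; exact hx (hrest' x hh.1 hh.2)
      rcases m1 with m1 | m1 <;> rcases m2 with m2 | m2 <;> rcases m3 with m3 | m3 <;> simp_all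
    have w3 := hmi φ hφ
    rw [sum_two_support _ hBC (fun x hxa hxb => by rw [hs x hxa hxb, zero_mul]), eB, eC] at w3
    omega
  refine ⟨A, B, d l1 A, d l1 B, hAB, ha, hb, rfl, rfl, hrest, fun φ hφ => ?_,
    fun φ hφ h1' h2' => (key φ hφ h1' h2').2, ?_⟩
  · by_cases e : φ = l1
    · rw [e]
    by_cases e' : φ = inv l1
    · rw [e', hsymm l1 h1]
    exact (key φ hφ e e').1
  · exact pick ha hb (hwle A) (hwle B) w1

theorem no_solution (q : ℕ) (hq : 3 ≤ q) (k : ℤ) :
    (4 * (q : ℤ) ^ 2 - 2 * q + 1) * (2 * q * k) ^ 2 ≠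
      8 * (q : ℤ) ^ 2 * ((1 + 2 * q * k) * (2 + 2 * q * k)) := by
  intro h
  have hq' : (3 : ℤ) ≤ q := by exact_mod_cast hq
  have h1 : (4 * (q : ℤ) ^ 2 - 2 * q + 1) * k ^ 2 = 4 * ((1 + 2 * q * k) * (1 + q * k)) := by
    refine mul_left_cancel₀ (show (4 * (q : ℤ) ^ 2) ≠ 0 by positivity) ?_
    linear_combination h
  have hk4 : k ∣ 4 := ⟨(4 * (q : ℤ) ^ 2 - 2 * q + 1) * k - 12 * q - 8 * q ^ 2 * k, by linear_combination -h1⟩
  have hb1 : k ≤ 4 := Int.le_of_dvd (by norm_num) hk4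
  have hb2 : -k ≤ 4 := Int.le_of_dvd (by norm_num) (neg_dvd.mpr hk4)
  have hb3 : -4 ≤ k := by omega
  interval_cases k <;> ring_nf at h1 <;> nlinarith

variable {G : Type*} [Group G] [Fintype G] {C : Subgroup G} {q : ℕ} {t u : G}

theorem card_pos (h : Config C q t u) : (Nat.card C : ℂ) = 2 * (q : ℂ) := by rw [h.card]; push_cast; ring

open scoped Classical in
/-- The set underlying the normaliser. -/
noncomputable def nset (C : Subgroup G) (u : G) : Finset G :=
  Finset.univ.filter fun g => g ∈ C ∨ g * u⁻¹ ∈ C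

omit [Fintype G] in
theorem u_inv_eq (h : Config C q t u) : u⁻¹ = u := inv_eq_of_mul_eq_one_right h.u_sq

open scoped Classical in
theorem mem_nset {g : G} : g ∈ nset C u ↔ g ∈ C ∨ g * u⁻¹ ∈ C := by simp [nset]

open scoped Classical in
theorem card_nset (h : Config C q t u) : (nset C u).card = 4 * q := by
  have e : nset C u = (Finset.univ.filter fun g => g ∈ C) ∪ (Finset.univ.filter fun g => g * u⁻¹ ∈ C) :=
    Finset.filter_or ..
  rw [e, Finset.card_union_of_disjoint]
  · have h1 : (Finset.univ.filter fun g => g ∈ C).card = 2 * q := by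
      rw [← h.card, Nat.card_eq_fintype_card, Fintype.card_subtype]
    have h2 : (Finset.univ.filter fun g => g * u⁻¹ ∈ C).card = 2 * q := by
      rw [← h1]
      refine Finset.card_equiv (Equiv.mulRight u⁻¹) fun g => ?_
      simp
    omega
  · rw [Finset.disjoint_filter]
    intro g _ hg hgu
    exact h.u_not (by simpa using C.inv_mem (C.mul_mem (C.inv_mem hg) hgu))

omit [Fintype G] in
theorem conj_of_mem (h : Config C q t u) {g x : G} (hg : g ∈ C ∨ g * u⁻¹ ∈ C) (hx : x ∈ C) :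
    (g ∈ C → g⁻¹ * x * g = x) ∧ (g * u⁻¹ ∈ C → g⁻¹ * x * g = x⁻¹) := by
  refine ⟨fun hg => ?_, fun hg => ?_⟩
  · rw [mul_assoc, h.comm x hx g hg, inv_mul_cancel_left]
  · obtain ⟨a, ha, rfl⟩ : ∃ a ∈ C, g = a * u := ⟨g * u⁻¹, hg, by group⟩
    rw [show (a * u)⁻¹ * x * (a * u) = u⁻¹ * (a⁻¹ * (x * a)) * u by group, h.comm x hx a ha,
      inv_mul_cancel_left]
    conv_lhs => rw [u_inv_eq h]
    conv_lhs => arg 2; rw [← u_inv_eq h]
    exact h.u_inv x hx

omit [Fintype G] in
theorem conj_mem_iff (h : Config C q t u) {g x : G} (hx : x ∈ C) (hx1 : x ≠ 1) :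
    g⁻¹ * x * g ∈ C ↔ g ∈ C ∨ g * u⁻¹ ∈ C := by
  constructor
  · intro hm
    rcases h.ti x hx hx1 g⁻¹ (by simpa using hm) with h1 | h1
    · exact Or.inl (by simpa using C.inv_mem h1)
    · right
      have h2 : u * g ∈ C := by simpa using C.inv_mem h1
      have h3 := C.inv_mem h2
      rw [← h.u_inv _ h2] at h3
      rwa [show g * u⁻¹ = u * (u * g) * u⁻¹ by rw [← mul_assoc u u g, h.u_sq, one_mul]]
  · intro hg
    rcases hg with hg' | hg'
    · rw [(conj_of_mem h (Or.inl hg') hx).1 hg']; exact hx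
    · rw [(conj_of_mem h (Or.inr hg') hx).2 hg']; exact C.inv_mem hx

open scoped Classical in
theorem indFun_apply_mem (h : Config C q t u) (θ : C → ℂ) (h0 : θ 1 = 0) (x : C) :
    indFun C θ (x : G) = θ x + θ x⁻¹ := by
  by_cases hx1 : x = 1
  · subst hx1
    rw [OneMemClass.coe_one, indFun_apply_one, inv_one, h0]
    simp
  have hne : (x : G) ≠ 1 := fun e => hx1 (Subtype.ext e)
  have hterm : ∀ g : G, extendByZero C θ (g⁻¹ * x * g) =
      (if g ∈ C then θ x else 0) + (if g * u⁻¹ ∈ C then θ x⁻¹ else 0) := by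
    intro g
    by_cases hg : g ∈ C
    · have hg2 : g * u⁻¹ ∉ C := fun hh => h.u_not (by simpa using C.inv_mem (C.mul_mem (C.inv_mem hg) hh))
      rw [if_pos hg, if_neg hg2, add_zero, (conj_of_mem h (Or.inl hg) x.2).1 hg, extendByZero_coe]
    · by_cases hg2 : g * u⁻¹ ∈ C
      · rw [if_neg hg, if_pos hg2, zero_add, (conj_of_mem h (Or.inr hg2) x.2).2 hg2, ← extendByZero_coe C θ x⁻¹]
        rfl
      · rw [if_neg hg, if_neg hg2, add_zero, extendByZero_of_not_mem]
        exact fun hh => (conj_mem_iff h x.2 hne).1 hh |>.elim hg hg2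
  rw [indFun_apply, Finset.sum_congr rfl fun g _ => hterm g, Finset.sum_add_distrib, ← Finset.sum_filter,
    ← Finset.sum_filter, Finset.sum_const, Finset.sum_const]
  have h1 : (Finset.univ.filter fun g => g ∈ C).card = 2 * q := by
    rw [← h.card, Nat.card_eq_fintype_card, Fintype.card_subtype]
  have h2 : (Finset.univ.filter fun g => g * u⁻¹ ∈ C).card = 2 * q := by
    rw [← h1]
    exact Finset.card_equiv (Equiv.mulRight u⁻¹) fun g => by simp
  rw [h1, h2, nsmul_eq_mul, nsmul_eq_mul, card_pos h]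
  have : (q : ℂ) ≠ 0 := by
    have := h.three_le
    exact_mod_cast (by omega : q ≠ 0)
  push_cast
  field_simp

open scoped Classical in
/-- The number of ways to write an element as a product of two involutions. -/
noncomputable def pairs (g : G) : ℕ :=
  (Finset.univ.filter fun p : G × G => (IsConj t p.1 ∧ IsConj t p.2) ∧ p.1 * p.2 = g).card

omit [Fintype G] in
theorem isConj_iff_ord (h : Config C q t u) (i : G) : IsConj t i ↔ orderOf i = 2 :=
  ⟨fun hi => by
    obtain ⟨c, rfl⟩ := isConj_iff.1 hi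
    exact (MulEquiv.orderOf_eq (MulAut.conj c) t).trans h.t_ord, h.invol i⟩

omit [Fintype G] in
theorem invol_mem (h : Config C q t u) {s : G} (hs : s ∈ C) (hs2 : s * s = 1) : s = 1 ∨ s = t := by
  classical
  letI : CommGroup C := { (inferInstance : Group C) with mul_comm := fun a b => Subtype.ext (h.comm a a.2 b b.2) }
  let T : C := ⟨t, h.t_mem⟩
  let S : C := ⟨s, hs⟩
  have hT : Nat.card (Subgroup.zpowers T) = 2 := by rw [Nat.card_zpowers, Subgroup.orderOf_mk, h.t_ord]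
  have : Finite C := Nat.finite_of_card_ne_zero (by rw [h.card]; have := h.three_le; omega)
  have hidx : (Subgroup.zpowers T).index = q := by
    have h1 := (Subgroup.zpowers T).card_mul_index
    rw [hT, h.card] at h1
    omega
  have h1 : orderOf (S : C ⧸ Subgroup.zpowers T) = 1 := by
    refine Nat.eq_one_of_dvd_coprimes (a := 2) (b := q) (Nat.coprime_two_left.mpr h.odd) ?_ ?_
    · refine orderOf_dvd_of_pow_eq_one ?_
      rw [← QuotientGroup.mk_pow, show S ^ 2 = 1 from Subtype.ext (by simpa [sq, S] using hs2), QuotientGroup.mk_one]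
    · rw [← hidx]; exact orderOf_dvd_natCard _
  rw [orderOf_eq_one_iff, QuotientGroup.eq_one_iff, Subgroup.mem_zpowers_iff] at h1
  obtain ⟨k, hk⟩ := h1
  have hT2 : T * T = 1 := by
    rw [← sq, show 2 = orderOf T by rw [Subgroup.orderOf_mk, h.t_ord], pow_orderOf_eq_one]
  rcases Int.even_or_odd k with ⟨m, rfl⟩ | ⟨m, rfl⟩
  · left
    rw [zpow_add, ← mul_zpow, hT2, one_zpow] at hk
    exact (congrArg Subtype.val hk).symm
  · right
    rw [two_mul, zpow_add, zpow_add, ← mul_zpow, hT2, one_zpow, one_mul, zpow_one] at hk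
    exact (congrArg Subtype.val hk).symm

open scoped Classical in
theorem pairs_mem (h : Config C q t u) {x : G} (hx : x ∈ C) (hx1 : x ≠ 1) :
    pairs (t := t) x = 2 * q := by
  have hconj : ∀ a ∈ C, a * u * (a * u) = 1 := by
    intro a ha
    calc a * u * (a * u) = a * (u * a * u⁻¹) * (u * u) := by group
      _ = 1 := by rw [h.u_inv a ha, h.u_sq]; group
  have hord : ∀ a ∈ C, orderOf (a * u) = 2 := fun a ha => by
    refine orderOf_eq_prime (by rw [sq]; exact hconj a ha) fun e => h.u_not ?_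
    rw [eq_inv_of_mul_eq_one_right e]; exact C.inv_mem ha
  have h1 : (Finset.univ.filter fun g => g * u⁻¹ ∈ C).card = 2 * q := by
    have h1 : (Finset.univ.filter fun g => g ∈ C).card = 2 * q := by
      rw [← h.card, Nat.card_eq_fintype_card, Fintype.card_subtype]
    rw [← h1]
    exact Finset.card_equiv (Equiv.mulRight u⁻¹) fun g => by simp
  rw [pairs, ← h1]
  refine Finset.card_bij (fun p _ => p.1) ?_ ?_ ?_
  · rintro ⟨i, j⟩ hp
    simp only [Finset.mem_filter, Finset.mem_univ, true_and, isConj_iff_ord h] at hp ⊢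
    obtain ⟨⟨hi, hj⟩, rfl⟩ := hp
    have hii : i * i = 1 := by rw [← sq, ← hi]; exact pow_orderOf_eq_one i
    have hjj : j * j = 1 := by rw [← sq, ← hj]; exact pow_orderOf_eq_one j
    have e : i * (i * j) * i⁻¹ = (i * j)⁻¹ := by
      rw [← mul_assoc, hii, one_mul, mul_inv_rev, inv_eq_of_mul_eq_one_right hjj]
    rcases h.ti _ hx hx1 i (by rw [e]; exact C.inv_mem hx) with hiC | hiC
    · exfalso
      rcases invol_mem h hiC hii with e1 | e1
      · rw [e1, orderOf_one] at hi; omega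
      · have hjC : j ∈ C := by simpa using C.mul_mem (C.inv_mem hiC) hx
        rcases invol_mem h hjC hjj with e2 | e2
        · rw [e2, orderOf_one] at hj; omega
        · exact hx1 (by rw [e1, e2, ← sq, ← h.t_ord]; exact pow_orderOf_eq_one t)
    · exact hiC
  · rintro ⟨i, j⟩ hp ⟨i', j'⟩ hp' (rfl : i = i')
    simp only [Finset.mem_filter, Finset.mem_univ, true_and] at hp hp'
    rw [Prod.mk.injEq]
    exact ⟨rfl, mul_left_cancel (hp.2.trans hp'.2.symm)⟩
  · intro g hg
    simp only [Finset.mem_filter, Finset.mem_univ, true_and] at hg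
    obtain ⟨a, ha, rfl⟩ : ∃ a ∈ C, g = a * u := ⟨g * u⁻¹, hg, by group⟩
    refine ⟨(a * u, a * u * x), ?_, rfl⟩
    simp only [Finset.mem_filter, Finset.mem_univ, true_and, isConj_iff_ord h]
    refine ⟨⟨hord a ha, ?_⟩, by rw [← mul_assoc, hconj a ha, one_mul]⟩
    rw [show a * u * x = a * (u * x * u⁻¹) * u by group, h.u_inv x hx]
    exact hord _ (C.mul_mem ha (C.inv_mem hx))

open scoped Classical in
theorem card_fibre (h : Config C q t u) {x0 h0 : G} (hx : x0 ∈ C) (hx1 : x0 ≠ 1) :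
    ((Finset.univ ×ˢ Finset.univ.filter fun x => x ∈ C ∧ x ≠ 1).filter
      fun p : G × G => p.1 * p.2 * p.1⁻¹ = h0 * x0 * h0⁻¹).card = 4 * q := by
  rw [← card_nset h]
  refine (Finset.card_bij (fun n _ => (h0 * n, n⁻¹ * x0 * n)) ?_ ?_ ?_).symm
  · intro n hn
    have hn' := mem_nset.1 hn
    simp only [Finset.mem_filter, Finset.mem_product, Finset.mem_univ, true_and]
    refine ⟨⟨(conj_mem_iff h hx hx1).2 hn', fun e => hx1 ?_⟩, by group⟩
    have := congrArg (fun w => n * w * n⁻¹) e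
    simpa [mul_assoc] using this
  · intro n _ n' _ e
    exact mul_left_cancel (Prod.ext_iff.1 e).1
  · rintro ⟨a, x⟩ hp
    simp only [Finset.mem_filter, Finset.mem_product, Finset.mem_univ, true_and] at hp
    obtain ⟨⟨hxC, -⟩, he⟩ := hp
    have e : (h0⁻¹ * a)⁻¹ * x0 * (h0⁻¹ * a) = x := by
      have := congrArg (fun w => a⁻¹ * w * a) he
      simp only [mul_assoc, inv_mul_cancel_left, inv_mul_cancel, mul_one] at this ⊢
      simp only [mul_inv_rev, inv_inv, mul_assoc]
      exact this.symm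
    refine ⟨h0⁻¹ * a, mem_nset.2 ((conj_mem_iff h hx hx1).1 (e ▸ hxC)), ?_⟩
    rw [mul_inv_cancel_left, e]

open scoped Classical in
theorem card_eq (h : Config C q t u) :
    Fintype.card G = 4 * q * (Finset.univ.filter (IsConj t)).card := by
  rw [← Finset.card_univ, Finset.card_eq_sum_card_fiberwise
    (f := fun g : G => g * t * g⁻¹) (t := Finset.univ.filter (IsConj t)) (fun g _ => by
      simp only [Finset.coe_filter, Finset.mem_univ, true_and, Set.mem_setOf_eq]
      exact isConj_iff.2 ⟨g, rfl⟩), Finset.sum_congr rfl (g := fun _ => 4 * q) (fun y hy => ?_),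
    Finset.sum_const, smul_eq_mul, mul_comm]
  obtain ⟨g0, rfl⟩ := isConj_iff.1 (Finset.mem_filter.1 hy).2
  have ht1 : t ≠ 1 := fun e => by simpa [e] using h.t_ord
  have htt : t⁻¹ = t := inv_eq_of_mul_eq_one_right (by rw [← sq, ← h.t_ord]; exact pow_orderOf_eq_one t)
  rw [← card_nset h]
  refine (Finset.card_bij (fun n _ => g0 * n) ?_ ?_ ?_).symm
  · intro n hn
    have hn' := mem_nset.1 hn
    simp only [Finset.mem_filter, Finset.mem_univ, true_and]
    have e : n⁻¹ * t * n = t := by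
      rcases hn' with hh | hh
      · exact (conj_of_mem h (Or.inl hh) h.t_mem).1 hh
      · rw [(conj_of_mem h (Or.inr hh) h.t_mem).2 hh, htt]
    conv_lhs => rw [← e]
    group
  · intro n _ n' _ e; exact mul_left_cancel e
  · intro a ha
    simp only [Finset.mem_filter, Finset.mem_univ, true_and] at ha
    refine ⟨g0⁻¹ * a, mem_nset.2 ((conj_mem_iff h h.t_mem ht1).1 ?_), by group⟩
    have e : (g0⁻¹ * a)⁻¹ * t * (g0⁻¹ * a) = t := by
      have := congrArg (fun w => a⁻¹ * w * a) ha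
      simp only [mul_assoc, inv_mul_cancel_left, inv_mul_cancel, mul_one] at this ⊢
      simp only [mul_inv_rev, inv_inv, mul_assoc]
      exact this.symm
    rw [e]; exact h.t_mem

open scoped Classical in
theorem card_involutions (h : Config C q t u) :
    ((Finset.univ.filter (IsConj t)).card : ℤ) = 4 * (q : ℤ) ^ 2 - 2 * q + 1 := by
  set S := Finset.univ.filter (IsConj t) with hS
  set C1 := Finset.univ.filter fun x => x ∈ C ∧ x ≠ 1 with hC1
  have hC1card : C1.card + 1 = 2 * q := by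
    have h1 : (Finset.univ.filter fun g => g ∈ C).card = 2 * q := by
      rw [← h.card, Nat.card_eq_fintype_card, Fintype.card_subtype]
    rw [← h1, ← Finset.card_erase_add_one (s := Finset.univ.filter fun g => g ∈ C) (a := 1) (by simp)]
    congr 2
    ext x; simp [hC1, and_comm]
  set D := (S ×ˢ S).filter fun p : G × G => p.1 ≠ p.2 with hD
  let T := (Finset.univ : Finset G) ×ˢ C1
  have key : ∑ p ∈ D, (T.filter fun r : G × G => r.1 * r.2 * r.1⁻¹ = p.1 * p.2).card =
      ∑ r ∈ T, (D.filter fun p => r.1 * r.2 * r.1⁻¹ = p.1 * p.2).card := by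
    simp only [Finset.card_filter]
    exact Finset.sum_comm
  have hleft : ∀ p ∈ D, (T.filter fun r : G × G => r.1 * r.2 * r.1⁻¹ = p.1 * p.2).card = 4 * q := by
    intro p hp
    simp only [hD, hS, Finset.mem_filter, Finset.mem_product, Finset.mem_univ, true_and,
      isConj_iff_ord h] at hp
    obtain ⟨⟨hi, hj⟩, hne⟩ := hp
    obtain ⟨g, hg⟩ := h.real _ _ hi hj hne
    have h1 : g * (p.1 * p.2) * g⁻¹ ≠ 1 := by
      intro e
      rw [conj_eq_one_iff, mul_eq_one_iff_eq_inv] at e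
      exact hne (e.trans (inv_eq_of_mul_eq_one_right (by rw [← sq, ← hj]; exact pow_orderOf_eq_one p.2)))
    have := card_fibre (h0 := g⁻¹) h hg h1
    rw [show g⁻¹ * (g * (p.1 * p.2) * g⁻¹) * g⁻¹⁻¹ = p.1 * p.2 by group] at this
    exact this
  have hright : ∀ r ∈ T, (D.filter fun p => r.1 * r.2 * r.1⁻¹ = p.1 * p.2).card = 2 * q := by
    rintro ⟨g, x⟩ hr
    simp only [T, hC1, Finset.mem_product, Finset.mem_filter, Finset.mem_univ, true_and] at hr
    rw [← pairs_mem h hr.1 hr.2, pairs]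
    refine Finset.card_equiv ((MulAut.conj g⁻¹).toEquiv.prodCongr (MulAut.conj g⁻¹).toEquiv) fun p => ?_
    have hc : ∀ y : G, IsConj t (g⁻¹ * y * g) ↔ IsConj t y := fun y => by
      have : IsConj y (g⁻¹ * y * g) := isConj_iff.2 ⟨g⁻¹, by group⟩
      exact ⟨fun h1 => h1.trans this.symm, fun h1 => h1.trans this⟩
    simp only [hD, hS, Finset.mem_filter, Finset.mem_product, Finset.mem_univ, true_and,
      Equiv.prodCongr_apply, Prod.map_fst, Prod.map_snd, MulEquiv.toEquiv_eq_coe, EquivLike.coe_coe,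
      MulAut.conj_apply, inv_inv, hc]
    constructor
    · rintro ⟨⟨hp, -⟩, he⟩
      refine ⟨hp, ?_⟩
      rw [show g⁻¹ * p.1 * g * (g⁻¹ * p.2 * g) = g⁻¹ * (p.1 * p.2) * g by group, ← he]
      group
    · rintro ⟨hp, he⟩
      refine ⟨⟨hp, fun e => hr.2 ?_⟩, by rw [← he]; group⟩
      rw [← he, e]
      have hj := (isConj_iff_ord h p.2).1 hp.2
      rw [show g⁻¹ * p.2 * g * (g⁻¹ * p.2 * g) = g⁻¹ * (p.2 ^ 2) * g by rw [sq]; group, ← hj,
        pow_orderOf_eq_one]
      group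
  rw [Finset.sum_congr rfl hleft, Finset.sum_congr rfl hright, Finset.sum_const, Finset.sum_const,
    smul_eq_mul, smul_eq_mul] at key
  have hDcard : D.card + S.card = S.card * S.card := by
    have e : D = S.offDiag := by ext p; simp [hD, and_assoc]
    rw [e, Finset.offDiag_card]
    have : S.card ≤ S.card * S.card := Nat.le_mul_self _
    omega
  have hTcard : T.card = Fintype.card G * C1.card := by rw [Finset.card_product, Finset.card_univ]
  rw [hTcard, card_eq h] at key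
  have hS0 : 0 < S.card := Finset.card_pos.2 ⟨t, hS ▸ Finset.mem_filter.2 ⟨Finset.mem_univ t, IsConj.refl t⟩⟩
  have hq := h.three_le
  zify at key hDcard hC1card
  have h2 : (D.card : ℤ) = S.card * (C1.card * (2 * q)) :=
    mul_left_cancel₀ (show (4 * (q : ℤ)) ≠ 0 by positivity) (by linear_combination key)
  have h3 : (S.card : ℤ) = C1.card * (2 * q) + 1 :=
    mul_left_cancel₀ (show (S.card : ℤ) ≠ 0 by positivity) (by linear_combination h2 - hDcard)
  rw [h3, show (C1.card : ℤ) = 2 * q - 1 by linarith]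
  ring

theorem false_of_config (h : Config C q t u) : False := by
  classical
  have hq3 := h.three_le
  have hq0 : (q : ℂ) ≠ 0 := by exact_mod_cast (by omega : q ≠ 0)
  have hcC := card_pos h
  letI : CommGroup C := { (inferInstance : Group C) with mul_comm := fun a b => Subtype.ext (h.comm a a.2 b b.2) }
  have hlin : ∀ χ : IrrCharacter C, (χ : C → ℂ) 1 = 1 := fun χ => irr_apply_one_of_comm mul_comm χ.2
  let e : (C →* ℂˣ) ≃ IrrCharacter C := homEquivLinear.trans (Equiv.subtypeUnivEquiv hlin)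
  letI : Fintype (C →* ℂˣ) := Fintype.ofEquiv _ e.symm
  have he : ∀ φ : C →* ℂˣ, (e φ : C → ℂ) = fun x => (φ x : ℂ) := fun φ => rfl
  have hirr : ∀ φ : C →* ℂˣ, IsIrrCharacter C (fun x => (φ x : ℂ)) := isIrrCharacter_hom
  have horth : ∀ φ ψ : C →* ℂˣ, classInner (fun x : C => (φ x : ℂ)) (fun x => (ψ x : ℂ)) =
      if φ = ψ then 1 else 0 := by
    intro φ ψ
    rw [← he, ← he, classInner_irrCharacter]
    simp [e.apply_eq_iff_eq]
  have hsum : ∀ x : C, ∑ φ : C →* ℂˣ, (φ x : ℂ) = if x = 1 then (2 * q : ℂ) else 0 := by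
    intro x
    rw [← hcC]
    convert sum_apply_one_mul x using 1
    · rw [Fintype.sum_equiv e (fun φ => (φ x : ℂ))
        (fun χ : IrrCharacter C => (χ : C → ℂ) 1 * (χ : C → ℂ) x) (fun φ => by rw [hlin, one_mul, he])]
    · split_ifs <;> rfl
  -- multiplicities
  have hn : ∀ (φ : C →* ℂˣ) (χ : IrrCharacter G), ∃ n : ℕ,
      classInner (fun x : C => (φ x : ℂ)) (fun x : C => (χ : G → ℂ) x) = n := fun φ χ =>
    exists_classInner_eq_nat (isCharacter_hom φ) (isCharacter_restrict (irr_isCharacter χ) C)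
  choose n hn using hn
  let d : (C →* ℂˣ) → IrrCharacter G → ℤ := fun φ χ => (n 1 χ : ℤ) - n φ χ
  let Ψ : (C →* ℂˣ) → G → ℂ := fun φ => indFun C (fun x => 1 - (φ x : ℂ))
  have hΨcls : ∀ φ, IsClassFunction G (Ψ φ) := fun φ => isClassFunction_indFun _ _
  have hΨd : ∀ φ (χ : IrrCharacter G), classInner (Ψ φ) (χ : G → ℂ) = d φ χ := by
    intro φ χ
    rw [classInner_indFun C _ (isClassFunction_irr χ)]
    simp only [d, Int.cast_sub, Int.cast_natCast, ← hn]
    rw [← classInner_sub_left]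
    congr 1
  have hΨd' : ∀ φ (χ : IrrCharacter G), classInner (χ : G → ℂ) (Ψ φ) = d φ χ := fun φ χ => by
    rw [← classInner_conj_symm, hΨd, map_intCast]
  have hΨmem : ∀ φ (x : C), Ψ φ (x : G) = 2 - (φ x : ℂ) - (φ x⁻¹ : ℂ) := fun φ x => by
    simp only [Ψ]; rw [indFun_apply_mem h _ (by simp) x]; ring
  have hΨ1 : ∀ φ, Ψ φ 1 = 0 := fun φ => by simp [Ψ, indFun_apply_one]
  have hinvne : ∀ φ : C →* ℂˣ, φ ≠ 1 → φ⁻¹ ≠ 1 := fun φ hφ e => hφ (by
    ext x
    have := DFunLike.congr_fun e x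
    simp only [MonoidHom.inv_apply, MonoidHom.one_apply, inv_eq_one] at this
    simp [this])
  have hinvinv : ∀ φ : C →* ℂˣ, φ⁻¹⁻¹ = φ := fun φ => by ext x; simp
  have hgram : ∀ φ ψ : C →* ℂˣ, φ ≠ 1 → ψ ≠ 1 →
      ∑ χ, d φ χ * d ψ χ = 2 + (if φ = ψ then 1 else 0) + (if φ = ψ⁻¹ then 1 else 0) := by
    intro φ ψ hφ hψ
    have hne1 : (1 : C →* ℂˣ) ≠ ψ⁻¹ := fun e => hinvne ψ hψ e.symm
    have h1 : classInner (Ψ φ) (Ψ ψ) = 2 + (if φ = ψ then 1 else 0) + (if φ = ψ⁻¹ then 1 else 0) := by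
      rw [classInner_indFun C _ (hΨcls ψ)]
      rw [show (fun x : C => Ψ ψ (x : G)) = (2 : ℂ) • (fun x : C => (((1 : C →* ℂˣ) x : ℂˣ) : ℂ)) -
          (fun x : C => (ψ x : ℂ)) - (fun x : C => ((ψ⁻¹ : C →* ℂˣ) x : ℂ)) from funext fun x => by
        simp [hΨmem, map_inv]]
      rw [show (fun x : C => 1 - (φ x : ℂ)) = (fun x : C => (((1 : C →* ℂˣ) x : ℂˣ) : ℂ)) - (fun x => (φ x : ℂ))
        from funext fun x => by simp]
      simp only [classInner_sub_left, classInner_sub_right, classInner_smul_right, horth, hφ,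
        Ne.symm hψ, hne1, if_true, if_false, map_ofNat]
      ring
    rw [classInner_eq_sum (hΨcls φ)] at h1
    simp only [hΨd, hΨd'] at h1
    apply @Int.cast_injective ℂ
    push_cast
    rw [h1]
  have hsymm : ∀ φ : C →* ℂˣ, φ ≠ 1 → ∀ χ, d φ⁻¹ χ = d φ χ := by
    intro φ hφ
    have hφ' : φ⁻¹ ≠ 1 := hinvne φ hφ
    have h0 : ∑ χ, (d φ⁻¹ χ - d φ χ) * (d φ⁻¹ χ - d φ χ) = 0 := by
      have e1 := hgram φ⁻¹ φ⁻¹ hφ' hφ'
      have e2 := hgram φ φ hφ hφ
      have e3 := hgram φ⁻¹ φ hφ' hφ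
      rw [hinvinv] at e1
      simp only [sub_mul, mul_sub, Finset.sum_sub_distrib, mul_comm (d φ _) (d φ⁻¹ _), e1, e2, e3]
      by_cases hh : φ = φ⁻¹
      · simp [← hh]
      · simp [hh, Ne.symm hh]
    intro χ
    have := (Finset.sum_eq_zero_iff_of_nonneg (fun χ _ => mul_self_nonneg (d φ⁻¹ χ - d φ χ))).1 h0 χ (Finset.mem_univ χ)
    linarith [mul_self_eq_zero.1 this]
  -- values on `C`
  have hres : ∀ (χ : IrrCharacter G) (x : C),
      (χ : G → ℂ) x = (n 1 χ : ℂ) * (if x = 1 then (2 * q : ℂ) else 0) - ∑ φ, (d φ χ : ℂ) * (φ x : ℂ) := by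
    intro χ x
    have h1 := congrFun (eq_sum_classInner (f := fun x : C => (χ : G → ℂ) x)
      (isClassFunction_of_isCharacter (isCharacter_restrict (irr_isCharacter χ) C))) x
    rw [h1, Finset.sum_apply, ← hsum x, Finset.mul_sum, ← Finset.sum_sub_distrib]
    refine (Fintype.sum_equiv e _ _ fun φ => ?_).symm
    rw [Pi.smul_apply, smul_eq_mul, he, ← classInner_conj_symm, hn, map_natCast]
    simp only [d, Int.cast_sub, Int.cast_natCast]
    ring
  -- the principal character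
  let one : IrrCharacter G := ⟨fun _ => 1, isIrrCharacter_one⟩
  have hd0 : ∀ φ : C →* ℂˣ, φ ≠ 1 → d φ one = 1 := by
    intro φ hφ
    have h1 : (n φ one : ℂ) = 0 := by
      rw [← hn, show (fun x : C => (one : G → ℂ) x) = fun x => (((1 : C →* ℂˣ) x : ℂˣ) : ℂ) from
        funext fun x => by simp [one], horth, if_neg hφ]
    have h2 : (n 1 one : ℂ) = 1 := by
      rw [← hn, show (fun x : C => (one : G → ℂ) x) = fun x => (((1 : C →* ℂˣ) x : ℂˣ) : ℂ) from
        funext fun x => by simp [one], horth, if_pos rfl]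
    simp only [d]
    rw [show n φ one = 0 by exact_mod_cast h1, show n 1 one = 1 by exact_mod_cast h2]
    rfl
  have hdone : ∀ χ, d 1 χ = 0 := fun χ => sub_self _
  -- the homomorphisms `μ` and `λ`
  let T : C := ⟨t, h.t_mem⟩
  have htord : orderOf T = 2 := by rw [Subgroup.orderOf_mk]; exact h.t_ord
  have hT1 : T ≠ 1 := fun e => by simpa [e] using htord
  obtain ⟨φ0, hφ0⟩ := CommGroup.exists_apply_ne_one_of_hasEnoughRootsOfUnity C ℂ hT1
  have hsign : ∀ φ : C →* ℂˣ, (φ T : ℂ) = 1 ∨ (φ T : ℂ) = -1 := fun φ => by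
    refine mul_self_eq_one_iff.1 ?_
    rw [← Units.val_mul, ← map_mul, ← sq, ← htord, pow_orderOf_eq_one, map_one, Units.val_one]
  obtain ⟨w, hw⟩ := h.odd
  let μ : C →* ℂˣ := φ0.comp (powMonoidHom q)
  have hTq : T ^ q = T := by
    rw [hw, pow_succ, pow_mul, ← htord, pow_orderOf_eq_one, one_pow, one_mul]
  have hμT : (μ T : ℂ) = -1 := by
    simp only [μ, MonoidHom.comp_apply, powMonoidHom_apply, hTq]
    exact (hsign φ0).resolve_left fun e => hφ0 (Units.ext e)
  have hμ1 : μ ≠ 1 := fun e => by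
    rw [e] at hμT
    simp only [MonoidHom.one_apply, Units.val_one] at hμT
    norm_num at hμT
  have hxq : ∀ x : C, x ^ q = 1 ∨ x ^ q = T := by
    intro x
    have : (x ^ q) * (x ^ q) = 1 := by
      rw [← pow_add, ← two_mul, ← h.card]; exact pow_card_eq_one'
    rcases invol_mem h (x ^ q).2 (congrArg Subtype.val this) with e | e
    · exact Or.inl (Subtype.ext e)
    · exact Or.inr (Subtype.ext e)
  have hreal : ∀ φ : C →* ℂˣ, φ ≠ 1 → φ⁻¹ = φ → φ = μ := by
    intro φ hφ hinv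
    have hx : ∀ x, φ x = φ (x ^ q) := fun x => by
      have h2 : φ x * φ x = 1 := by
        have e := congrArg (fun f : C →* ℂˣ => f x) hinv
        simp only [MonoidHom.inv_apply] at e
        exact inv_eq_iff_mul_eq_one.1 e
      rw [map_pow, hw, pow_succ, pow_mul, sq, h2, one_pow, one_mul]
    have hφT : φ T = φ0 T := by
      refine Units.ext (((hsign φ).resolve_left fun e => hφ ?_).trans
        ((hsign φ0).resolve_left fun e => hφ0 (Units.ext e)).symm)
      ext x
      rcases hxq x with e' | e' <;> rw [hx x, e'] <;> simp [e]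
    ext x
    simp only [μ, MonoidHom.comp_apply, powMonoidHom_apply]
    rcases hxq x with e' | e' <;> rw [hx x, e'] <;> simp [hφT]
  have hμinv : μ⁻¹ = μ := by
    ext x
    simp only [MonoidHom.inv_apply, μ, MonoidHom.comp_apply, powMonoidHom_apply]
    rcases hxq x with e' | e' <;> rw [e'] <;> simp
    rcases hsign φ0 with e | e <;> rw [e] <;> norm_num
  obtain ⟨lam, hlamT, hlam1⟩ : ∃ lam : C →* ℂˣ, (lam T : ℂ) = 1 ∧ lam ≠ 1 := by
    obtain ⟨z, hz⟩ : ∃ z : C, z ^ 2 ≠ 1 := by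
      by_contra hc
      push Not at hc
      obtain ⟨r, hr, hrq⟩ := Nat.exists_prime_and_dvd (show q ≠ 1 by omega)
      have := Fact.mk hr
      obtain ⟨y, hy⟩ := exists_prime_orderOf_dvd_card' (G := C) r (h.card ▸ hrq.mul_left 2)
      have h2 := orderOf_dvd_of_pow_eq_one (hc y)
      rw [hy] at h2
      have := (Nat.prime_dvd_prime_iff_eq hr Nat.prime_two).1 h2
      subst this
      exact (Nat.not_even_iff_odd.2 h.odd) (even_iff_two_dvd.2 hrq)
    obtain ⟨φ1, hφ1⟩ := CommGroup.exists_apply_ne_one_of_hasEnoughRootsOfUnity C ℂ hz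
    refine ⟨φ1 * φ1, ?_, fun e => hφ1 ?_⟩
    · rw [MonoidHom.mul_apply, ← map_mul, ← sq, ← htord, pow_orderOf_eq_one, map_one, Units.val_one]
    · rw [map_pow, sq, ← MonoidHom.mul_apply, e, MonoidHom.one_apply]
  let nr : (C →* ℂˣ) → Prop := fun φ => φ ≠ 1 ∧ φ ≠ μ
  have hnr : ∀ φ, nr φ → φ⁻¹ ≠ φ := fun φ hφ e => hφ.2 (hreal φ hφ.1 e)
  have hlam : nr lam := ⟨hlam1, fun e => by rw [e, hμT] at hlamT; norm_num at hlamT⟩
  have hlam2T : ((lam * μ) T : ℂ) = -1 := by
    rw [MonoidHom.mul_apply, Units.val_mul, hlamT, hμT, one_mul]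
  have hlam2 : nr (lam * μ) := ⟨fun e => by
      rw [e] at hlam2T; simp only [MonoidHom.one_apply, Units.val_one] at hlam2T; norm_num at hlam2T,
    fun e => hlam1 (by rw [← mul_inv_cancel_right lam μ, e, mul_inv_cancel])⟩
  -- the combinatorics on the non-principal characters
  let X := {χ : IrrCharacter G // χ ≠ one}
  have hsumX : ∀ {R : Type} [AddCommGroup R] (F : IrrCharacter G → R), ∑ χ : X, F χ.1 = (∑ χ, F χ) - F one := by
    intro R _ F
    rw [← Finset.add_sum_erase _ _ (Finset.mem_univ one), add_sub_cancel_left]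
    exact (Finset.sum_subtype (Finset.univ.erase one) (fun x => by simp) F).symm
  obtain ⟨A, B, a, b, hAB, ha, hb, hlA, hlB, hlrest, hallA, hallB, hcase⟩ :=
    combinatorics lam (lam * μ) μ (fun φ (χ : X) => d φ χ.1) nr (fun φ => φ⁻¹) hlam hlam2
    (fun e => hμ1 (by rw [← inv_mul_cancel_left lam μ, e, inv_mul_cancel]))
    (fun e => by
      have := congrArg (fun f : C →* ℂˣ => (f T : ℂ)) e
      simp only [hlam2T, MonoidHom.inv_apply, Units.val_inv_eq_inv_val, hlamT] at this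
      norm_num at this)
    (fun φ hφ => by
      rw [hsumX (fun χ => d φ χ * d φ χ), hgram φ φ hφ.1 hφ.1, if_pos rfl, if_neg (Ne.symm (hnr φ hφ)), hd0 φ hφ.1]
      norm_num)
    (by
      rw [hsumX (fun χ => d μ χ * d μ χ), hgram μ μ hμ1 hμ1, if_pos rfl, if_pos hμinv.symm, hd0 μ hμ1]
      norm_num)
    (fun φ hφ => funext fun χ => hsymm φ hφ.1 χ.1)
    (fun φ hφ => by
      rw [hsumX (fun χ => d φ χ * d μ χ), hgram φ μ hφ.1 hμ1, if_neg hφ.2, if_neg (by rw [hμinv]; exact hφ.2),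
        hd0 φ hφ.1, hd0 μ hμ1]
      norm_num)
    (fun φ ψ hφ hψ h1 h2 => by
      rw [hsumX (fun χ => d φ χ * d ψ χ), hgram φ ψ hφ.1 hψ.1, if_neg (Ne.symm h1),
        if_neg (fun e => h2 (by rw [e, hinvinv])), hd0 φ hφ.1, hd0 ψ hψ.1]
      norm_num)
  -- degrees
  have hdeg : ∀ χ : IrrCharacter G, ∃ m : ℕ, (χ : G → ℂ) 1 = m ∧ m ≠ 0 := fun χ => by
    obtain ⟨m, hm⟩ := exists_apply_one_eq (irr_isCharacter χ)
    exact ⟨m, hm, fun e => irr_apply_one_ne_zero χ.2 (by rw [hm, e, Nat.cast_zero])⟩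
  obtain ⟨mA, hmA, hmA0⟩ := hdeg A.1
  obtain ⟨mB, hmB, hmB0⟩ := hdeg B.1
  have hΨexp : ∀ F : IrrCharacter G → ℂ, ∑ χ, (d lam χ : ℂ) * F χ = F one + (a : ℂ) * F A.1 + (b : ℂ) * F B.1 := by
    intro F
    have h1 := hsumX (fun χ => (d lam χ : ℂ) * F χ)
    rw [sum_two_support _ hAB (fun x hxa hxb => by rw [hlrest x hxa hxb]; simp), hlA, hlB, hd0 lam hlam1] at h1
    rw [eq_sub_iff_add_eq] at h1
    rw [← h1]; push_cast; ring
  have hdegree : 1 + (a : ℂ) * mA + (b : ℂ) * mB = 0 := by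
    have h1 := congrFun (eq_sum_classInner (hΨcls lam)) 1
    simp only [hΨ1, Finset.sum_apply, Pi.smul_apply, smul_eq_mul, hΨd] at h1
    rw [hΨexp (fun χ => (χ : G → ℂ) 1), hmA, hmB] at h1
    rw [← (show (one : G → ℂ) 1 = 1 from rfl)]
    exact h1.symm
  -- counting involution pairs
  set I := (Finset.univ.filter (IsConj t)).card with hI
  have hIval := card_involutions h
  have hG : (Nat.card G : ℂ) = 4 * q * (I : ℂ) := by
    rw [Nat.card_eq_fintype_card, card_eq h]; push_cast; ring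
  have hI0 : (I : ℂ) ≠ 0 := by exact_mod_cast (Finset.card_pos.2 ⟨t, Finset.mem_filter.2 ⟨Finset.mem_univ t, IsConj.refl t⟩⟩ : 0 < I).ne'
  let F : G → ℂ := fun g => (pairs (t := t) g : ℂ)
  have hFcls : IsClassFunction G F := by
    intro g k
    simp only [F, pairs, Nat.cast_inj]
    refine Finset.card_equiv ((MulAut.conj k⁻¹).toEquiv.prodCongr (MulAut.conj k⁻¹).toEquiv) fun p => ?_
    have hc : ∀ y : G, IsConj t (k⁻¹ * y * k) ↔ IsConj t y := fun y => by
      have : IsConj y (k⁻¹ * y * k) := isConj_iff.2 ⟨k⁻¹, by group⟩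
      exact ⟨fun h1 => h1.trans this.symm, fun h1 => h1.trans this⟩
    simp only [Finset.mem_filter, Finset.mem_univ, true_and, Equiv.prodCongr_apply, Prod.map_fst,
      Prod.map_snd, MulEquiv.toEquiv_eq_coe, EquivLike.coe_coe, MulAut.conj_apply, inv_inv, hc]
    refine and_congr_right fun _ => ?_
    rw [show k⁻¹ * p.1 * k * (k⁻¹ * p.2 * k) = k⁻¹ * (p.1 * p.2) * k by group]
    exact ⟨fun e => by rw [e]; group, fun e => by rw [← e]; group⟩
  have hχF : ∀ χ : IrrCharacter G, classInner (χ : G → ℂ) F =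
      (I : ℂ) / (4 * q) * ((χ : G → ℂ) t ^ 2 / (χ : G → ℂ) 1) := by
    intro χ
    have h1 := Chars2.sum_class_class χ.2 t t
    have h2 : ∑ g, (χ : G → ℂ) g * conj (F g) =
        ∑ p ∈ Finset.univ.filter (fun p : G × G => IsConj t p.1 ∧ IsConj t p.2), (χ : G → ℂ) (p.1 * p.2) := by
      rw [← Finset.sum_fiberwise (Finset.univ.filter fun p : G × G => IsConj t p.1 ∧ IsConj t p.2)
        (fun p => p.1 * p.2) (fun p => (χ : G → ℂ) (p.1 * p.2))]
      refine Finset.sum_congr rfl fun g _ => ?_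
      rw [Finset.sum_congr rfl (g := fun _ => (χ : G → ℂ) g) (fun p hp => by
        rw [(Finset.mem_filter.1 hp).2]), Finset.sum_const, Finset.filter_filter, nsmul_eq_mul]
      simp only [F, pairs, map_natCast]
      ring
    rw [classInner_def, h2, hG]
    have hne := irr_apply_one_ne_zero χ.2
    field_simp
    linear_combination h1
  have hΨF : classInner (Ψ lam) F = 2 * q := by
    rw [classInner_indFun C _ hFcls, classInner_def, hcC]
    have h1 : ∀ x : C, (1 - (lam x : ℂ)) * conj (F x) = (1 - (lam x : ℂ)) * (2 * q : ℂ) := by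
      intro x
      by_cases hx : x = 1
      · subst hx; simp
      · simp only [F]
        rw [pairs_mem h x.2 (fun e => hx (Subtype.ext e)), map_natCast]
        push_cast; ring
    rw [Finset.sum_congr rfl fun x _ => h1 x, ← Finset.sum_mul, Finset.sum_sub_distrib]
    have h2 : ∑ x : C, (lam x : ℂ) = 0 := by
      have h3 := horth lam 1
      rw [if_neg hlam1, classInner_def] at h3
      simpa [hq0, hcC] using h3
    rw [h2, sub_zero]
    have h4 : ((∑ _x : C, (1 : ℂ))) = 2 * q := by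
      rw [Finset.sum_const, Finset.card_univ, ← Nat.card_eq_fintype_card, nsmul_one, hcC]
    rw [h4]
    field_simp
  rw [classInner_eq_sum (hΨcls lam)] at hΨF
  simp only [hΨd, hχF] at hΨF
  rw [hΨexp, hmA, hmB] at hΨF
  -- values at `t`
  have hvalT : ∀ χ : IrrCharacter G, (χ : G → ℂ) t = -∑ φ, (d φ χ : ℂ) * (φ T : ℂ) := by
    intro χ
    rw [show t = ((T : C) : G) from rfl, hres, if_neg hT1, mul_zero, zero_sub]
  have hsumT : ∑ φ : C →* ℂˣ, (φ T : ℂ) = 0 := by rw [hsum, if_neg hT1]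
  have hμset : ∀ φ : C →* ℂˣ, ¬ nr φ → φ = 1 ∨ φ = μ := fun φ hφ => by
    by_contra hh; push Not at hh; exact hφ hh
  have hdA : ∀ φ, d φ A.1 = if φ = 1 then 0 else if φ = μ then d μ A.1 else a := by
    intro φ
    split_ifs with e1 e2
    · rw [e1, hdone]
    · rw [e2]
    · exact hallA φ ⟨e1, e2⟩
  have hAt : (A.1 : G → ℂ) t = -((a : ℂ) * 0 - (a : ℂ) * 1 + ((d μ A.1 : ℂ) - a) * (-1)) := by
    rw [hvalT, neg_inj, ← hsumT, Finset.mul_sum]
    have : ∀ φ : C →* ℂˣ, (d φ A.1 : ℂ) * (φ T : ℂ) = (a : ℂ) * (φ T : ℂ) -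
        (if φ = 1 then (a : ℂ) * 1 else 0) + (if φ = μ then ((d μ A.1 : ℂ) - a) * (-1) else 0) := by
      intro φ
      rw [hdA φ]
      split_ifs with e1 e2 e3
      · exact absurd (e1.symm.trans e2).symm hμ1
      · subst e1; simp
      · subst e3; rw [hμT]; push_cast; ring
      · simp
    simp only [this, Finset.sum_add_distrib, Finset.sum_sub_distrib, Finset.sum_ite_eq', Finset.mem_univ, if_true]
  have hdB : ∀ φ, d φ B.1 = if φ = lam then b else if φ = lam⁻¹ then b else if φ = μ then d μ B.1 else 0 := by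
    intro φ
    split_ifs with e1 e2 e3
    · rw [e1, hlB]
    · rw [e2, hsymm lam hlam1, hlB]
    · rw [e3]
    · by_cases e0 : φ = 1
      · rw [e0, hdone]
      · exact hallB φ ⟨e0, e3⟩ e1 e2
  have hBt : (B.1 : G → ℂ) t = -((b : ℂ) * 1 + (b : ℂ) * 1 + (d μ B.1 : ℂ) * (-1)) := by
    rw [hvalT, neg_inj]
    have hl := hnr lam hlam
    have hlμ : lam⁻¹ ≠ μ := fun e => hlam.2 (by rw [← inv_inv lam, e, hμinv])
    have hiT : (lam⁻¹ T : ℂ) = 1 := by
      rw [MonoidHom.inv_apply, Units.val_inv_eq_inv_val, hlamT, inv_one]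
    have : ∀ φ : C →* ℂˣ, (d φ B.1 : ℂ) * (φ T : ℂ) = (if φ = lam then (b : ℂ) * 1 else 0) +
        (if φ = lam⁻¹ then (b : ℂ) * 1 else 0) + (if φ = μ then (d μ B.1 : ℂ) * (-1) else 0) := by
      intro φ
      rw [hdB φ]
      by_cases e1 : φ = lam
      · subst e1; rw [if_pos rfl, if_pos rfl, if_neg (Ne.symm hl), if_neg hlam.2, hlamT]; ring
      by_cases e2 : φ = lam⁻¹
      · subst e2; rw [if_neg e1, if_pos rfl, if_neg e1, if_pos rfl, if_neg hlμ, hiT]; ring
      by_cases e3 : φ = μ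
      · subst e3; simp only [if_neg e1, if_neg e2, if_true]; rw [hμT]; push_cast; ring
      · simp [e1, e2, e3]
    simp only [this, Finset.sum_add_distrib, Finset.sum_ite_eq', Finset.mem_univ, if_true]
  have hA1 : (mA : ℤ) = n 1 A.1 * (2 * q) - (d μ A.1 + a * (2 * q - 2)) := by
    have hcardΦ : Fintype.card (C →* ℂˣ) = 2 * q := by
      have h5 := hsum 1
      simp only [map_one, Units.val_one, Finset.sum_const, Finset.card_univ, nsmul_one, if_true] at h5
      exact_mod_cast h5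
    have h1 := hres A.1 1
    rw [OneMemClass.coe_one, hmA, if_pos rfl] at h1
    simp only [map_one, Units.val_one, mul_one] at h1
    have h2 : (∑ φ : C →* ℂˣ, d φ A.1) = d μ A.1 + a * (2 * q - 2) := by
      have : ∀ φ : C →* ℂˣ, d φ A.1 = a - (if φ = 1 then a else 0) + (if φ = μ then d μ A.1 - a else 0) := by
        intro φ
        rw [hdA φ]
        split_ifs with e1 e2 e3
        · exact absurd (e1.symm.trans e2).symm hμ1
        · ring
        · ring
        · ring
      rw [Finset.sum_congr rfl fun φ _ => this φ, Finset.sum_add_distrib, Finset.sum_sub_distrib,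
        Finset.sum_ite_eq', Finset.sum_ite_eq', Finset.sum_const, Finset.card_univ, hcardΦ]
      simp only [Finset.mem_univ, if_true, nsmul_eq_mul]
      push_cast; ring
    rw [← h2]
    apply @Int.cast_injective ℂ
    push_cast
    rw [h1]
  have h2q : (4 * (q : ℂ)) ≠ 0 := mul_ne_zero (by norm_num) hq0
  simp only [one, one_pow, div_one, mul_one] at hΨF
  have hmA' : (mA : ℂ) ≠ 0 := by exact_mod_cast hmA0
  have hmB' : (mB : ℂ) ≠ 0 := by exact_mod_cast hmB0
  have haC : (a : ℂ) * a = 1 := by exact_mod_cast ha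
  have hbC : (b : ℂ) * b = 1 := by exact_mod_cast hb
  rcases hcase with ⟨hμA, hμB⟩ | ⟨hμA, hμB⟩
  · rw [hμA] at hAt hA1
    rw [hμB] at hBt
    rw [hAt, hBt] at hΨF
    push_cast at hΨF
    field_simp at hΨF
    set s : ℤ := a * mA with hs
    have hBs : b * (mB : ℤ) = -1 - s := by
      apply @Int.cast_injective ℂ; push_cast [hs]; linear_combination hdegree
    have hsne : s ≠ 0 := by
      simp only [hs, ne_eq, mul_eq_zero, not_or]
      exact ⟨fun e => by simp [e] at ha, by exact_mod_cast hmA0⟩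
    have hs1 : -1 - s ≠ 0 := hBs ▸ mul_ne_zero (fun e => by simp [e] at hb) (by exact_mod_cast hmB0)
    have heq : (I : ℤ) * (s - 1) ^ 2 = 8 * (q : ℤ) ^ 2 * (s * (s + 1)) := by
      have hBs' : (b : ℂ) * mB = -1 - (a : ℂ) * mA := by linear_combination hdegree
      apply @Int.cast_injective ℂ
      push_cast [hs]
      have hclean : (I : ℂ) * (mA * mB + a * mB + 4 * b * mA) = 8 * (q : ℂ) ^ 2 * (mA * mB) := by
        linear_combination hΨF - (I : ℂ) * mB * a * haC - 4 * (I : ℂ) * mA * b * hbC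
      have h' : (I : ℂ) * ((a * mA) * (b * mB) + b * mB + 4 * (a * mA)) =
          8 * (q : ℂ) ^ 2 * ((a * mA) * (b * mB)) := by
        linear_combination ((a : ℂ) * b) * hclean - (I : ℂ) * b * mB * haC - 4 * (I : ℂ) * a * mA * hbC
      linear_combination -h' + ((I : ℂ) * (a * mA + 1) - 8 * (q : ℂ) ^ 2 * (a * mA)) * hBs'
    obtain ⟨k, hk⟩ : ∃ k : ℤ, s = 1 + 2 * q * k :=
      ⟨a * n 1 A.1 - 1, by rw [hs, hA1]; linear_combination (1 - 2 * (q : ℤ)) * ha⟩
    refine no_solution q hq3 k ?_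
    rw [← hIval, ← hI]
    rw [hk] at heq
    linear_combination heq
  · rw [hμA] at hAt
    rw [hμB] at hBt
    rw [hAt, hBt] at hΨF
    push_cast at hΨF
    field_simp at hΨF
    have h1 : (I : ℤ) * ((mB : ℤ) + b) = 8 * (q : ℤ) ^ 2 * mB := by
      apply @Int.cast_injective ℂ
      push_cast
      refine mul_left_cancel₀ hmA' ?_
      linear_combination hΨF - (I : ℂ) * mA * b * hbC
    rw [hIval] at h1
    have hb1 : b = 1 ∨ b = -1 := mul_self_eq_one_iff.1 hb
    have hmB1 : (1 : ℤ) ≤ mB := by exact_mod_cast Nat.one_le_iff_ne_zero.2 hmB0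
    have hq' : (3 : ℤ) ≤ q := by exact_mod_cast hq3
    rcases hb1 with e | e <;> rw [e] at h1 <;> nlinarith

end Cfsg.Agent.FGS2.KleinTI
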