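import Cfsg.Agent.FGS2.CyclicSylowTools
import Cfsg.Agent.S4018
import Cfsg.Agent.S1526
import Mathlib.GroupTheory.SchurZassenhaus
import Mathlib.RingTheory.ZMod.UnitsCyclic

/-!
No simple group has a cyclic Sylow `p`-subgroup and only abelian subgroups of order prime to `p`,
unless it has order `p`.
-/

set_option autoImplicit false
set_option linter.style.haveILetI false

namespace Cfsg.Agent.FGS2.CyclicSylow

variable {G : Type*} [Group G] [Finite G] {p : ℕ} [hp : Fact p.Prime]

/-- A subgroup that is `p`-nilpotent or `p`-closed. -/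
def Alt (p : ℕ) (H : Subgroup G) : Prop :=
  (∃ K : Subgroup G, K ≤ H ∧ H ≤ Subgroup.normalizer (K : Set G) ∧ ¬ p ∣ Nat.card K ∧
      (∀ y ∈ H, ¬ p ∣ orderOf y → y ∈ K) ∧ ∃ k, Nat.card H = Nat.card K * p ^ k) ∨
    (∃ Q : Subgroup G, Q ≤ H ∧ IsPGroup p Q ∧ H ≤ Subgroup.normalizer (Q : Set G) ∧
      ∀ y ∈ H, IsPEl p y → y ∈ Q)

/-- The minimal configuration. -/
structure Setting (P : Sylow p G) : Prop where
  simple : IsSimpleGroup G
  cyclic : IsCyclic P
  dvd : p ∣ Nat.card G
  proper : (P : Subgroup G) ≠ ⊤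
  ab : ∀ H : Subgroup G, ¬ p ∣ Nat.card H → IsMulCommutative H
  aut : ∃ l ∈ Subgroup.normalizer ((P : Subgroup G) : Set G), ¬ p ∣ orderOf l ∧
    ∃ y ∈ (P : Subgroup G), l * y * l⁻¹ ≠ y
  alt : ∀ H : Subgroup G, H ≠ ⊤ → Alt p H

variable {P : Sylow p G}

theorem comm_of_not_dvd (S : Setting P) {H : Subgroup G} (hH : ¬ p ∣ Nat.card H) {a b : G} (ha : a ∈ H)
    (hb : b ∈ H) : a * b = b * a :=
  congrArg Subtype.val ((S.ab H hH).is_comm.comm ⟨a, ha⟩ ⟨b, hb⟩)

omit [Finite G] in
theorem isPEl_mem_P [Finite G] (P : Sylow p G) {a : G} (ha : a ∈ (P : Subgroup G)) : IsPEl p a :=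
  IsPEl.mk' P.isPGroup' ha

theorem mem_P_of_normalizer {y : G} (hy : y ∈ Subgroup.normalizer ((P : Subgroup G) : Set G))
    (hpy : IsPEl p y) : y ∈ (P : Subgroup G) := by
  obtain ⟨k, hk⟩ := hpy
  have hY : IsPGroup p (Subgroup.zpowers y) := IsPGroup.of_card (n := k) (by rw [Nat.card_zpowers, hk])
  have hJ : IsPGroup p ((P : Subgroup G) ⊔ Subgroup.zpowers y : Subgroup G) := by
    rw [sup_comm]
    exact IsPGroup.to_sup_of_normal_right' hY P.isPGroup' (Subgroup.zpowers_le.2 hy)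
  exact (le_sup_right.trans (P.is_maximal' hJ le_sup_left).le) (Subgroup.mem_zpowers y)

theorem exists_conj_mem {H : Subgroup G} (hH : IsPGroup p H) : ∃ g : G, ∀ a ∈ H, g * a * g⁻¹ ∈ (P : Subgroup G) := by
  obtain ⟨Q, hQ⟩ := hH.exists_le_sylow
  obtain ⟨g, hg⟩ := MulAction.exists_smul_eq G Q P
  refine ⟨g, fun a ha => ?_⟩
  rw [← hg]
  exact Subgroup.smul_mem_pointwise_smul a (MulAut.conj g) _ (hQ ha)

theorem exists_conj_mem' {a : G} (ha : IsPEl p a) : ∃ g : G, g * a * g⁻¹ ∈ (P : Subgroup G) := by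
  obtain ⟨k, hk⟩ := ha
  obtain ⟨g, hg⟩ := exists_conj_mem (P := P) (IsPGroup.of_card (n := k)
    (show Nat.card (Subgroup.zpowers a) = p ^ k by rw [Nat.card_zpowers, hk]))
  exact ⟨g, hg a (Subgroup.mem_zpowers a)⟩

theorem center_trivial (S : Setting P) {z : G} (hz : z ≠ 1) :
    Subgroup.centralizer ({z} : Set G) ≠ ⊤ := by
  intro e
  have := S.simple
  have hn : (Subgroup.center G).Normal := inferInstance
  have hzc : z ∈ Subgroup.center G := Subgroup.mem_center_iff.2 fun g =>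
    Subgroup.mem_centralizer_singleton_iff.1 (e ▸ Subgroup.mem_top g)
  rcases hn.eq_bot_or_eq_top with h | h
  · exact hz (Subgroup.mem_bot.1 (h ▸ hzc))
  · obtain ⟨l, -, -, y, -, hly⟩ := S.aut
    have hy : y ∈ Subgroup.center G := h ▸ Subgroup.mem_top y
    exact hly (by rw [Subgroup.mem_center_iff.1 hy l, mul_inv_cancel_right])

omit [Finite G] hp in
/-- A subgroup normalised by `l` and `e` contains their commutator. -/
theorem commutator_mem {K : Subgroup G} {l e : G} (hl : l ∈ K) (he : e ∈ Subgroup.normalizer (K : Set G)) :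
    l * e * l⁻¹ * e⁻¹ ∈ K := by
  rw [show l * e * l⁻¹ * e⁻¹ = l * (e * l⁻¹ * e⁻¹) by group]
  exact K.mul_mem hl ((Subgroup.mem_normalizer_iff.1 he _).1 (K.inv_mem hl))

/-- A normaliser containing a non-trivial element of `N(P)∖C(P)` and `P` is `p`-closed. -/
theorem le_normalizer_of_alt (S : Setting P) {H : Subgroup G} (hH : H ≠ ⊤) (hPH : (P : Subgroup G) ≤ H)
    {l : G} (hl : l ∈ Subgroup.normalizer ((P : Subgroup G) : Set G)) (hlH : l ∈ H)
    (hlp : ¬ p ∣ orderOf l) (hly : ∃ y ∈ (P : Subgroup G), l * y * l⁻¹ ≠ y) :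
    H ≤ Subgroup.normalizer ((P : Subgroup G) : Set G) := by
  rcases S.alt H hH with ⟨K, hKH, hHK, hKp, hmem, -⟩ | ⟨Q, hQH, hQ, hHQ, hmem⟩
  · exfalso
    obtain ⟨y, hy, hne⟩ := hly
    have h1 : l * y * l⁻¹ * y⁻¹ ∈ K := commutator_mem (hmem l hlH hlp) (hHK (hPH hy))
    have h2 : l * y * l⁻¹ * y⁻¹ ∈ (P : Subgroup G) :=
      mul_mem ((Subgroup.mem_normalizer_iff.1 hl y).1 hy) (inv_mem hy)
    exact hne (mul_inv_eq_one.1 ((isPEl_mem_P P h2).eq_one fun hd => hKp (hd.trans (K.orderOf_dvd_natCard h1))))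
  · have hPQ : (P : Subgroup G) ≤ Q := fun a ha => hmem a (hPH ha) (isPEl_mem_P P ha)
    have := P.is_maximal' hQ hPQ
    rwa [this] at hHQ

theorem mem_normalizer_of_conj (S : Setting P) {y g : G} (hy : y ∈ (P : Subgroup G)) (hy1 : y ≠ 1)
    (hg : g * y * g⁻¹ ∈ (P : Subgroup G)) : g ∈ Subgroup.normalizer ((P : Subgroup G) : Set G) := by
  have := S.simple
  have key : ∀ h : G, h * y * h⁻¹ ∈ (P : Subgroup G) →
      h ∈ Subgroup.normalizer ((Subgroup.zpowers y : Subgroup G) : Set G) := by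
    intro h hh
    rw [Subgroup.mem_normalizer_iff_map_conj_eq]
    refine OddLocal.eq_of_card_eq_of_isCyclic S.cyclic ?_ (Subgroup.zpowers_le.2 hy)
      (Subgroup.card_map_of_injective (MulAut.conj h).injective)
    rw [MonoidHom.map_zpowers, Subgroup.zpowers_le]
    exact hh
  obtain ⟨l, hl, hlp, hly⟩ := S.aut
  refine le_normalizer_of_alt S ?_ ?_ hl ?_ hlp hly (key g hg)
  · intro e
    rcases (Subgroup.normalizer_eq_top_iff.1 e).eq_bot_or_eq_top with h0 | h0
    · exact hy1 (Subgroup.zpowers_eq_bot.1 h0)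
    · exact S.proper (eq_top_iff.2 (h0 ▸ Subgroup.zpowers_le.2 hy))
  · exact fun a ha => key a (mul_mem (mul_mem ha hy) (inv_mem ha))
  · exact key l ((Subgroup.mem_normalizer_iff.1 hl y).1 hy)

theorem centralizer_le (S : Setting P) {y : G} (hy : y ∈ (P : Subgroup G)) (hy1 : y ≠ 1) :
    Subgroup.centralizer ({y} : Set G) ≤ Subgroup.normalizer ((P : Subgroup G) : Set G) := fun g hg =>
  mem_normalizer_of_conj S hy hy1 (by
    rw [Subgroup.mem_centralizer_singleton_iff.1 hg, mul_inv_cancel_right]; exact hy)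

theorem exists_move (S : Setting P) {r : ℕ} [hr : Fact r.Prime] (hrp : r ≠ p) (R : Sylow r G)
    (hR : (R : Subgroup G) ≠ ⊥) : ∃ w ∈ Subgroup.normalizer ((R : Subgroup G) : Set G), IsPEl p w ∧
      ∃ a ∈ (R : Subgroup G), w * a * w⁻¹ ≠ a := by
  have := S.simple
  have hRp : ¬ p ∣ Nat.card R := by
    obtain ⟨k, hk⟩ := IsPGroup.iff_card.1 R.isPGroup'
    rw [hk]
    exact fun hd => hrp ((Nat.prime_dvd_prime_iff_eq hp.out hr.out).1 (hp.out.dvd_of_dvd_pow hd)).symm
  by_contra hno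
  push Not at hno
  have hle : Subgroup.normalizer ((R : Subgroup G) : Set G) ≤ Subgroup.centralizer (R : Set G) := by
    intro w hw
    rw [Subgroup.mem_centralizer_iff]
    intro a ha
    obtain ⟨u, v, huv, hu, hv⟩ := split (p := p) w
    have h1 := hno (w ^ u) (pow_mem hw u) hu a ha
    have h2 : w ^ v * a * (w ^ v)⁻¹ = a := by
      have hJ := not_dvd_sup hv hRp (pow_mem hw v)
      rw [comm_of_not_dvd S hJ (Subgroup.mem_sup_left (Subgroup.mem_zpowers _)) (Subgroup.mem_sup_right ha),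
        mul_inv_cancel_right]
    have h3 : w * a * w⁻¹ = a := by
      rw [← huv]
      calc w ^ u * w ^ v * a * (w ^ u * w ^ v)⁻¹ = w ^ u * (w ^ v * a * (w ^ v)⁻¹) * (w ^ u)⁻¹ := by group
        _ = a := by rw [h2, h1]
    exact (mul_inv_eq_iff_eq_mul.1 h3).symm
  obtain ⟨-, N, hN, hc⟩ := Transfer.hasNormalPComplement_of_normalizer_le_centralizer R hle
  obtain ⟨R', N, hN, hc⟩ := Transfer.hasNormalPComplement_of_normalizer_le_centralizer R hle
  have hRc : Nat.card R' = Nat.card R := by rw [R'.card_eq_multiplicity, R.card_eq_multiplicity]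
  rcases hN.eq_bot_or_eq_top with h | h
  · have h1 := hc.card_mul
    rw [h, Subgroup.card_bot, one_mul] at h1
    exact hRp (hRc ▸ h1 ▸ S.dvd)
  · have h1 := hc.card_mul
    rw [h, Subgroup.card_top] at h1
    have h2 : Nat.card R' = 1 := Nat.eq_of_mul_eq_mul_left (Nat.card_pos (α := G)) (by rw [mul_one]; exact h1)
    exact hR (Subgroup.card_eq_one.1 (hRc ▸ h2))

omit [Finite G] hp in
theorem normalizer_le_normalizer_centralizer (H : Subgroup G) :
    Subgroup.normalizer (H : Set G) ≤ Subgroup.normalizer ((Subgroup.centralizer (H : Set G) : Subgroup G) : Set G) := by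
  intro g hg
  rw [Subgroup.mem_normalizer_iff]
  intro c
  simp only [Subgroup.mem_centralizer_iff, SetLike.mem_coe]
  constructor
  · intro h a ha
    have := h _ ((Subgroup.mem_normalizer_iff''.1 hg a).1 ha)
    calc a * (g * c * g⁻¹) = g * ((g⁻¹ * a * g) * c) * g⁻¹ := by group
      _ = _ := by rw [this]; group
  · intro h a ha
    have := h _ ((Subgroup.mem_normalizer_iff.1 hg a).1 ha)
    calc a * c = g⁻¹ * ((g * a * g⁻¹) * (g * c * g⁻¹)) * g := by group
      _ = _ := by rw [this]; group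

section fixed

variable (S : Setting P)
include S

/-- The abelian complement of `P` in its normaliser. -/
theorem exists_complement : ∃ A : Subgroup G, A ≤ Subgroup.normalizer ((P : Subgroup G) : Set G) ∧
    ¬ p ∣ Nat.card A ∧ Nat.card (Subgroup.normalizer ((P : Subgroup G) : Set G)) = Nat.card P * Nat.card A ∧
    (∀ g ∈ Subgroup.normalizer ((P : Subgroup G) : Set G), ∃ u ∈ (P : Subgroup G), ∃ a ∈ A, g = u * a) ∧
    (∀ b : G, ¬ p ∣ orderOf b → (∀ y ∈ (P : Subgroup G), b * y * b⁻¹ = y) → b ∈ A) ∧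
    ∃ l ∈ A, ∃ y ∈ (P : Subgroup G), l * y * l⁻¹ ≠ y := by
  set N := Subgroup.normalizer ((P : Subgroup G) : Set G)
  set P' := (P : Subgroup G).subgroupOf N
  have hcardP : Nat.card P' = Nat.card P :=
    Nat.card_congr (Subgroup.subgroupOfEquivOfLe Subgroup.le_normalizer).toEquiv
  have hcop : (Nat.card P').Coprime P'.index := by
    obtain ⟨k, hk⟩ := IsPGroup.iff_card.1 P.isPGroup'
    rw [hcardP, hk]
    exact Nat.Coprime.pow_left k (hp.out.coprime_iff_not_dvd.2
      (fun hd => P.not_dvd_index (hd.trans (Subgroup.relIndex_dvd_index_of_le Subgroup.le_normalizer))))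
  obtain ⟨A', hA'⟩ := Subgroup.exists_right_complement'_of_coprime hcop
  set A := A'.map N.subtype
  have hAc : Nat.card A = P'.index := by
    rw [Subgroup.card_map_of_injective N.subtype_injective, hA'.symm.index_eq_card]
  have hdec : ∀ g ∈ N, ∃ u ∈ (P : Subgroup G), ∃ a ∈ A, g = u * a := by
    intro g hg
    obtain ⟨⟨u, a⟩, h⟩ := hA'.2 (⟨g, hg⟩ : N)
    exact ⟨_, u.2, _, ⟨a, a.2, rfl⟩, (congrArg Subtype.val h).symm⟩
  have hAN : A ≤ N := Subgroup.map_subtype_le _
  have hAp : ¬ p ∣ Nat.card A := by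
    rw [hAc]
    exact fun hd => P.not_dvd_index (hd.trans (Subgroup.relIndex_dvd_index_of_le Subgroup.le_normalizer))
  refine ⟨A, hAN, hAp, ?_, hdec, ?_, ?_⟩
  · rw [hAc, ← hcardP, Subgroup.card_mul_index]
  · intro b hb hbc
    have hbN : b ∈ N := Subgroup.mem_normalizer_iff.2 fun h => by
      constructor
      · intro hh; rwa [hbc h hh]
      · intro hh
        have := hbc _ hh
        have h' : b * h * b⁻¹ = h := mul_left_cancel (mul_right_cancel this)
        rwa [h'] at hh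
    obtain ⟨u, hu, a, ha, rfl⟩ := hdec b hbN
    have hcom : Commute u (u * a) := by
      show u * (u * a) = u * a * u
      exact (mul_inv_eq_iff_eq_mul.1 (hbc u hu)).symm
    have hua : Commute u a := by
      have := hcom
      rw [commute_iff_eq, mul_assoc u a u] at this
      exact mul_left_cancel this
    have hu1 : u = 1 := by
      refine (isPEl_mem_P P hu).eq_one fun hd => hb ?_
      rw [hua.orderOf_mul_eq_mul_orderOf_of_coprime]
      · exact hd.mul_right _
      · obtain ⟨k, hk⟩ := isPEl_mem_P P hu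
        rw [hk]
        exact Nat.Coprime.pow_left k (hp.out.coprime_iff_not_dvd.2 fun h => hAp (h.trans (A.orderOf_dvd_natCard ha)))
    rwa [hu1, one_mul]
  · obtain ⟨l, hl, -, y, hy, hly⟩ := S.aut
    obtain ⟨u, hu, a, ha, rfl⟩ := hdec l hl
    refine ⟨a, ha, y, hy, fun e => hly ?_⟩
    calc u * a * y * (u * a)⁻¹ = u * (a * y * a⁻¹) * u⁻¹ := by group
      _ = y := by
        rw [e]
        have := S.cyclic
        have h1 : u * y = y * u := congrArg Subtype.val
          ((IsCyclic.commGroup (α := P)).mul_comm ⟨u, hu⟩ ⟨y, hy⟩)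
        rw [h1, mul_inv_cancel_right]

theorem centralizer_central_le {b : G} (hb : ¬ p ∣ orderOf b) (hb1 : b ≠ 1)
    (hbc : ∀ y ∈ (P : Subgroup G), b * y * b⁻¹ = y) :
    Subgroup.centralizer ({b} : Set G) ≤ Subgroup.normalizer ((P : Subgroup G) : Set G) := by
  obtain ⟨A, hAN, hAp, -, -, hmem, l, hlA, hly⟩ := exists_complement S
  refine le_normalizer_of_alt S (center_trivial S hb1) ?_ (hAN hlA) ?_
    (fun hd => hAp (hd.trans (A.orderOf_dvd_natCard hlA))) hly
  · intro y hy
    rw [Subgroup.mem_centralizer_singleton_iff]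
    exact (mul_inv_eq_iff_eq_mul.1 (hbc y hy)).symm
  · rw [Subgroup.mem_centralizer_singleton_iff]
    exact comm_of_not_dvd S hAp hlA (hmem b hb hbc)

theorem pow_sub_one_central {a : G} (ha : a ∈ Subgroup.normalizer ((P : Subgroup G) : Set G))
    (hap : ¬ p ∣ orderOf a) : ∀ y ∈ (P : Subgroup G), a ^ (p - 1) * y * (a ^ (p - 1))⁻¹ = y := by
  set f := (P : Subgroup G).normalizerMonoidHom
  obtain ⟨k, hk⟩ := IsPGroup.iff_card.1 P.isPGroup'
  have hk0 : 0 < k := by
    by_contra h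
    obtain rfl : k = 0 := by omega
    obtain ⟨l, -, -, y, hy, hly⟩ := S.aut
    rw [pow_zero, Subgroup.card_eq_one] at hk
    rw [hk, Subgroup.mem_bot] at hy
    subst hy
    simp at hly
  have := S.cyclic
  have h1 : f (⟨a, ha⟩ ^ (p ^ (k - 1) * (p - 1))) = 1 := by
    rw [map_pow, ← Nat.totient_prime_pow hp.out hk0, ← hk, ← IsCyclic.card_mulAut]
    exact pow_card_eq_one'
  have h2 : ∀ y ∈ (P : Subgroup G), a ^ (p ^ (k - 1) * (p - 1)) * y * (a ^ (p ^ (k - 1) * (p - 1)))⁻¹ = y := by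
    intro y hy
    have h3 := congrArg (fun φ : MulAut (P : Subgroup G) => ((φ ⟨y, hy⟩ : (P : Subgroup G)) : G)) h1
    exact h3
  intro y hy
  have hfix : ∀ g ∈ Subgroup.zpowers (a ^ (p ^ (k - 1) * (p - 1))), g * y * g⁻¹ = y := by
    intro g hg
    have hle : Subgroup.zpowers (a ^ (p ^ (k - 1) * (p - 1))) ≤ Subgroup.centralizer ({y} : Set G) := by
      rw [Subgroup.zpowers_le, Subgroup.mem_centralizer_singleton_iff]
      exact mul_inv_eq_iff_eq_mul.1 (h2 y hy)
    exact mul_inv_eq_iff_eq_mul.2 (Subgroup.mem_centralizer_singleton_iff.1 (hle hg))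
  refine hfix _ ?_
  rw [mul_comm, pow_mul]
  refine mem_zpowers_pow (Nat.Coprime.pow_right _ ?_)
  rw [Nat.coprime_comm, hp.out.coprime_iff_not_dvd]
  exact fun hd => hap (hd.trans (orderOf_pow_dvd _))

/-- The case of a `p'`-element centralising `P`. -/
theorem central_prime_order {r : ℕ} [hr : Fact r.Prime] {x : G} (hx : orderOf x = r) (hrp : r ≠ p)
    (hxc : ∀ y ∈ (P : Subgroup G), x * y * x⁻¹ = y) :
    r = 2 ∧ p = 3 ∧ ∃ R : Sylow 2 G, x ∈ (R : Subgroup G) ∧ Nat.card R = 4 ∧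
      (∀ a ∈ (R : Subgroup G), a * a = 1) ∧ (R : Subgroup G) ≤ Subgroup.normalizer ((P : Subgroup G) : Set G) ∧
      ∀ a ∈ (R : Subgroup G), a ≠ 1 → IsConj x a := by
  classical
  set N := Subgroup.normalizer ((P : Subgroup G) : Set G)
  have hxp : ¬ p ∣ orderOf x := by
    rw [hx]; exact fun hd => hrp ((Nat.prime_dvd_prime_iff_eq hp.out hr.out).1 hd).symm
  have hx1 : x ≠ 1 := fun e => by rw [e, orderOf_one] at hx; exact hr.out.one_lt.ne hx
  have hCx := centralizer_central_le S hxp hx1 hxc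
  obtain ⟨R, hR⟩ := (IsPGroup.of_card (n := 1) (show Nat.card (Subgroup.zpowers x) = r ^ 1 by
    rw [Nat.card_zpowers, hx, pow_one])).exists_le_sylow
  have hxR : x ∈ (R : Subgroup G) := hR (Subgroup.mem_zpowers x)
  have hRne : (R : Subgroup G) ≠ ⊥ := fun e => hx1 (Subgroup.mem_bot.1 (e ▸ hxR))
  obtain ⟨w, hw, hwp, a0, ha0, hne⟩ := exists_move S hrp R hRne
  have hRp : ¬ p ∣ Nat.card R := by
    obtain ⟨k, hk⟩ := IsPGroup.iff_card.1 R.isPGroup'
    rw [hk]
    exact fun hd => hrp ((Nat.prime_dvd_prime_iff_eq hp.out hr.out).1 (hp.out.dvd_of_dvd_pow hd)).symm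
  have hNRne : Subgroup.normalizer ((R : Subgroup G) : Set G) ≠ ⊤ := by
    intro e
    have := S.simple
    rcases (Subgroup.normalizer_eq_top_iff.1 e).eq_bot_or_eq_top with h0 | h0
    · exact hRne h0
    · exact hRp (by rw [h0, Subgroup.card_top]; exact S.dvd)
  have hRcomm : ∀ a ∈ (R : Subgroup G), a * x = x * a := fun a ha => comm_of_not_dvd S hRp ha hxR
  have hRN : (R : Subgroup G) ≤ N := fun a ha => hCx (Subgroup.mem_centralizer_singleton_iff.2 (hRcomm a ha))
  rcases S.alt _ hNRne with ⟨L, hLH, hHL, hLp, hLmem, -⟩ | ⟨Q, hQH, hQ, hHQ, hQmem⟩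
  swap
  · exfalso
    have hwQ := hQmem w hw hwp
    have h1 : w * a0 * w⁻¹ * a0⁻¹ ∈ Q := commutator_mem hwQ (hHQ (Subgroup.le_normalizer ha0))
    have h2 : w * a0 * w⁻¹ * a0⁻¹ ∈ (R : Subgroup G) :=
      mul_mem ((Subgroup.mem_normalizer_iff.1 hw a0).1 ha0) (inv_mem ha0)
    exact hne (mul_inv_eq_one.1 ((IsPEl.mk' hQ h1).eq_one fun hd => hRp (hd.trans (Subgroup.orderOf_dvd_natCard _ h2))))
  have hord : ∀ a ∈ L, ¬ p ∣ orderOf a := fun a ha hd => hLp (hd.trans (L.orderOf_dvd_natCard ha))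
  have hRL : (R : Subgroup G) ≤ L := fun a ha =>
    hLmem a (Subgroup.le_normalizer ha) (fun hd => hRp (hd.trans (Subgroup.orderOf_dvd_natCard _ ha)))
  have hxL : x ∈ L := hRL hxR
  have hLcomm : ∀ a ∈ L, ∀ b ∈ L, a * b = b * a := fun a ha b hb => comm_of_not_dvd S hLp ha hb
  have hLN : L ≤ N := fun a ha => hCx (Subgroup.mem_centralizer_singleton_iff.2 (hLcomm a ha x hxL))
  have hwL : ∀ a ∈ L, w * a * w⁻¹ ∈ L := fun a ha => (Subgroup.mem_normalizer_iff.1 (hHL hw) a).1 ha
  have hinter : ∀ b ∈ L, (∀ y ∈ (P : Subgroup G), b * y * b⁻¹ = y) →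
      (∀ y ∈ (P : Subgroup G), w * b * w⁻¹ * y * (w * b * w⁻¹)⁻¹ = y) → b = 1 := by
    intro b hb hb1 hb2
    by_contra hne1
    have hc := centralizer_central_le S (hord b hb) hne1 hb1
    have hwN : w⁻¹ ∈ N := by
      have hPle : ∀ y ∈ (P : Subgroup G), w⁻¹ * y * w ∈ (P : Subgroup G) := by
        intro y hy
        refine mem_P_of_normalizer (hc ?_) ?_
        · rw [Subgroup.mem_centralizer_singleton_iff]
          calc w⁻¹ * y * w * b = w⁻¹ * (y * (w * b * w⁻¹)) * w := by group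
            _ = w⁻¹ * ((w * b * w⁻¹) * y) * w := by rw [← mul_inv_eq_iff_eq_mul.1 (hb2 y hy)]
            _ = _ := by group
        · obtain ⟨k, hk⟩ := isPEl_mem_P P hy
          exact ⟨k, by rw [← hk]; simpa using orderOf_conj w⁻¹ y⟩
      rw [Subgroup.mem_normalizer_iff_map_conj_eq]
      refine Subgroup.eq_of_le_of_card_ge ?_ (Subgroup.card_map_of_injective (MulAut.conj _).injective).ge
      rintro _ ⟨y, hy, rfl⟩
      simpa using hPle y hy
    have hwP := mem_P_of_normalizer (by simpa using inv_mem hwN : w ∈ N) hwp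
    have h1 : w * a0 * w⁻¹ * a0⁻¹ ∈ (P : Subgroup G) := by
      rw [show w * a0 * w⁻¹ * a0⁻¹ = w * (a0 * w⁻¹ * a0⁻¹) by group]
      exact mul_mem hwP ((Subgroup.mem_normalizer_iff.1 (hRN ha0) _).1 (inv_mem hwP))
    have h2 : w * a0 * w⁻¹ * a0⁻¹ ∈ (R : Subgroup G) :=
      mul_mem ((Subgroup.mem_normalizer_iff.1 hw a0).1 ha0) (inv_mem ha0)
    exact hne (mul_inv_eq_one.1 ((isPEl_mem_P P h1).eq_one fun hd => hRp (hd.trans (Subgroup.orderOf_dvd_natCard _ h2))))
  have hexp : ∀ a ∈ L, a ^ (p - 1) = 1 := by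
    intro a ha
    refine hinter _ (pow_mem ha _) (pow_sub_one_central S (hLN ha) (hord a ha)) ?_
    have h1 := pow_sub_one_central S (hLN (hwL a ha)) (hord _ (hwL a ha))
    rw [conj_pow] at h1
    exact h1
  have hp1 : r ∣ p - 1 := hx ▸ orderOf_dvd_of_pow_eq_one (hexp x hxL)
  have hp2 : p ≠ 2 := fun e => by
    subst e
    exact hr.out.not_dvd_one hp1
  have hrlt : r < p := by
    have := Nat.le_of_dvd (by have := hp.out.two_le; omega) hp1
    have := hp.out.two_le
    omega
  -- the elements of exponent `r`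
  let Ω : Subgroup G :=
    { carrier := {a | a ∈ L ∧ a ^ r = 1}
      one_mem' := ⟨one_mem L, one_pow r⟩
      mul_mem' := fun {a b} ha hb => ⟨mul_mem ha.1 hb.1, by
        rw [(show Commute a b from hLcomm a ha.1 b hb.1).mul_pow, ha.2, hb.2, one_mul]⟩
      inv_mem' := fun {a} ha => ⟨inv_mem ha.1, by rw [inv_pow, ha.2, inv_one]⟩ }
  have hxΩ : x ∈ Ω := ⟨hxL, by rw [← hx]; exact pow_orderOf_eq_one x⟩
  have hΩw : ∀ a ∈ Ω, w * a * w⁻¹ ∈ Ω := fun a ha => ⟨hwL a ha.1, by rw [conj_pow, ha.2]; group⟩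
  let f : Ω →* MulAut (P : Subgroup G) :=
    ((P : Subgroup G).normalizerMonoidHom).comp (Subgroup.inclusion (fun a ha => hLN ha.1 : Ω ≤ N))
  have hker : ∀ a : Ω, a ∈ f.ker → ∀ y ∈ (P : Subgroup G), (a : G) * y * (a : G)⁻¹ = y := by
    intro a ha y hy
    have h3 := congrArg (fun φ : MulAut (P : Subgroup G) => ((φ ⟨y, hy⟩ : (P : Subgroup G)) : G))
      (MonoidHom.mem_ker.1 ha)
    exact h3
  have hrange : Nat.card f.range ≤ r := by
    have := S.cyclic
    obtain ⟨k, hk⟩ := IsPGroup.iff_card.1 P.isPGroup'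
    have : IsCyclic (ZMod (Nat.card (P : Subgroup G)))ˣ := hk ▸ ZMod.isCyclic_units_of_prime_pow p hp.out hp2 k
    have : IsCyclic (MulAut (P : Subgroup G)) :=
      isCyclic_of_surjective (IsCyclic.mulAutMulEquiv (P : Subgroup G)).symm (MulEquiv.surjective _)
    have := Fintype.ofFinite (MulAut (P : Subgroup G))
    refine le_trans ?_ (IsCyclic.card_pow_eq_one_le (α := MulAut (P : Subgroup G)) hr.out.pos)
    rw [← Fintype.card_subtype, ← Nat.card_eq_fintype_card]
    refine Nat.card_le_card_of_injective (fun φ => ⟨φ.1, ?_⟩)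
      (fun a b e => Subtype.ext (congrArg Subtype.val e :))
    obtain ⟨a, ha⟩ := φ.2
    rw [← ha, ← map_pow, show a ^ r = 1 from Subtype.ext (by simpa using a.2.2), map_one]
  have hkerle : Nat.card f.ker ≤ Nat.card f.range := by
    refine Nat.card_le_card_of_injective
      (fun b => (⟨f ⟨w * b.1.1 * w⁻¹, hΩw _ b.1.2⟩, ⟨_, rfl⟩⟩ : f.range)) fun b c e => ?_
    have he := congrArg Subtype.val e
    simp only at he
    have hm : (⟨w * (b.1.1 * c.1.1⁻¹) * w⁻¹, hΩw _ (mul_mem b.1.2 (inv_mem c.1.2))⟩ : Ω) ∈ f.ker := by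
      rw [MonoidHom.mem_ker, ← mul_inv_eq_one.2 he, ← map_inv, ← map_mul]
      congr 1
      exact Subtype.ext (by simp [mul_assoc])
    have h1 := hinter (b.1.1 * c.1.1⁻¹) (mul_mem b.1.2.1 (inv_mem c.1.2.1))
      (fun y hy => hker (b.1 * c.1⁻¹) (mul_mem b.2 (inv_mem c.2)) y hy)
      (hker _ hm)
    exact Subtype.ext (Subtype.ext (mul_inv_eq_one.1 h1))
  have hΩcard : Nat.card Ω ≤ r ^ 2 := by
    rw [← f.ker.index_mul_card, Subgroup.index_ker, sq]
    exact Nat.mul_le_mul hrange (hkerle.trans hrange)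
  obtain ⟨j, hj⟩ : ∃ j, Nat.card Ω = r ^ j := IsPGroup.iff_card.1 fun a => ⟨1, by
    rw [pow_one]; exact Subtype.ext (by simpa using a.2.2)⟩
  have hxne : w * x * w⁻¹ ≠ x := fun e => hx1 (hinter x hxL hxc (by rw [e]; exact hxc))
  have hj2 : j = 2 := by
    have hle : j ≤ 2 := (Nat.pow_le_pow_iff_right hr.out.one_lt).1 (hj ▸ hΩcard)
    by_contra hne2
    have h1 : r ∣ Nat.card Ω := hx ▸ Ω.orderOf_dvd_natCard hxΩ
    have hj0 : j ≠ 0 := fun e => by rw [hj, e, pow_zero] at h1; exact hr.out.not_dvd_one h1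
    have heq : Subgroup.zpowers x = Ω := Subgroup.eq_of_le_of_card_ge (Subgroup.zpowers_le.2 hxΩ) (by
      rw [Nat.card_zpowers, hx, hj, show j = 1 by omega, pow_one])
    obtain ⟨i, hi⟩ := Subgroup.mem_zpowers_iff.1 (heq ▸ hΩw x hxΩ)
    refine hx1 (hinter x hxL hxc fun y hy => ?_)
    rw [← hi]
    have : x ^ i ∈ Subgroup.centralizer ({y} : Set G) := zpow_mem
      (Subgroup.mem_centralizer_singleton_iff.2 (mul_inv_eq_iff_eq_mul.1 (hxc y hy))) i
    exact mul_inv_eq_iff_eq_mul.2 (Subgroup.mem_centralizer_singleton_iff.1 this)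
  subst hj2
  -- fixed points of `w` on `Ω`
  have hWp : IsPGroup p (Subgroup.zpowers w) := by
    obtain ⟨k, hk⟩ := hwp
    exact IsPGroup.of_card (n := k) (by rw [Nat.card_zpowers, hk])
  have hΩn : Subgroup.zpowers w ≤ Subgroup.normalizer (Ω : Set G) := by
    rw [Subgroup.zpowers_le, Subgroup.mem_normalizer_iff_map_conj_eq]
    refine Subgroup.eq_of_le_of_card_ge ?_ (Subgroup.card_map_of_injective (MulAut.conj _).injective).ge
    rintro _ ⟨a, ha, rfl⟩
    exact hΩw a ha
  letI : MulAction (Subgroup.zpowers w) Ω :=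
    { smul := fun g a => ⟨g.1 * a.1 * g.1⁻¹, (Subgroup.mem_normalizer_iff.1 (hΩn g.2) a.1).1 a.2⟩
      one_smul := fun a => Subtype.ext (show ((1 : Subgroup.zpowers w) : G) * a.1 * _ = a.1 by simp)
      mul_smul := fun g h a => Subtype.ext (show ((g * h : Subgroup.zpowers w) : G) * a.1 * _ =
        g.1 * (h.1 * a.1 * h.1⁻¹) * g.1⁻¹ by simp [mul_assoc]) }
  have hmod := hWp.card_modEq_card_fixedPoints (α := Ω)
  let F : Subgroup Ω :=
    { carrier := {a | w * (a : G) * w⁻¹ = a}
      one_mem' := by simp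
      mul_mem' := fun {a b} ha hb => by
        show w * ((a * b : Ω) : G) * w⁻¹ = _
        rw [Subgroup.coe_mul, show w * ((a : G) * b) * w⁻¹ = (w * a * w⁻¹) * (w * b * w⁻¹) by group, ha, hb]
      inv_mem' := fun {a} ha => by
        show w * ((a⁻¹ : Ω) : G) * w⁻¹ = _
        rw [InvMemClass.coe_inv, ← conj_inv, ha] }
  have hFix : Nat.card (MulAction.fixedPoints (Subgroup.zpowers w) Ω) = Nat.card F := by
    refine Nat.card_congr (Equiv.subtypeEquivRight fun a => ?_)
    constructor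
    · intro h
      exact congrArg Subtype.val (h ⟨w, Subgroup.mem_zpowers w⟩)
    · intro h g
      have hg : g.1 ∈ Subgroup.centralizer ({(a : G)} : Set G) := (Subgroup.zpowers_le.2
        (Subgroup.mem_centralizer_singleton_iff.2 (mul_inv_eq_iff_eq_mul.1 h))) g.2
      exact Subtype.ext (mul_inv_eq_iff_eq_mul.2 (Subgroup.mem_centralizer_singleton_iff.1 hg))
  rw [hFix, hj] at hmod
  obtain ⟨i, hi, hFc⟩ := (Nat.dvd_prime_pow hr.out).1 (hj ▸ Subgroup.card_subgroup_dvd_card F)
  have hi2 : i ≠ 2 := by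
    intro e
    have : F = ⊤ := Subgroup.eq_top_of_card_eq F (by rw [hFc, e, hj])
    exact hxne (show (⟨x, hxΩ⟩ : Ω) ∈ F from this ▸ Subgroup.mem_top _)
  have hle : r ^ i ≤ r ^ 2 := Nat.pow_le_pow_right hr.out.pos hi
  rw [hFc] at hmod
  have hd : p ∣ r ^ 2 - r ^ i := (Nat.modEq_iff_dvd' hle).1 hmod.symm
  have hr2 : r = 2 ∧ p = 3 := by
    have key : ∀ n, p ∣ n → 0 < n → n ≤ r + 1 → n = r + 1 → r = 2 ∧ p = 3 := by
      intro n hn h0 _ hn1
      have hle := Nat.le_of_dvd h0 hn
      have hpr : p = r + 1 := by omega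
      rcases hr.out.eq_two_or_odd' with h | h
      · exact ⟨h, by omega⟩
      · exfalso
        have : Even p := hpr ▸ h.add_one
        exact hp2 (hp.out.even_iff.1 this)
    have hr2' := hr.out.two_le
    rcases (by omega : i = 0 ∨ i = 1) with rfl | rfl
    · rw [pow_zero, show r ^ 2 - 1 = (r + 1) * (r - 1) by rw [← Nat.sq_sub_sq, one_pow]] at hd
      rcases hp.out.dvd_mul.1 hd with h | h
      · exact key _ h (by omega) le_rfl rfl
      · have := Nat.le_of_dvd (by omega) h
        omega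
    · rw [pow_one, show r ^ 2 - r = r * (r - 1) by rw [Nat.mul_sub, mul_one, sq]] at hd
      rcases hp.out.dvd_mul.1 hd with h | h
      · have := Nat.le_of_dvd (by omega) h
        omega
      · have := Nat.le_of_dvd (by omega) h
        omega
  obtain ⟨rfl, rfl⟩ := hr2
  have hall : ∀ a ∈ L, a * a = 1 := fun a ha => by rw [← sq]; exact hexp a ha
  have hΩL : Ω = L := le_antisymm (fun a ha => ha.1) fun a ha => ⟨ha, by rw [sq]; exact hall a ha⟩
  have hLR : L = (R : Subgroup G) := R.is_maximal' (IsPGroup.of_card (hΩL ▸ hj)) hRL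
  have hR4 : Nat.card R = 4 := by
    have : Nat.card (R : Subgroup G) = Nat.card Ω := by rw [hΩL, hLR]
    rw [this, hj]; norm_num
  refine ⟨rfl, rfl, R, hxR, hR4, fun a ha => hall a (hRL ha), hRN, ?_⟩
  have hexpR : ∀ a ∈ (R : Subgroup G), a * a = 1 := fun a ha => hall a (hRL ha)
  intro a ha ha1
  set b := w * x * w⁻¹ with hb
  have hbR : b ∈ (R : Subgroup G) := hLR ▸ hwL x hxL
  have hcR : w * b * w⁻¹ ∈ (R : Subgroup G) := hLR ▸ hwL b (hRL hbR)
  have hb1 : b ≠ 1 := fun e => hx1 (conj_eq_one_iff.1 e)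
  have hcx : w * b * w⁻¹ ≠ x := by
    intro e
    have h2 : w ^ 2 ∈ Subgroup.centralizer ({x} : Set G) := Subgroup.mem_centralizer_singleton_iff.2 (by
      have : w ^ 2 * x * (w ^ 2)⁻¹ = x := by
        calc w ^ 2 * x * (w ^ 2)⁻¹ = w * b * w⁻¹ := by rw [hb, sq]; group
          _ = x := e
      exact mul_inv_eq_iff_eq_mul.1 this)
    have hw2 : w ∈ Subgroup.zpowers (w ^ 2) := mem_zpowers_pow (by
      obtain ⟨k, hk⟩ := hwp
      rw [hk]; exact Nat.Coprime.pow_left k (by norm_num))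
    exact hxne (mul_inv_eq_iff_eq_mul.2 (Subgroup.mem_centralizer_singleton_iff.1 (Subgroup.zpowers_le.2 h2 hw2)))
  rcases S4018.four hR4 hexpR hxR hbR hx1 hb1 (Ne.symm hxne) a ha with h | h | h | h
  · exact absurd h ha1
  · rw [h]
  · rw [h]; exact isConj_iff.2 ⟨w, rfl⟩
  · rcases S4018.four hR4 hexpR hxR hbR hx1 hb1 (Ne.symm hxne) _ hcR with e | e | e | e
    · exact absurd (conj_eq_one_iff.1 e) hb1
    · exact absurd e hcx
    · exact absurd (mul_left_cancel (mul_right_cancel e)) hxne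
    · rw [h, ← e]
      exact (isConj_iff.2 ⟨w, rfl⟩ : IsConj x b).trans (isConj_iff.2 ⟨w, rfl⟩)

/-- No `p'`-element centralises a non-trivial element of `P`. -/
theorem free {x y : G} (hx : ¬ p ∣ orderOf x) (hy : y ∈ (P : Subgroup G)) (hy1 : y ≠ 1)
    (hxy : x * y * x⁻¹ = y) : x = 1 := by
  classical
  by_contra hx1
  set N := Subgroup.normalizer ((P : Subgroup G) : Set G) with hN
  have hxN : x ∈ N := centralizer_le S hy hy1 (Subgroup.mem_centralizer_singleton_iff.2 (mul_inv_eq_iff_eq_mul.1 hxy))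
  have hxc : ∀ z ∈ (P : Subgroup G), x * z * x⁻¹ = z := by
    rcases coprime_dichotomy P.isPGroup' S.cyclic hx hxN with h | h
    · exact h
    · exact absurd (h.1 y hy hxy) hy1
  -- reduce to prime order
  have hred : ∀ b : G, ¬ p ∣ orderOf b → (∀ z ∈ (P : Subgroup G), b * z * b⁻¹ = z) → ∀ r : ℕ, r.Prime →
      r ∣ orderOf b → ∃ b0 : G, orderOf b0 = r ∧ r ≠ p ∧ (∀ z ∈ (P : Subgroup G), b0 * z * b0⁻¹ = z) := by
    intro b hb hbc r hr hrb
    refine ⟨b ^ (orderOf b / r), orderOf_pow_orderOf_div (orderOf_pos b).ne' hrb, fun e => hb (e ▸ hrb),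
      fun z hz => ?_⟩
    have : b ^ (orderOf b / r) ∈ Subgroup.centralizer ({z} : Set G) :=
      pow_mem (Subgroup.mem_centralizer_singleton_iff.2 (mul_inv_eq_iff_eq_mul.1 (hbc z hz))) _
    exact mul_inv_eq_iff_eq_mul.2 (Subgroup.mem_centralizer_singleton_iff.1 this)
  obtain ⟨x0, hx0, hne, hx0c⟩ := hred x hx hxc _ (Nat.minFac_prime (fun e => hx1 (orderOf_eq_one_iff.1 e)))
    (Nat.minFac_dvd _)
  have := Fact.mk (Nat.minFac_prime (fun e => hx1 (orderOf_eq_one_iff.1 e)))
  obtain ⟨hr2, hp3, R, hx0R, hR4, hexpR, hRN, hconj⟩ := central_prime_order S hx0 hne hx0c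
  rw [hr2] at hx0
  subst hp3
  have htwo : ∀ b : G, ¬ 3 ∣ orderOf b → (∀ z ∈ (P : Subgroup G), b * z * b⁻¹ = z) →
      ∀ r : ℕ, r.Prime → r ∣ orderOf b → r = 2 := by
    intro b hb hbc r hr hrb
    have := Fact.mk hr
    obtain ⟨b0, hb0, hne', hb0c⟩ := hred b hb hbc r hr hrb
    exact (central_prime_order S hb0 hne' hb0c).1
  obtain ⟨A, hAN, hAp, hNcard, hdec, hAmem, lA, hlA, hly⟩ := exists_complement S
  have hAord : ∀ a ∈ A, ¬ 3 ∣ orderOf a := fun a ha hd => hAp (hd.trans (A.orderOf_dvd_natCard ha))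
  -- `A` is a 2-group
  have hA2 : ∀ r : ℕ, r.Prime → r ∣ Nat.card A → r = 2 := by
    intro r hr hrA
    have := Fact.mk hr
    obtain ⟨a, ha⟩ := exists_prime_orderOf_dvd_card' (G := A) r hrA
    rw [← Subgroup.orderOf_coe] at ha
    by_contra hr2
    have hpr : orderOf ((a : G) ^ 2) = r := by
      rw [Nat.Coprime.orderOf_pow]
      · exact ha
      · rw [ha]; exact (Nat.coprime_primes hr Nat.prime_two).2 hr2
    exact hr2 (htwo _ (by rw [hpr, ← ha]; exact hAord a a.2)
      (by simpa using pow_sub_one_central S (hAN a.2) (hAord a a.2)) r hr hpr.symm.dvd)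
  obtain ⟨m, hm⟩ : ∃ m, Nat.card A = 2 ^ m := by
    refine ⟨(Nat.card A).primeFactorsList.length, Nat.eq_prime_pow_of_unique_prime_dvd Nat.card_pos.ne' ?_⟩
    exact fun {d} hd hdA => hA2 d hd hdA
  have hPodd : (2 : ℕ).Coprime (Nat.card P) := by
    obtain ⟨k, hk⟩ := IsPGroup.iff_card.1 P.isPGroup'
    rw [hk]; exact Nat.Coprime.pow_right k (by norm_num)
  have hA4 : Nat.card A = 4 := by
    refine Nat.dvd_antisymm ?_ ?_
    · have h1 : 2 ^ m ∣ Nat.card R := by
        rw [R.card_eq_multiplicity]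
        exact pow_dvd_pow 2 ((Nat.prime_two.pow_dvd_iff_le_factorization Nat.card_pos.ne').1
          (hm ▸ Subgroup.card_subgroup_dvd_card A))
      rwa [hR4, ← hm] at h1
    · have h1 := Subgroup.card_dvd_of_le hRN
      rw [hR4, hNcard, show 4 = 2 ^ 2 by rfl] at h1
      exact (Nat.Coprime.pow_left 2 hPodd).dvd_of_dvd_mul_left h1
  have hN4 : Nat.card N = 4 * Nat.card P := by rw [hN, hNcard, hA4, mul_comm]
  set C := Subgroup.centralizer ((P : Subgroup G) : Set G) with hC
  have hmemC : ∀ g : G, g ∈ C ↔ ∀ z ∈ (P : Subgroup G), g * z * g⁻¹ = z := fun g => by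
    simp only [hC, Subgroup.mem_centralizer_iff, SetLike.mem_coe, mul_inv_eq_iff_eq_mul]
    exact forall₂_congr fun z _ => eq_comm
  have hPcomm : ∀ a ∈ (P : Subgroup G), ∀ b ∈ (P : Subgroup G), a * b = b * a := fun a ha b hb => by
    have := S.cyclic
    exact congrArg Subtype.val ((IsCyclic.commGroup (α := (P : Subgroup G))).mul_comm ⟨a, ha⟩ ⟨b, hb⟩)
  have hPC : (P : Subgroup G) ≤ C := fun u hu => (hmemC u).2 fun z hz => by
    rw [hPcomm u hu z hz, mul_inv_cancel_right]
  have hx0A : x0 ∈ A := hAmem x0 (by rw [hx0]; decide) hx0c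
  have hx01 : x0 ≠ 1 := fun e => by rw [e, orderOf_one] at hx0; omega
  have hB : Nat.card (A ⊓ C : Subgroup G) = 2 := by
    have hd : Nat.card (A ⊓ C : Subgroup G) ∣ 2 ^ 2 :=
      (Subgroup.card_dvd_of_le inf_le_left).trans (hA4.trans (by norm_num)).dvd
    obtain ⟨i, hi, he⟩ := (Nat.dvd_prime_pow Nat.prime_two).1 hd
    have h2 : 2 ∣ Nat.card (A ⊓ C : Subgroup G) :=
      hx0 ▸ Subgroup.orderOf_dvd_natCard _ ⟨hx0A, (hmemC x0).2 hx0c⟩
    have hne4 : i ≠ 2 := by
      intro e
      have : A ⊓ C = A := Subgroup.eq_of_le_of_card_ge inf_le_left (by rw [he, e, hA4]; norm_num)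
      obtain ⟨z, hz, hzne⟩ := hly
      exact hzne ((hmemC lA).1 (this.ge hlA).2 z hz)
    have hne0 : i ≠ 0 := fun e => by rw [he, e, pow_zero] at h2; omega
    rw [he, show i = 1 by omega, pow_one]
  have hCdec : ∀ g ∈ C, ∃ u ∈ (P : Subgroup G), ∃ a ∈ (A ⊓ C : Subgroup G), g = u * a := by
    intro g hg
    obtain ⟨u, hu, a, ha, rfl⟩ := hdec g (Subgroup.centralizer_le_normalizer _ hg)
    exact ⟨u, hu, a, ⟨ha, by simpa using mul_mem (inv_mem (hPC hu)) hg⟩, rfl⟩
  have hdisj : ∀ a ∈ (A : Subgroup G), a ∈ (P : Subgroup G) → a = 1 := fun a ha haP =>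
    (isPEl_mem_P P haP).eq_one (hAord a ha)
  have hCcard : Nat.card C = 2 * Nat.card P := by
    rw [← hB, ← Nat.card_prod]
    refine (Nat.card_eq_of_bijective (fun q : (A ⊓ C : Subgroup G) × (P : Subgroup G) =>
      (⟨q.2.1 * q.1.1, mul_mem (hPC q.2.2) q.1.2.2⟩ : C)) ⟨?_, ?_⟩).symm
    · intro q q' e
      have e' : q.2.1 * q.1.1 = q'.2.1 * q'.1.1 := congrArg Subtype.val e
      have h1 : q'.2.1⁻¹ * q.2.1 = q'.1.1 * q.1.1⁻¹ := by
        rw [inv_mul_eq_iff_eq_mul, ← mul_assoc, eq_mul_inv_iff_mul_eq]; exact e'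
      have h2 := hdisj _ (mul_mem q'.1.2.1 (inv_mem q.1.2.1)) (h1 ▸ mul_mem (inv_mem q'.2.2) q.2.2)
      have h3 : q'.1.1 = q.1.1 := mul_inv_eq_one.1 h2
      rw [h3] at e'
      exact Prod.ext (Subtype.ext h3.symm) (Subtype.ext (mul_right_cancel e'))
    · rintro ⟨g, hg⟩
      obtain ⟨u, hu, a, ha, rfl⟩ := hCdec g hg
      exact ⟨(⟨a, ha⟩, ⟨u, hu⟩), rfl⟩
  have hBeq : ∀ a ∈ (A ⊓ C : Subgroup G), a = 1 ∨ a = x0 := by
    intro a ha
    have heq : Subgroup.zpowers x0 = A ⊓ C :=
      Subgroup.eq_of_le_of_card_ge (Subgroup.zpowers_le.2 ⟨hx0A, (hmemC x0).2 hx0c⟩) (by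
        rw [hB, Nat.card_zpowers, hx0])
    obtain ⟨i, rfl⟩ := Subgroup.mem_zpowers_iff.1 (heq ▸ ha)
    rcases Int.even_or_odd i with ⟨k, rfl⟩ | ⟨k, rfl⟩
    · left
      rw [← two_mul, zpow_mul, zpow_two, ← sq, ← hx0, pow_orderOf_eq_one, one_zpow]
    · right
      rw [zpow_add, zpow_mul, zpow_two, ← sq, ← hx0, pow_orderOf_eq_one, one_zpow, one_mul, zpow_one]
  have hTI : Cfsg.IsTISubset (C : Set G) := by
    intro g hg y hy hgy
    by_contra hy1
    refine hg (normalizer_le_normalizer_centralizer _ ?_)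
    obtain ⟨u, hu, a, ha, rfl⟩ := hCdec y hy
    by_cases hu1 : u = 1
    · subst hu1
      rw [one_mul] at hy1 hgy
      obtain rfl := (hBeq a ha).resolve_left hy1
      obtain ⟨u', hu', a', ha', he⟩ := hCdec _ hgy
      have hc : Commute u' a' := (mul_inv_eq_iff_eq_mul.1 ((hmemC a').1 ha'.2 u' hu')).symm
      have ho := orderOf_conj g a
      rw [hx0, he] at ho
      have hu'1 : u' = 1 := by
        refine (isPEl_mem_P P hu').eq_one fun hd => ?_
        rw [hc.orderOf_mul_eq_mul_orderOf_of_coprime] at ho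
        · exact absurd (hd.mul_right (orderOf a')) (by rw [ho]; norm_num)
        · obtain ⟨k, hk⟩ := isPEl_mem_P P hu'
          rw [hk]; exact Nat.Coprime.pow_left k (hp.out.coprime_iff_not_dvd.2 (hAord a' ha'.1))
      rw [hu'1, one_mul] at he ho
      rcases hBeq a' ha' with e | e
      · rw [e, orderOf_one] at ho; omega
      · rw [e, mul_inv_eq_iff_eq_mul] at he
        exact centralizer_central_le S (by rw [hx0]; decide) hy1 hx0c
          (Subgroup.mem_centralizer_singleton_iff.2 he)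
    · -- the square lies in `P`
      have hc : Commute u a := (mul_inv_eq_iff_eq_mul.1 ((hmemC a).1 ha.2 u hu)).symm
      have ha2 : a ^ 2 = 1 := by
        rcases hBeq a ha with e | e
        · rw [e, one_pow]
        · rw [e, ← hx0]; exact pow_orderOf_eq_one x0
      have hsq : (u * a) ^ 2 = u ^ 2 := by rw [hc.mul_pow, ha2, mul_one]
      refine mem_normalizer_of_conj S (pow_mem hu 2) (fun e => hu1 ?_) ?_
      · refine (isPEl_mem_P P hu).eq_one fun hd => ?_
        have := hd.trans (orderOf_dvd_of_pow_eq_one e)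
        norm_num at this
      · rw [← hsq, ← conj_pow]
        refine mem_P_of_normalizer (Subgroup.centralizer_le_normalizer _ (pow_mem hgy 2)) ?_
        rw [conj_pow, hsq]
        obtain ⟨k, hk⟩ := isPEl_mem_P P (pow_mem hu 2)
        exact ⟨k, by rw [orderOf_conj, hk]⟩
  have hCx0 := centralizer_central_le S (by rw [hx0]; decide) hx01 hx0c
  have heven : ∀ H : Subgroup G, H ≠ ⊤ → 2 ∣ Nat.card H → Nat.card H ∣ 4 * Nat.card P := by
    intro H hH h2
    obtain ⟨s', hs'⟩ := exists_prime_orderOf_dvd_card' (G := H) 2 h2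
    rw [← Subgroup.orderOf_coe] at hs'
    set s : G := s'.1
    obtain ⟨Q0, hQ0⟩ := (IsPGroup.of_card (n := 1) (show Nat.card (Subgroup.zpowers s) = 2 ^ 1 by
      rw [Nat.card_zpowers, hs', pow_one])).exists_le_sylow
    obtain ⟨g, hg⟩ := MulAction.exists_smul_eq G Q0 R
    have hgs : g * s * g⁻¹ ∈ (R : Subgroup G) := hg ▸ Subgroup.smul_mem_pointwise_smul s (MulAut.conj g) _
      (hQ0 (Subgroup.mem_zpowers s))
    obtain ⟨c, hc⟩ := isConj_iff.1 (hconj _ hgs (fun e => by
      rw [conj_eq_one_iff] at e; rw [e, orderOf_one] at hs'; omega))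
    have hsc : ∀ K : Subgroup G, s ∈ K → ¬ 3 ∣ Nat.card K → Nat.card K ∣ 4 := by
      intro K hsK hK
      have hle : K.map (MulAut.conj (c⁻¹ * g)).toMonoidHom ≤ N := by
        rintro _ ⟨a, ha, rfl⟩
        refine hCx0 (Subgroup.mem_centralizer_singleton_iff.2 ?_)
        have h1 := comm_of_not_dvd S hK ha hsK
        have hx0' : x0 = c⁻¹ * g * s * (c⁻¹ * g)⁻¹ := by
          rw [show c⁻¹ * g * s * (c⁻¹ * g)⁻¹ = c⁻¹ * (g * s * g⁻¹) * c by group, ← hc]; group
        rw [hx0']
        show c⁻¹ * g * a * (c⁻¹ * g)⁻¹ * _ = _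
        calc _ = c⁻¹ * g * (a * s) * (c⁻¹ * g)⁻¹ := by group
          _ = _ := by rw [h1]; simp [mul_assoc]
      have h3 := Subgroup.card_dvd_of_le hle
      rw [Subgroup.card_map_of_injective (MulAut.conj _).injective, hN4] at h3
      obtain ⟨k, hk⟩ := IsPGroup.iff_card.1 P.isPGroup'
      refine Nat.Coprime.dvd_of_dvd_mul_right ?_ h3
      rw [hk, Nat.coprime_comm]
      exact Nat.Coprime.pow_left k (hp.out.coprime_iff_not_dvd.2 hK)
    have hs3 : ¬ 3 ∣ orderOf s := by rw [hs']; decide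
    rcases S.alt H hH with ⟨K, hKH, hHK, hK, hKmem, k, hk⟩ | ⟨Q, hQH, hQ, hHQ, hQmem⟩
    · rw [hk]
      refine Nat.mul_dvd_mul (hsc K (hKmem s s'.2 hs3) hK) ?_
      rw [P.card_eq_multiplicity]
      exact pow_dvd_pow 3 ((hp.out.pow_dvd_iff_le_factorization Nat.card_pos.ne').1
        (((dvd_mul_left _ _).trans hk.symm.dvd).trans (Subgroup.card_subgroup_dvd_card H)))
    · by_cases hQ1 : Q = ⊥
      · refine (hsc H s'.2 (not_dvd_card_of_forall fun a ha hap => ?_)).trans (dvd_mul_right _ _)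
        simpa [hQ1] using hQmem a ha hap
      obtain ⟨z, hz, hz1⟩ := Q.bot_or_exists_ne_one.resolve_left hQ1
      obtain ⟨g', hg'⟩ := exists_conj_mem (P := P) hQ
      have hle : H.map (MulAut.conj g').toMonoidHom ≤ N := by
        rintro _ ⟨a, ha, rfl⟩
        refine mem_normalizer_of_conj S (hg' z hz) (fun e => hz1 (conj_eq_one_iff.1 e)) ?_
        show g' * a * g'⁻¹ * (g' * z * g'⁻¹) * (g' * a * g'⁻¹)⁻¹ ∈ _
        have := hg' _ ((Subgroup.mem_normalizer_iff.1 (hHQ ha) z).1 hz)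
        convert this using 1
        group
      have h3 := Subgroup.card_dvd_of_le hle
      rwa [Subgroup.card_map_of_injective (MulAut.conj _).injective, hN4] at h3
  have habP : IsMulCommutative P := by have := S.cyclic; exact IsCyclic.isMulCommutative
  exact S4018.result P habP hN4 hCcard hTI heven S.simple

/-- The centraliser of a `p'`-element is an abelian `p'`-group. -/
theorem centralizer_pPrime {x : G} (hx : ¬ p ∣ orderOf x) (hx1 : x ≠ 1) :
    ¬ p ∣ Nat.card (Subgroup.centralizer ({x} : Set G)) := by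
  refine not_dvd_card_of_forall fun a ha hap => ?_
  by_contra ha1
  obtain ⟨g, hg⟩ := exists_conj_mem' (P := P) hap
  refine hx1 (conj_eq_one_iff.1 (free S (x := g * x * g⁻¹) (by rwa [orderOf_conj]) hg
    (fun e => ha1 (conj_eq_one_iff.1 e)) ?_))
  calc g * x * g⁻¹ * (g * a * g⁻¹) * (g * x * g⁻¹)⁻¹ = g * (x * a * x⁻¹) * g⁻¹ := by group
    _ = g * a * g⁻¹ := by rw [← Subgroup.mem_centralizer_singleton_iff.1 ha, mul_inv_cancel_right]

theorem centralizer_eq {x y : G} (hx : ¬ p ∣ orderOf x) (hx1 : x ≠ 1)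
    (hy : y ∈ Subgroup.centralizer ({x} : Set G)) (hy1 : y ≠ 1) :
    Subgroup.centralizer ({y} : Set G) = Subgroup.centralizer ({x} : Set G) := by
  have hM := centralizer_pPrime S hx hx1
  have hyp : ¬ p ∣ orderOf y := fun hd => hM (hd.trans (Subgroup.orderOf_dvd_natCard _ hy))
  have hM' := centralizer_pPrime S hyp hy1
  refine le_antisymm (fun a ha => ?_) (fun a ha => ?_) <;> rw [Subgroup.mem_centralizer_singleton_iff]
  · exact comm_of_not_dvd S hM' ha (Subgroup.mem_centralizer_singleton_iff.2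
      (Subgroup.mem_centralizer_singleton_iff.1 hy).symm)
  · exact comm_of_not_dvd S hM ha hy

theorem centralizer_eq_P {y : G} (hy : y ∈ (P : Subgroup G)) (hy1 : y ≠ 1) {g : G} (hg : g * y = y * g) :
    g ∈ (P : Subgroup G) := by
  obtain ⟨u, v, huv, hu, hv⟩ := split (p := p) g
  have hgc : g ∈ Subgroup.centralizer ({y} : Set G) := Subgroup.mem_centralizer_singleton_iff.2 hg
  have hv1 : g ^ v = 1 := free S hv hy hy1
    (mul_inv_eq_iff_eq_mul.2 (Subgroup.mem_centralizer_singleton_iff.1 (pow_mem hgc v)))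
  rw [← huv, hv1, mul_one]
  exact mem_P_of_normalizer (centralizer_le S hy hy1 (pow_mem hgc u)) hu

theorem mem_of_normalizer {x w : G} (hx : ¬ p ∣ orderOf x) (hx1 : x ≠ 1) (hw : ¬ p ∣ orderOf w)
    (hwn : w ∈ Subgroup.normalizer ((Subgroup.centralizer ({x} : Set G) : Subgroup G) : Set G)) :
    w ∈ Subgroup.centralizer ({x} : Set G) := by
  have hM := centralizer_pPrime S hx hx1
  rw [Subgroup.mem_centralizer_singleton_iff]
  exact comm_of_not_dvd S (not_dvd_sup hw hM hwn) (Subgroup.mem_sup_left (Subgroup.mem_zpowers w))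
    (Subgroup.mem_sup_right (Subgroup.mem_centralizer_singleton_iff.2 rfl))

theorem centralizer_conj {x g : G} : ∀ a, a ∈ Subgroup.centralizer ({g * x * g⁻¹} : Set G) ↔
    g⁻¹ * a * g ∈ Subgroup.centralizer ({x} : Set G) := by
  intro a
  simp only [Subgroup.mem_centralizer_singleton_iff]
  constructor <;> intro h
  · calc g⁻¹ * a * g * x = g⁻¹ * (a * (g * x * g⁻¹)) * g := by group
      _ = _ := by rw [h]; group
  · calc a * (g * x * g⁻¹) = g * (g⁻¹ * a * g * x) * g⁻¹ := by group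
      _ = _ := by rw [h]; group

theorem mem_normalizer_centralizer {x y g : G} (hx : ¬ p ∣ orderOf x) (hx1 : x ≠ 1)
    (hy : y ∈ Subgroup.centralizer ({x} : Set G)) (hy1 : y ≠ 1)
    (hgy : g * y * g⁻¹ ∈ Subgroup.centralizer ({x} : Set G)) :
    g ∈ Subgroup.normalizer ((Subgroup.centralizer ({x} : Set G) : Subgroup G) : Set G) := by
  rw [Subgroup.mem_normalizer_iff'']
  intro a
  conv_lhs => rw [← centralizer_eq S hx hx1 hgy (fun e => hy1 (conj_eq_one_iff.1 e))]
  rw [centralizer_conj S, centralizer_eq S hx hx1 hy hy1]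

theorem exists_move_centralizer {x : G} (hx : ¬ p ∣ orderOf x) (hx1 : x ≠ 1) :
    ∃ w ∈ Subgroup.normalizer ((Subgroup.centralizer ({x} : Set G) : Subgroup G) : Set G),
      w ∉ Subgroup.centralizer ({x} : Set G) ∧ IsPEl p w := by
  set M := Subgroup.centralizer ({x} : Set G)
  have hM := centralizer_pPrime S hx hx1
  have hr : (orderOf x).minFac.Prime := Nat.minFac_prime (fun e => hx1 (orderOf_eq_one_iff.1 e))
  have := Fact.mk hr
  set a := x ^ (orderOf x / (orderOf x).minFac) with hadef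
  have hord : orderOf a = (orderOf x).minFac :=
    orderOf_pow_orderOf_div (orderOf_pos x).ne' (Nat.minFac_dvd _)
  have haM : a ∈ M := pow_mem (Subgroup.mem_centralizer_singleton_iff.2 rfl) _
  have ha1 : a ≠ 1 := fun e => by rw [e, orderOf_one] at hord; exact hr.one_lt.ne hord
  have hrp : (orderOf x).minFac ≠ p := fun e => hx (e ▸ Nat.minFac_dvd _)
  obtain ⟨R, hR⟩ := (IsPGroup.of_card (n := 1) (show Nat.card (Subgroup.zpowers a) = (orderOf x).minFac ^ 1 by
    rw [Nat.card_zpowers, hord, pow_one])).exists_le_sylow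
  have haR : a ∈ (R : Subgroup G) := hR (Subgroup.mem_zpowers a)
  obtain ⟨w, hw, hwp, b, hb, hne⟩ := exists_move S hrp R (fun e => ha1 (Subgroup.mem_bot.1 (e ▸ haR)))
  have hRp : ¬ p ∣ Nat.card R := by
    obtain ⟨k, hk⟩ := IsPGroup.iff_card.1 R.isPGroup'
    rw [hk]
    exact fun hd => hrp ((Nat.prime_dvd_prime_iff_eq hp.out hr).1 (hp.out.dvd_of_dvd_pow hd)).symm
  have hRM : (R : Subgroup G) ≤ M := fun c hc => by
    rw [show M = Subgroup.centralizer ({a} : Set G) from (centralizer_eq S hx hx1 haM ha1).symm,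
      Subgroup.mem_centralizer_singleton_iff]
    exact comm_of_not_dvd S hRp hc haR
  refine ⟨w, mem_normalizer_centralizer S hx hx1 haM ha1 (hRM ((Subgroup.mem_normalizer_iff.1 hw a).1 haR)),
    fun hwM => hne ?_, hwp⟩
  rw [comm_of_not_dvd S hM hwM (hRM hb), mul_inv_cancel_right]

theorem exists_inv_of_involution {s y : G} (hs : orderOf s = 2) (hsN : s ∈ Subgroup.normalizer ((P : Subgroup G) : Set G))
    (hp2 : p ≠ 2) (hy : y ∈ (P : Subgroup G)) : s * y * s⁻¹ = y⁻¹ := by
  have hsp : ¬ p ∣ orderOf s := by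
    rw [hs]; exact fun hd => hp2 ((Nat.prime_dvd_prime_iff_eq hp.out Nat.prime_two).1 hd)
  have hs1 : s ≠ 1 := fun e => by rw [e, orderOf_one] at hs; omega
  have hy' : s * y * s⁻¹ ∈ (P : Subgroup G) := (Subgroup.mem_normalizer_iff.1 hsN y).1 hy
  have hcomm : y * (s * y * s⁻¹) = s * y * s⁻¹ * y := by
    have := S.cyclic
    exact congrArg Subtype.val ((IsCyclic.commGroup (α := (P : Subgroup G))).mul_comm ⟨y, hy⟩ ⟨_, hy'⟩)
  have hfix : s * (y * (s * y * s⁻¹)) * s⁻¹ = y * (s * y * s⁻¹) := by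
    have hss : s * s = 1 := by rw [← sq, ← hs]; exact pow_orderOf_eq_one s
    calc s * (y * (s * y * s⁻¹)) * s⁻¹ = (s * y * s⁻¹) * ((s * s) * y * (s * s)⁻¹) := by group
      _ = _ := by rw [hss, hcomm]; group
  refine eq_inv_of_mul_eq_one_right ?_
  by_contra hne
  exact hs1 (free S hsp (mul_mem hy hy') hne hfix)

theorem false_of_even (h2 : 2 ∣ Nat.card G) : False := by
  classical
  have := S.simple
  have := Fintype.ofFinite G
  set N := Subgroup.normalizer ((P : Subgroup G) : Set G) with hN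
  have hp2 : p ≠ 2 := by
    rintro rfl
    obtain ⟨l, hl, hlp, y, hy, hly⟩ := S.aut
    exact hly (mul_inv_eq_iff_eq_mul.2 (Subgroup.mem_centralizer_iff.1
      (IsCyclic.normalizer_le_centralizer ((Nat.minFac_eq_two_iff _).2 h2) S.cyclic hl) y hy).symm)
  obtain ⟨t, ht⟩ := exists_prime_orderOf_dvd_card' (G := G) 2 h2
  have hinvp : ∀ s : G, orderOf s = 2 → ¬ p ∣ orderOf s := fun s hs => by
    rw [hs]; exact fun hd => hp2 ((Nat.prime_dvd_prime_iff_eq hp.out Nat.prime_two).1 hd)
  have hinv1 : ∀ s : G, orderOf s = 2 → s ≠ 1 := fun s hs e => by rw [e, orderOf_one] at hs; omega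
  have hself : ∀ s : G, s ∈ Subgroup.centralizer ({s} : Set G) := fun s => Subgroup.mem_centralizer_singleton_iff.2 rfl
  set L := Subgroup.centralizer ({t} : Set G) with hL
  have hLp := centralizer_pPrime S (hinvp t ht) (hinv1 t ht)
  set NL := Subgroup.normalizer (L : Set G) with hNL
  -- every involution is conjugate into `L`
  have hintoL : ∀ s : G, orderOf s = 2 → ∃ g : G, g * s * g⁻¹ ∈ L := by
    intro s hs
    obtain ⟨R, hR⟩ := (IsPGroup.of_card (n := 1) (show Nat.card (Subgroup.zpowers t) = 2 ^ 1 by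
      rw [Nat.card_zpowers, ht, pow_one])).exists_le_sylow
    obtain ⟨Q, hQ⟩ := (IsPGroup.of_card (n := 1) (show Nat.card (Subgroup.zpowers s) = 2 ^ 1 by
      rw [Nat.card_zpowers, hs, pow_one])).exists_le_sylow
    obtain ⟨g, hg⟩ := MulAction.exists_smul_eq G Q R
    have hgs : g * s * g⁻¹ ∈ (R : Subgroup G) := hg ▸ Subgroup.smul_mem_pointwise_smul s (MulAut.conj g) _
      (hQ (Subgroup.mem_zpowers s))
    refine ⟨g, Subgroup.mem_centralizer_singleton_iff.2 ?_⟩
    obtain ⟨k, hk⟩ := IsPGroup.iff_card.1 R.isPGroup'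
    refine comm_of_not_dvd S (fun hd => ?_) hgs (hR (Subgroup.mem_zpowers t))
    rw [hk] at hd
    exact hp2 ((Nat.prime_dvd_prime_iff_eq hp.out Nat.prime_two).1 (hp.out.dvd_of_dvd_pow hd))
  set Iv : Finset G := Finset.univ.filter fun s => orderOf s = 2 with hIv
  set IL : Finset G := Finset.univ.filter fun s => orderOf s = 2 ∧ s ∈ L with hIL
  have hIC : ∀ s ∈ Iv, (Iv.filter fun t' => t' ∈ Subgroup.centralizer ({s} : Set G)).card = IL.card := by
    intro s hs
    simp only [hIv, Finset.mem_filter, Finset.mem_univ, true_and] at hs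
    obtain ⟨g, hg⟩ := hintoL s hs
    have hCL : Subgroup.centralizer ({g * s * g⁻¹} : Set G) = L :=
      centralizer_eq S (hinvp t ht) (hinv1 t ht) hg (fun e => hinv1 s hs (conj_eq_one_iff.1 e))
    refine Finset.card_equiv (MulAut.conj g).toEquiv fun a => ?_
    simp only [hIv, hIL, Finset.mem_filter, Finset.mem_univ, true_and, MulEquiv.toEquiv_eq_coe,
      EquivLike.coe_coe, MulAut.conj_apply, orderOf_conj]
    rw [← hCL, centralizer_conj S, show g⁻¹ * (g * a * g⁻¹) * g = a by group]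
  -- number of involutions
  have hI : Iv.card * Nat.card NL = Nat.card G * IL.card := by
    rw [Nat.card_eq_fintype_card (α := G), ← Finset.card_univ, ← Finset.card_product]
    rw [Finset.card_eq_sum_card_fiberwise (f := fun q : G × G => q.1 * q.2 * q.1⁻¹)
      (s := Finset.univ ×ˢ IL) (t := Iv) (fun q hq => by
        simp only [Finset.coe_product, Set.mem_prod, Finset.mem_coe, hIL, hIv, Finset.mem_filter,
          Finset.mem_univ, true_and] at hq ⊢
        rw [orderOf_conj]; exact hq.1),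
      Finset.sum_congr rfl (g := fun _ => Nat.card NL) (fun s hs => ?_), Finset.sum_const, smul_eq_mul]
    simp only [hIv, Finset.mem_filter, Finset.mem_univ, true_and] at hs
    obtain ⟨g, hg⟩ := hintoL s hs
    rw [Nat.card_eq_fintype_card, Fintype.card_subtype]
    symm
    refine Finset.card_bij (fun n _ => (g⁻¹ * n, n⁻¹ * (g * s * g⁻¹) * n)) ?_ ?_ ?_
    · intro n hn
      simp only [Finset.mem_filter, Finset.mem_univ, true_and] at hn
      simp only [Finset.mem_filter, Finset.mem_product, Finset.mem_univ, true_and, hIL]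
      refine ⟨⟨?_, (Subgroup.mem_normalizer_iff''.1 hn _).1 hg⟩, by group⟩
      have := orderOf_conj n⁻¹ (g * s * g⁻¹)
      rw [inv_inv, orderOf_conj, hs] at this
      exact this
    · intro n _ n' _ e
      exact mul_left_cancel (Prod.ext_iff.1 e).1
    · rintro ⟨a, b⟩ hab
      simp only [Finset.mem_filter, Finset.mem_product, Finset.mem_univ, true_and, hIL] at hab
      obtain ⟨⟨hb2, hbL⟩, he⟩ := hab
      refine ⟨g * a, ?_, ?_⟩
      · simp only [Finset.mem_filter, Finset.mem_univ, true_and]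
        refine mem_normalizer_centralizer S (hinvp t ht) (hinv1 t ht) hbL (hinv1 b hb2) ?_
        rw [show g * a * b * (g * a)⁻¹ = g * (a * b * a⁻¹) * g⁻¹ by group, he]
        exact hg
      · rw [Prod.mk.injEq]
        refine ⟨by group, ?_⟩
        rw [← he]; group
  -- the order of `NL`
  have hNLcard : ∃ m, Nat.card NL = Nat.card L * p ^ m ∧ 0 < m := by
    have hLn : (L.subgroupOf NL).Normal := Subgroup.normal_in_normalizer
    have hq : IsPGroup p (NL ⧸ L.subgroupOf NL) := by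
      intro q
      obtain ⟨⟨g, hg⟩, rfl⟩ := QuotientGroup.mk'_surjective _ q
      obtain ⟨u, v, huv, ⟨k, hk⟩, hv⟩ := split (p := p) g
      refine ⟨k, ?_⟩
      rw [← map_pow, QuotientGroup.mk'_apply, QuotientGroup.eq_one_iff, Subgroup.mem_subgroupOf]
      show g ^ (p ^ k) ∈ L
      rw [show g ^ (p ^ k) = (g ^ u * g ^ v) ^ (p ^ k) by rw [huv]]
      rw [(Commute.pow_pow_self g u v).mul_pow, ← hk, pow_orderOf_eq_one, one_mul]
      exact pow_mem (mem_of_normalizer S (hinvp t ht) (hinv1 t ht) hv (pow_mem hg v)) _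
    obtain ⟨m, hm⟩ := IsPGroup.iff_card.1 hq
    have hcard : Nat.card NL = Nat.card L * p ^ m := by
      rw [← (L.subgroupOf NL).card_mul_index, Subgroup.index_eq_card, hm,
        Nat.card_congr (Subgroup.subgroupOfEquivOfLe (Subgroup.le_normalizer)).toEquiv]
    refine ⟨m, hcard, Nat.pos_of_ne_zero fun e => ?_⟩
    rw [e, pow_zero, mul_one] at hcard
    obtain ⟨w, hw, hwL, -⟩ := exists_move_centralizer S (hinvp t ht) (hinv1 t ht)
    exact hwL ((Subgroup.eq_of_le_of_card_ge Subgroup.le_normalizer hcard.le).ge hw)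
  obtain ⟨m, hm, hm0⟩ := hNLcard
  -- pairs of involutions with product a non-trivial `p`-element
  set T : Finset (G × G) := Finset.univ ×ˢ (Finset.univ.filter fun y => y ∈ (P : Subgroup G) ∧ y ≠ 1) with hT
  set D : Finset (G × G) := (Iv ×ˢ Iv).filter fun q => q.2 ∉ Subgroup.centralizer ({q.1} : Set G) with hD
  set e := (Finset.univ.filter fun s => orderOf s = 2 ∧ s ∈ N).card with he
  have key : ∑ q ∈ D, (T.filter fun r => r.1 * r.2 * r.1⁻¹ = q.1 * q.2).card =
      ∑ r ∈ T, (D.filter fun q => r.1 * r.2 * r.1⁻¹ = q.1 * q.2).card := by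
    simp only [Finset.card_filter]
    exact Finset.sum_comm
  have hleft : ∀ q ∈ D, (T.filter fun r => r.1 * r.2 * r.1⁻¹ = q.1 * q.2).card = Nat.card N := by
    rintro ⟨s, s'⟩ hq
    simp only [hD, hIv, Finset.mem_filter, Finset.mem_product, Finset.mem_univ, true_and] at hq
    obtain ⟨⟨hs, hs'⟩, hnot⟩ := hq
    have hss : s * s = 1 := by rw [← sq, ← hs]; exact pow_orderOf_eq_one s
    have hss' : s' * s' = 1 := by rw [← sq, ← hs']; exact pow_orderOf_eq_one s'
    set z := s * s' with hz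
    have hzinv : s * z * s⁻¹ = z⁻¹ := by
      rw [hz, ← mul_assoc, hss, one_mul, mul_inv_rev, inv_eq_of_mul_eq_one_right hss']
    have hz1 : z ≠ 1 := fun e => hnot (Subgroup.mem_centralizer_singleton_iff.2 (by
      rw [show s' = s⁻¹ from eq_inv_of_mul_eq_one_right e]; group))
    obtain ⟨u, v, huv, hu, hv⟩ := split (p := p) z
    have hv1 : z ^ v = 1 := by
      by_contra hne
      have hb := centralizer_pPrime S hv hne
      have hszv : s * z ^ v * s⁻¹ = (z ^ v)⁻¹ := by rw [← conj_pow, hzinv, inv_pow]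
      have hzc : z ^ v ∈ Subgroup.centralizer ({z ^ v} : Set G) := hself _
      have hsn := mem_normalizer_centralizer S hv hne hzc hne (g := s) (by rw [hszv]; exact inv_mem hzc)
      have hsc := mem_of_normalizer S hv hne (hinvp s hs) hsn
      have hzC : z ∈ Subgroup.centralizer ({s} : Set G) := by
        rw [centralizer_eq S hv hne hsc (hinv1 s hs), Subgroup.mem_centralizer_singleton_iff]
        exact (Commute.self_pow z v).eq
      refine hnot ?_
      have := mul_mem (inv_mem (hself s)) hzC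
      rwa [hz, inv_mul_cancel_left] at this
    have hzp : IsPEl p z := by rw [← huv, hv1, mul_one]; exact hu
    obtain ⟨g, hg⟩ := exists_conj_mem' (P := P) hzp
    have hy1 : g * z * g⁻¹ ≠ 1 := fun e => hz1 (conj_eq_one_iff.1 e)
    rw [Nat.card_eq_fintype_card, Fintype.card_subtype]
    symm
    refine Finset.card_bij (fun n _ => (g⁻¹ * n, n⁻¹ * (g * z * g⁻¹) * n)) ?_ ?_ ?_
    · intro n hn
      simp only [Finset.mem_filter, Finset.mem_univ, true_and] at hn
      simp only [hT, Finset.mem_filter, Finset.mem_product, Finset.mem_univ, true_and]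
      refine ⟨⟨(Subgroup.mem_normalizer_iff''.1 hn _).1 hg, fun e => hy1 ?_⟩, by rw [hz]; group⟩
      have := congrArg (fun a => n * a * n⁻¹) e
      simpa [mul_assoc] using this
    · intro n _ n' _ e
      exact mul_left_cancel (Prod.ext_iff.1 e).1
    · rintro ⟨a, b⟩ hab
      simp only [hT, Finset.mem_filter, Finset.mem_product, Finset.mem_univ, true_and] at hab
      obtain ⟨⟨hbP, hb1⟩, he⟩ := hab
      refine ⟨g * a, ?_, ?_⟩
      · simp only [Finset.mem_filter, Finset.mem_univ, true_and]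
        refine mem_normalizer_of_conj S hbP hb1 ?_
        rw [show g * a * b * (g * a)⁻¹ = g * (a * b * a⁻¹) * g⁻¹ by group, he]
        exact hg
      · rw [Prod.mk.injEq]
        refine ⟨by group, ?_⟩
        rw [← he]; group
  have hright : ∀ r ∈ T, (D.filter fun q => r.1 * r.2 * r.1⁻¹ = q.1 * q.2).card = e := by
    rintro ⟨g, y⟩ hr
    simp only [hT, Finset.mem_filter, Finset.mem_product, Finset.mem_univ, true_and] at hr
    obtain ⟨hyP, hy1⟩ := hr
    rw [he]
    refine Finset.card_bij (fun q _ => g⁻¹ * q.1 * g) ?_ ?_ ?_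
    · rintro ⟨s, s'⟩ hq
      simp only [hD, hIv, Finset.mem_filter, Finset.mem_product, Finset.mem_univ, true_and] at hq ⊢
      obtain ⟨⟨⟨hs, hs'⟩, -⟩, heq⟩ := hq
      refine ⟨by simpa [hs] using orderOf_conj g⁻¹ s, mem_normalizer_of_conj S hyP hy1 ?_⟩
      have hss : s * s = 1 := by rw [← sq, ← hs]; exact pow_orderOf_eq_one s
      have hss' : s' * s' = 1 := by rw [← sq, ← hs']; exact pow_orderOf_eq_one s'
      have : g⁻¹ * s * g * y * (g⁻¹ * s * g)⁻¹ = y⁻¹ := by
        have hy : y = g⁻¹ * (s * s') * g := by rw [← heq]; group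
        rw [hy, show g⁻¹ * s * g * (g⁻¹ * (s * s') * g) * (g⁻¹ * s * g)⁻¹ = g⁻¹ * ((s * s) * s' * s⁻¹) * g by group,
          hss, one_mul]
        simp [mul_assoc, inv_eq_of_mul_eq_one_right hss']
      rw [this]; exact inv_mem hyP
    · rintro ⟨s, s'⟩ hq ⟨a, a'⟩ hq' h
      simp only [Finset.mem_filter] at hq hq'
      obtain rfl : s = a := mul_left_cancel (mul_right_cancel h)
      rw [Prod.mk.injEq]
      exact ⟨rfl, mul_left_cancel (hq.2.symm.trans hq'.2)⟩
    · intro s hs
      simp only [Finset.mem_filter, Finset.mem_univ, true_and] at hs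
      obtain ⟨hs, hsN⟩ := hs
      have hinv := exists_inv_of_involution S hs hsN hp2 hyP
      have hss : s * s = 1 := by rw [← sq, ← hs]; exact pow_orderOf_eq_one s
      have hsy : orderOf (s * y) = 2 := by
        refine orderOf_eq_prime ?_ fun h => ?_
        · rw [sq, show s * y * (s * y) = (s * y * s⁻¹) * (s * s) * y by group, hinv, hss, mul_one, inv_mul_cancel]
        · have hsP : s ∈ (P : Subgroup G) := by rw [eq_inv_of_mul_eq_one_left h]; exact inv_mem hyP
          exact hinv1 s hs ((isPEl_mem_P P hsP).eq_one (hinvp s hs))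
      refine ⟨(g * s * g⁻¹, g * (s * y) * g⁻¹), ?_, by group⟩
      simp only [hD, hIv, Finset.mem_filter, Finset.mem_product, Finset.mem_univ, true_and, orderOf_conj]
      refine ⟨⟨⟨hs, hsy⟩, fun hc => ?_⟩, ?_⟩
      · rw [centralizer_conj S, show g⁻¹ * (g * (s * y) * g⁻¹) * g = s * y by group] at hc
        have hyC : y ∈ Subgroup.centralizer ({s} : Set G) := by
          simpa using mul_mem (inv_mem (hself s)) hc
        exact hy1 ((isPEl_mem_P P hyP).eq_one fun hd =>
          centralizer_pPrime S (hinvp s hs) (hinv1 s hs) (hd.trans (Subgroup.orderOf_dvd_natCard _ hyC)))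
      · rw [show g * s * g⁻¹ * (g * (s * y) * g⁻¹) = g * ((s * s) * y) * g⁻¹ by group, hss, one_mul]
  rw [Finset.sum_congr rfl hleft, Finset.sum_congr rfl hright, Finset.sum_const, Finset.sum_const,
    smul_eq_mul, smul_eq_mul] at key
  have hDcard : D.card + Iv.card * IL.card = Iv.card * Iv.card := by
    have h1 : D.card + ((Iv ×ˢ Iv).filter fun q => q.2 ∈ Subgroup.centralizer ({q.1} : Set G)).card =
        Iv.card * Iv.card := by
      rw [← Finset.card_product, add_comm]
      exact Finset.card_filter_add_card_filter_not _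
    have h2 : ((Iv ×ˢ Iv).filter fun q => q.2 ∈ Subgroup.centralizer ({q.1} : Set G)).card =
        Iv.card * IL.card := by
      rw [Finset.card_filter, Finset.sum_product, Finset.sum_congr rfl (g := fun _ => IL.card) (fun s hs => by
        rw [← Finset.card_filter]; exact hIC s hs), Finset.sum_const, smul_eq_mul]
    rw [← h1, h2]
  have hIL0 : 0 < IL.card := Finset.card_pos.2 ⟨t, by simp [hIL, ht, hL, hself t]⟩
  have hG : Nat.card G = NL.index * Nat.card NL := (NL.index_mul_card).symm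
  have hIn : Iv.card = NL.index * IL.card := by
    have h1 := hI
    rw [hG] at h1
    exact Nat.eq_of_mul_eq_mul_right Nat.card_pos (h1.trans (by ring))
  have hLne : NL ≠ ⊤ := by
    intro e
    rcases (Subgroup.normalizer_eq_top_iff.1 e).eq_bot_or_eq_top with h | h
    · exact hinv1 t ht (Subgroup.mem_bot.1 (h ▸ hself t))
    · exact hLp (by rw [← hL, h, Subgroup.card_top]; exact S.dvd)
  have hn2 : 2 ≤ NL.index := Subgroup.one_lt_index_of_ne_top hLne
  have hTcard : T.card + Nat.card G = Nat.card G * Nat.card P := by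
    rw [hT, Finset.card_product, Nat.card_eq_fintype_card (α := G), Finset.card_univ, ← mul_add_one]
    congr 1
    rw [Nat.card_eq_fintype_card, Fintype.card_subtype,
      ← Finset.card_erase_add_one (s := Finset.univ.filter fun y => y ∈ (P : Subgroup G)) (a := 1) (by simp)]
    congr 2
    ext y; simp [and_comm]
  -- `e` is the order of `P`
  have he' : e = 0 ∨ e = Nat.card P := by
    by_cases h0 : e = 0
    · exact Or.inl h0
    obtain ⟨s, hs⟩ := Finset.card_pos.1 (Nat.pos_of_ne_zero h0)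
    simp only [Finset.mem_filter, Finset.mem_univ, true_and] at hs
    obtain ⟨hs, hsN⟩ := hs
    have hss : s * s = 1 := by rw [← sq, ← hs]; exact pow_orderOf_eq_one s
    right
    rw [he, Nat.card_eq_fintype_card, Fintype.card_subtype]
    refine Finset.card_bij (fun s' _ => s * s') ?_ (fun a _ b _ h => mul_left_cancel h) ?_
    · intro s' hs'
      simp only [Finset.mem_filter, Finset.mem_univ, true_and] at hs' ⊢
      obtain ⟨hs', hs'N⟩ := hs'
      obtain ⟨y, hy, hy1⟩ := (P : Subgroup G).bot_or_exists_ne_one.resolve_left (P.ne_bot_of_dvd_card S.dvd)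
      refine centralizer_eq_P S hy hy1 ?_
      have e1 := exists_inv_of_involution S hs hsN hp2 (inv_mem hy)
      have e2 := exists_inv_of_involution S hs' hs'N hp2 hy
      rw [inv_inv] at e1
      calc s * s' * y = s * (s' * y * s'⁻¹) * s' := by group
        _ = (s * y⁻¹ * s⁻¹) * (s * s') := by rw [e2]; group
        _ = y * (s * s') := by rw [e1]
    · intro y hy
      simp only [Finset.mem_filter, Finset.mem_univ, true_and] at hy
      refine ⟨s * y, ?_, by rw [← mul_assoc, hss, one_mul]⟩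
      simp only [Finset.mem_filter, Finset.mem_univ, true_and]
      refine ⟨?_, mul_mem hsN (Subgroup.le_normalizer hy)⟩
      refine orderOf_eq_prime ?_ fun h => ?_
      · rw [sq, show s * y * (s * y) = (s * y * s⁻¹) * (s * s) * y by group,
          exists_inv_of_involution S hs hsN hp2 hy, hss, mul_one, inv_mul_cancel]
      · have hsP : s ∈ (P : Subgroup G) := by rw [eq_inv_of_mul_eq_one_left h]; exact inv_mem hy
        exact hinv1 s hs ((isPEl_mem_P P hsP).eq_one (hinvp s hs))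
  obtain ⟨k, hk⟩ : Nat.card P ∣ Nat.card N := Subgroup.card_dvd_of_le Subgroup.le_normalizer
  -- the free actions
  obtain ⟨T', hT'⟩ : Nat.card L ∣ NL.index - 1 := by
    let α := {q : G ⧸ NL // q ≠ ((1 : G) : G ⧸ NL)}
    have hfix : ∀ a : L, (a : G) • ((1 : G) : G ⧸ NL) = ((1 : G) : G ⧸ NL) := fun a => by
      rw [MulAction.Quotient.smul_mk, QuotientGroup.eq]
      simpa using Subgroup.le_normalizer a.2
    letI : MulAction L α :=
      { smul := fun a q => ⟨(a : G) • q.1, fun h => q.2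
          (MulAction.injective (a : G) (h.trans (hfix a).symm))⟩
        one_smul := fun q => Subtype.ext (show ((1 : L) : G) • q.1 = q.1 by rw [OneMemClass.coe_one, one_smul])
        mul_smul := fun a b q => Subtype.ext (show ((a * b : L) : G) • q.1 = _ by
          rw [Subgroup.coe_mul, mul_smul]; rfl) }
    have hfree : ∀ q : α, MulAction.stabilizer L q = ⊥ := by
      rintro ⟨q, hq⟩
      rw [eq_bot_iff]
      intro a ha
      obtain ⟨h, rfl⟩ := QuotientGroup.mk_surjective q
      have h1 : (a : G) • (h : G ⧸ NL) = (h : G ⧸ NL) := congrArg Subtype.val (MulAction.mem_stabilizer_iff.1 ha)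
      rw [MulAction.Quotient.smul_mk, QuotientGroup.eq] at h1
      have h2 : h⁻¹ * (a : G) * h ∈ NL := by
        have h1' := inv_mem h1
        simpa [mul_assoc] using h1'
      by_contra ha1
      have hane : (a : G) ≠ 1 := fun e => ha1 (Subgroup.mem_bot.2 (Subtype.ext e))
      have hap : ¬ p ∣ orderOf (h⁻¹ * (a : G) * h) := by
        have := orderOf_conj h⁻¹ (a : G)
        rw [inv_inv] at this
        rw [this]
        exact fun hd => hLp (hd.trans (L.orderOf_dvd_natCard a.2))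
      have h3 := mem_of_normalizer S (hinvp t ht) (hinv1 t ht) hap h2
      have h4 : h⁻¹ ∈ NL := mem_normalizer_centralizer S (hinvp t ht) (hinv1 t ht) a.2 hane (by simpa using h3)
      exact hq (QuotientGroup.eq.2 (by simpa using h4))
    have h1 := card_dvd_of_free hfree
    have h2 : Nat.card α = NL.index - 1 := by
      have := Fintype.ofFinite (G ⧸ NL)
      rw [Nat.card_eq_fintype_card, Fintype.card_subtype_compl, Fintype.card_subtype_eq,
        ← Nat.card_eq_fintype_card, ← Subgroup.index_eq_card]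
    rwa [h2] at h1
  obtain ⟨c, hc⟩ : p ^ m ∣ IL.card := by
    obtain ⟨W⟩ : Nonempty (Sylow p NL) := inferInstance
    have hWcard : Nat.card W = p ^ m := by
      rw [W.card_eq_multiplicity, hm, Nat.factorization_mul Nat.card_pos.ne' (pow_ne_zero _ hp.out.ne_zero),
        Finsupp.add_apply, Nat.factorization_eq_zero_of_not_dvd hLp, Nat.factorization_pow_self hp.out, zero_add]
    let β := {s : G // s ∈ IL}
    letI : MulAction W β :=
      { smul := fun w s => ⟨(w.1 : G) * s.1 * (w.1 : G)⁻¹, by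
          have := s.2
          simp only [hIL, Finset.mem_filter, Finset.mem_univ, true_and] at this ⊢
          exact ⟨by rw [orderOf_conj, this.1], (Subgroup.mem_normalizer_iff.1 w.1.2 _).1 this.2⟩⟩
        one_smul := fun s => Subtype.ext (show (((1 : W).1 : NL) : G) * s.1 * _ = s.1 by simp)
        mul_smul := fun a b s => Subtype.ext (show (((a * b : W).1 : NL) : G) * s.1 * _ =
          (a.1 : G) * ((b.1 : G) * s.1 * (b.1 : G)⁻¹) * (a.1 : G)⁻¹ by simp [mul_assoc]) }
    have hfree : ∀ s : β, MulAction.stabilizer W s = ⊥ := by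
      rintro ⟨s, hs⟩
      rw [eq_bot_iff]
      intro w hw
      have h1 : (w.1 : G) * s * (w.1 : G)⁻¹ = s := congrArg Subtype.val (MulAction.mem_stabilizer_iff.1 hw)
      simp only [hIL, Finset.mem_filter, Finset.mem_univ, true_and] at hs
      have hwL : (w.1 : G) ∈ L := by
        rw [hL, ← centralizer_eq S (hinvp t ht) (hinv1 t ht) hs.2 (hinv1 s hs.1),
          Subgroup.mem_centralizer_singleton_iff]
        exact mul_inv_eq_iff_eq_mul.1 h1
      refine Subgroup.mem_bot.2 (Subtype.ext (Subtype.ext ?_))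
      refine IsPEl.eq_one (p := p) ?_ fun hd => hLp (hd.trans (L.orderOf_dvd_natCard hwL))
      obtain ⟨k', hk'⟩ := IsPGroup.iff_orderOf.mp W.isPGroup' w
      exact ⟨k', by rw [Subgroup.orderOf_coe, Subgroup.orderOf_coe, hk']⟩
    have h1 := card_dvd_of_free hfree
    rwa [hWcard, Nat.card_eq_fintype_card, Fintype.card_coe] at h1
  -- arithmetic
  have hPge : 1 ≤ Nat.card P := Nat.card_pos
  obtain ⟨P', hP'⟩ : ∃ P', Nat.card P = P' + 1 := ⟨Nat.card P - 1, by omega⟩
  obtain ⟨n', hn'⟩ : ∃ n', NL.index = n' + 1 := ⟨NL.index - 1, by omega⟩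
  rw [hn', Nat.add_sub_cancel] at hT'
  have hT1 : T.card = Nat.card G * P' := by
    rw [hP', Nat.mul_add_one] at hTcard; omega
  rw [hT1] at key
  have hn0 : 0 < n' := by omega
  have hD2 : D.card = Iv.card * IL.card * n' := by
    rw [hIn, hn'] at hDcard ⊢
    have : D.card + (n' + 1) * IL.card * IL.card = (n' + 1) * IL.card * IL.card * n' + (n' + 1) * IL.card * IL.card := by
      rw [hDcard]; ring
    omega
  rcases he' with h0 | h0
  · rw [h0, mul_zero, mul_eq_zero, or_iff_left Nat.card_pos.ne', hD2] at key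
    rw [hIn] at key
    exact (Nat.mul_pos (Nat.mul_pos (Nat.mul_pos (by omega : 0 < NL.index) hIL0) hIL0) hn0).ne' key
  · rw [h0, hD2, hIn, hk, hG, hm, hn', hT', hc, hP'] at key
    have h1 : c * c * T' * k * p ^ m = P' := by
      refine Nat.eq_of_mul_eq_mul_left (show 0 < (n' + 1) * Nat.card L * p ^ m * (P' + 1) by
        have := Nat.card_pos (α := L)
        have := pow_pos hp.out.pos m
        positivity) ?_
      rw [hT']
      linear_combination key
    have hpP : p ∣ Nat.card P := P.dvd_card_of_dvd_card S.dvd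
    rw [hP'] at hpP
    exact hp.out.not_dvd_one ((Nat.dvd_add_right ((dvd_mul_of_dvd_right (dvd_pow_self p hm0.ne') _).trans h1.dvd)).1 hpP)

end fixed

theorem false_of_odd {G : Type*} [Group G] [Finite G] {p : ℕ} [hp : Fact p.Prime] {P : Sylow p G}
    (S : Setting P) (h2 : ¬ 2 ∣ Nat.card G) : False := by
  classical
  set N := Subgroup.normalizer ((P : Subgroup G) : Set G)
  let xs : ℕ → G := fun s => if h : s.Prime ∧ s ∣ Nat.card G then
    (haveI := Fact.mk h.1; (exists_prime_orderOf_dvd_card' (G := G) s h.2).choose) else 1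
  have hxs : ∀ s, s.Prime → s ∣ Nat.card G → orderOf (xs s) = s := fun s hs hsG => by
    have := Fact.mk hs
    simp only [xs, dif_pos (And.intro hs hsG)]
    exact (exists_prime_orderOf_dvd_card' (G := G) s hsG).choose_spec
  let M : ℕ → Subgroup G := fun s => Subgroup.centralizer ({xs s} : Set G)
  have hgood : ∀ r : ℕ, r.Prime → r ≠ p → ∀ a : G, orderOf a = r → ¬ p ∣ orderOf a ∧ a ≠ 1 := by
    intro r hr hrp a ha
    refine ⟨by rw [ha]; exact fun hd => hrp ((Nat.prime_dvd_prime_iff_eq hp.out hr).1 hd).symm, fun e => ?_⟩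
    rw [e, orderOf_one] at ha; exact hr.one_lt.ne ha
  -- centralisers of elements of equal prime order are conjugate
  have hsame : ∀ r : ℕ, r.Prime → r ≠ p → ∀ a b : G, orderOf a = r → orderOf b = r →
      ∃ g : G, ∀ c, c ∈ Subgroup.centralizer ({a} : Set G) ↔ g * c * g⁻¹ ∈ Subgroup.centralizer ({b} : Set G) := by
    intro r hr hrp a b ha hb
    have := Fact.mk hr
    obtain ⟨Q, hQ⟩ := (IsPGroup.of_card (n := 1) (show Nat.card (Subgroup.zpowers a) = r ^ 1 by
      rw [Nat.card_zpowers, ha, pow_one])).exists_le_sylow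
    obtain ⟨R, hR⟩ := (IsPGroup.of_card (n := 1) (show Nat.card (Subgroup.zpowers b) = r ^ 1 by
      rw [Nat.card_zpowers, hb, pow_one])).exists_le_sylow
    obtain ⟨g, hg⟩ := MulAction.exists_smul_eq G Q R
    have hga : g * a * g⁻¹ ∈ (R : Subgroup G) := hg ▸ Subgroup.smul_mem_pointwise_smul a (MulAut.conj g) _
      (hQ (Subgroup.mem_zpowers a))
    have hRp : ¬ p ∣ Nat.card R := by
      obtain ⟨k, hk⟩ := IsPGroup.iff_card.1 R.isPGroup'
      rw [hk]
      exact fun hd => hrp ((Nat.prime_dvd_prime_iff_eq hp.out hr).1 (hp.out.dvd_of_dvd_pow hd)).symm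
    refine ⟨g, fun c => ?_⟩
    have hbb : g * a * g⁻¹ ∈ Subgroup.centralizer ({b} : Set G) :=
      Subgroup.mem_centralizer_singleton_iff.2 (comm_of_not_dvd S hRp hga (hR (Subgroup.mem_zpowers b)))
    rw [← centralizer_eq S (hgood r hr hrp b hb).1 (hgood r hr hrp b hb).2 hbb
      (fun e => (hgood r hr hrp a ha).2 (conj_eq_one_iff.1 e)), centralizer_conj S,
      show g⁻¹ * (g * c * g⁻¹) * g = c by group]
  have hcard : ∀ r : ℕ, r.Prime → r ≠ p → ∀ a b : G, orderOf a = r → orderOf b = r →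
      Nat.card (Subgroup.centralizer ({a} : Set G)) = Nat.card (Subgroup.centralizer ({b} : Set G)) := by
    intro r hr hrp a b ha hb
    obtain ⟨g, hg⟩ := hsame r hr hrp a b ha hb
    exact Nat.card_congr ((MulAut.conj g).toEquiv.subtypeEquiv hg)
  let Sel : Type := {s : ↥(Nat.card G).primeFactors // (s : ℕ) ≠ p ∧ (s : ℕ) = (Nat.card (M s)).minFac}
  have hsel : ∀ s : Sel, (s.1 : ℕ).Prime ∧ orderOf (xs s.1) = (s.1 : ℕ) ∧ ¬ p ∣ orderOf (xs s.1) ∧ xs s.1 ≠ 1 := by
    rintro ⟨⟨s, hs⟩, hsp, -⟩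
    have hs' := Nat.mem_primeFactors.1 hs
    have ho := hxs s hs'.1 hs'.2.1
    exact ⟨hs'.1, ho, (hgood s hs'.1 hsp _ ho)⟩
  -- every `p'`-element is conjugate into some `M s`
  have hcover : ∀ g : G, g ≠ 1 → ¬ p ∣ orderOf g → ∃ s : Sel, ∃ x : G, x * g * x⁻¹ ∈ M s.1 := by
    intro g hg1 hgp
    set C := Subgroup.centralizer ({g} : Set G)
    have hgC : g ∈ C := Subgroup.mem_centralizer_singleton_iff.2 rfl
    have hC1 : Nat.card C ≠ 1 := fun e => hg1 (Subgroup.mem_bot.1 (Subgroup.card_eq_one.1 e ▸ hgC))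
    set r := (Nat.card C).minFac
    have hr : r.Prime := Nat.minFac_prime hC1
    have := Fact.mk hr
    have hrp : r ≠ p := fun e => centralizer_pPrime S hgp hg1 (e ▸ Nat.minFac_dvd _)
    obtain ⟨a', ha'⟩ := exists_prime_orderOf_dvd_card' (G := C) r (Nat.minFac_dvd _)
    rw [← Subgroup.orderOf_coe] at ha'
    have hrG : r ∣ Nat.card G := (Nat.minFac_dvd _).trans (Subgroup.card_subgroup_dvd_card C)
    have hCa := centralizer_eq S hgp hg1 a'.2 (hgood r hr hrp _ ha').2
    have hMr : Nat.card (M r) = Nat.card C := by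
      show Nat.card (Subgroup.centralizer ({xs r} : Set G)) = _
      rw [hcard r hr hrp (xs r) a' (hxs r hr hrG) ha', hCa]
    refine ⟨⟨⟨r, Nat.mem_primeFactors.2 ⟨hr, hrG, Nat.card_pos.ne'⟩⟩, hrp, by rw [hMr]⟩, ?_⟩
    obtain ⟨x, hx⟩ := hsame r hr hrp a' (xs r) ha' (hxs r hr hrG)
    exact ⟨x, (hx g).1 (hCa ▸ hgC)⟩
  let H : Option Sel → Subgroup G := fun i => i.elim (P : Subgroup G) (fun s => M s.1)
  let L : Option Sel → Subgroup G := fun i => Subgroup.normalizer ((H i : Subgroup G) : Set G)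
  obtain ⟨l, hl, hlp, y, hy, hly⟩ := S.aut
  have hl1 : l ≠ 1 := fun e => hly (by rw [e]; simp)
  obtain ⟨s0, -, -⟩ := hcover l hl1 hlp
  have hPne : (P : Subgroup G) ≠ ⊥ := P.ne_bot_of_dvd_card S.dvd
  have hodd : Odd (Nat.card G) := Nat.odd_iff.2 (Nat.two_dvd_ne_zero.1 h2)
  refine S1526.result hodd (ι := Option Sel) ?_ L H ?_ ?_ ?_ ?_ ?_ ?_ ?_
  · rw [Fintype.card_option]
    have : 0 < Fintype.card Sel := Fintype.card_pos_iff.2 ⟨s0⟩
    omega
  · rintro (_ | s)
    · refine lt_of_le_of_ne Subgroup.le_normalizer fun e => hl1 ((isPEl_mem_P P (e.ge hl)).eq_one hlp)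
    · obtain ⟨-, -, hxp, hx1⟩ := hsel s
      obtain ⟨w, hw, hwM, -⟩ := exists_move_centralizer S hxp hx1
      exact lt_of_le_of_ne Subgroup.le_normalizer fun e => hwM (e.ge hw)
  · rintro (_ | s)
    · exact hPne
    · intro e
      obtain ⟨-, -, -, hx1⟩ := hsel s
      exact hx1 (Subgroup.mem_bot.1 (e ▸ (Subgroup.mem_centralizer_singleton_iff.2 rfl :
        xs s.1 ∈ Subgroup.centralizer ({xs s.1} : Set G))))
  · exact fun i x hx h hh => (Subgroup.mem_normalizer_iff.1 hx h).1 hh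
  · rintro (_ | s) h hh h1 x ⟨-, hx⟩
    · exact centralizer_eq_P S hh h1 (Subgroup.mem_centralizer_singleton_iff.1 hx)
    · obtain ⟨-, -, hxp, hx1⟩ := hsel s
      exact (centralizer_eq S hxp hx1 hh h1).le hx
  · have hPM : ∀ s : Sel, (Nat.card P).Coprime (Nat.card (M s.1)) := fun s => by
      obtain ⟨-, -, hxp, hx1⟩ := hsel s
      obtain ⟨k, hk⟩ := IsPGroup.iff_card.1 P.isPGroup'
      rw [hk]
      exact Nat.Coprime.pow_left k (hp.out.coprime_iff_not_dvd.2 (centralizer_pPrime S hxp hx1))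
    rintro (_ | s) (_ | s') hne
    · exact absurd rfl hne
    · exact hPM s'
    · exact (hPM s).symm
    · by_contra hnc
      obtain ⟨r, hr, hr1, hr2⟩ := Nat.Prime.not_coprime_iff_dvd.1 hnc
      have := Fact.mk hr
      obtain ⟨-, -, hxp, hx1⟩ := hsel s
      obtain ⟨-, -, hxp', hx1'⟩ := hsel s'
      have hrp : r ≠ p := fun e => centralizer_pPrime S hxp hx1 (e ▸ hr1)
      obtain ⟨a, ha⟩ := exists_prime_orderOf_dvd_card' (G := M s.1) r hr1
      obtain ⟨b, hb⟩ := exists_prime_orderOf_dvd_card' (G := M s'.1) r hr2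
      rw [← Subgroup.orderOf_coe] at ha hb
      have e1 := centralizer_eq S hxp hx1 a.2 (hgood r hr hrp _ ha).2
      have e2 := centralizer_eq S hxp' hx1' b.2 (hgood r hr hrp _ hb).2
      have e3 := hcard r hr hrp _ _ ha hb
      rw [e1, e2] at e3
      exact hne (congrArg some (Subtype.ext (Subtype.ext (s.2.2.trans ((congrArg Nat.minFac e3).trans s'.2.2.symm)))))
  · intro i
    refine ⟨fun g hg x hx hgx => ?_, rfl⟩
    by_contra hx1
    rcases i with _ | s
    · exact hg (mem_normalizer_of_conj S hx hx1 hgx)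
    · obtain ⟨-, -, hxp, hxs1⟩ := hsel s
      exact hg (mem_normalizer_centralizer S hxp hxs1 hx hx1 hgx)
  · intro g hg1
    obtain ⟨u, v, huv, hu, hv⟩ := split (p := p) g
    by_cases hu1 : g ^ u = 1
    · obtain ⟨s, x, hx⟩ := hcover g hg1 (by rw [hu1, one_mul] at huv; rwa [huv] at hv)
      exact ⟨some s, x, hx⟩
    · obtain ⟨x, hx⟩ := exists_conj_mem' (P := P) hu
      refine ⟨none, x, centralizer_eq_P S hx (fun e => hu1 (conj_eq_one_iff.1 e)) ?_⟩
      calc x * g * x⁻¹ * (x * g ^ u * x⁻¹) = x * (g * g ^ u) * x⁻¹ := by group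
        _ = _ := by rw [(Commute.self_pow g u).eq]; group

theorem false_of_setting {G : Type*} [Group G] [Finite G] {p : ℕ} [Fact p.Prime] {P : Sylow p G}
    (S : Setting P) : False := by
  by_cases h2 : 2 ∣ Nat.card G
  · exact false_of_even S h2
  · exact false_of_odd S h2

end Cfsg.Agent.FGS2.CyclicSylow
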