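import Cfsg.Agent.Transfer.Burnside
import Cfsg.Agent.Core.PiNumber
import Cfsg.Agent.OddLocal.Basic
import Mathlib.Tactic

/-!
Tools for groups with a cyclic Sylow `p`-subgroup: splitting an element into its `p`- and
`p'`-part, coprime automorphisms of a cyclic `p`-group, free actions.
-/

set_option autoImplicit false

namespace Cfsg.Agent.FGS2.CyclicSylow

variable {G : Type*} [Group G]

/-- A `p`-element. -/
def IsPEl (p : ℕ) (a : G) : Prop := ∃ k, orderOf a = p ^ k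

theorem IsPEl.mk' [Finite G] {p : ℕ} {H : Subgroup G} (hH : IsPGroup p H) [Fact p.Prime] {a : G} (ha : a ∈ H) :
    IsPEl p a := by
  obtain ⟨k, hk⟩ := IsPGroup.iff_orderOf.mp hH ⟨a, ha⟩
  exact ⟨k, by rwa [Subgroup.orderOf_mk] at hk⟩

theorem IsPEl.eq_one {p : ℕ} [hp : Fact p.Prime] {a : G} (h : IsPEl p a) (h' : ¬ p ∣ orderOf a) : a = 1 := by
  obtain ⟨k, hk⟩ := h
  rcases Nat.eq_zero_or_pos k with rfl | h0
  · exact orderOf_eq_one_iff.1 (hk.trans (pow_zero p))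
  · exact absurd (hk ▸ dvd_pow_self p h0.ne') h'

theorem orderOf_conj (g a : G) : orderOf (g * a * g⁻¹) = orderOf a := MulEquiv.orderOf_eq (MulAut.conj g) a

variable [Finite G] {p : ℕ} [hp : Fact p.Prime]

/-- Every element is the product of powers of itself of `p`-power order and of order prime to `p`. -/
theorem split (g : G) : ∃ u v : ℕ, g ^ u * g ^ v = g ∧ IsPEl p (g ^ u) ∧ ¬ p ∣ orderOf (g ^ v) := by
  set o := orderOf g with ho
  set e := o.factorization p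
  set m := o / p ^ e with hm
  have hom : p ^ e * m = o := Nat.ordProj_mul_ordCompl_eq_self o p
  have hpm : ¬ p ∣ m := Nat.not_dvd_ordCompl hp.out (orderOf_pos g).ne'
  have hcop : (p ^ e).Coprime m := Nat.Coprime.pow_left e (hp.out.coprime_iff_not_dvd.2 hpm)
  obtain ⟨u, hu1, hu2⟩ := Nat.chineseRemainder hcop 1 0
  obtain ⟨v, hv1, hv2⟩ := Nat.chineseRemainder hcop 0 1
  refine ⟨u, v, ?_, ?_, ?_⟩
  · rw [← pow_add]
    conv_rhs => rw [← pow_one g]
    rw [pow_eq_pow_iff_modEq, ← ho, ← hom]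
    exact (Nat.modEq_and_modEq_iff_modEq_mul hcop).mp ⟨hu1.add hv1, hu2.add hv2⟩
  · obtain ⟨k, -, hk⟩ := (Nat.dvd_prime_pow hp.out).1 (show orderOf (g ^ u) ∣ p ^ e from
      orderOf_dvd_of_pow_eq_one (by
        rw [← pow_mul, ← orderOf_dvd_iff_pow_eq_one, ← ho, ← hom, mul_comm u]
        exact Nat.mul_dvd_mul_left _ (Nat.modEq_zero_iff_dvd.1 hu2)))
    exact ⟨k, hk⟩
  · intro hd
    refine hpm (hd.trans (orderOf_dvd_of_pow_eq_one ?_))
    rw [← pow_mul, ← orderOf_dvd_iff_pow_eq_one, ← ho, ← hom]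
    exact Nat.mul_dvd_mul_right (Nat.modEq_zero_iff_dvd.1 hv1) _

omit hp in
/-- A power of `w` prime to the order generates. -/
theorem mem_zpowers_pow {w : G} {d : ℕ} (hd : (orderOf w).Coprime d) : w ∈ Subgroup.zpowers (w ^ d) := by
  obtain ⟨a, ha⟩ := exists_pow_eq_self_of_coprime hd.symm
  exact Subgroup.mem_zpowers_iff.2 ⟨a, by rw [zpow_natCast, ha]⟩

omit [Finite G] in
theorem not_dvd_sup [Finite G] {w : G} {L : Subgroup G} (hw : ¬ p ∣ orderOf w) (hL : ¬ p ∣ Nat.card L)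
    (hn : w ∈ Subgroup.normalizer (L : Set G)) : ¬ p ∣ Nat.card (Subgroup.zpowers w ⊔ L : Subgroup G) := by
  set J := Subgroup.zpowers w ⊔ L
  have hwJ : Subgroup.zpowers w ≤ J := le_sup_left
  have hLJ : L ≤ J := le_sup_right
  have : (L.subgroupOf J).Normal := (Subgroup.normal_subgroupOf_iff_le_normalizer hLJ).2
    (sup_le (Subgroup.zpowers_le.2 hn) Subgroup.le_normalizer)
  have h1 := Core.card_sup_dvd_mul ((Subgroup.zpowers w).subgroupOf J) (L.subgroupOf J)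
  rw [← Subgroup.subgroupOf_sup hwJ hLJ, Subgroup.subgroupOf_self, Subgroup.card_top,
    Nat.card_congr (Subgroup.subgroupOfEquivOfLe hwJ).toEquiv,
    Nat.card_congr (Subgroup.subgroupOfEquivOfLe hLJ).toEquiv, Nat.card_zpowers] at h1
  exact fun hd => (hp.out.dvd_mul.1 (hd.trans h1)).elim hw hL

omit [Finite G] in
theorem not_dvd_zpowers {w : G} (hw : ¬ p ∣ orderOf w) : ¬ p ∣ Nat.card (Subgroup.zpowers w) := by
  rwa [Nat.card_zpowers]

theorem not_dvd_card_of_forall {H : Subgroup G} (h : ∀ a ∈ H, IsPEl p a → a = 1) : ¬ p ∣ Nat.card H := by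
  intro hd
  obtain ⟨a, ha⟩ := exists_prime_orderOf_dvd_card' (G := H) p hd
  rw [← Subgroup.orderOf_coe] at ha
  have := h a a.2 ⟨1, by rw [ha, pow_one]⟩
  rw [this, orderOf_one] at ha
  exact hp.out.one_lt.ne ha

/-- A coprime automorphism of a cyclic `p`-group is trivial or fixed point free, and then every
element is a commutator with it. -/
theorem coprime_dichotomy {Q : Subgroup G} (hQ : IsPGroup p Q) (hc : IsCyclic Q) {l : G}
    (hl : ¬ p ∣ orderOf l) (hn : l ∈ Subgroup.normalizer (Q : Set G)) :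
    (∀ y ∈ Q, l * y * l⁻¹ = y) ∨
      ((∀ y ∈ Q, l * y * l⁻¹ = y → y = 1) ∧ ∀ y ∈ Q, ∃ e ∈ Q, y = l * e * l⁻¹ * e⁻¹) := by
  obtain ⟨⟨x, hxQ⟩, hx⟩ := hc.exists_generator
  have hgen : ∀ y ∈ Q, ∃ i : ℤ, x ^ i = y := fun y hy => by
    obtain ⟨i, hi⟩ := Subgroup.mem_zpowers_iff.1 (hx ⟨y, hy⟩)
    exact ⟨i, congrArg Subtype.val hi⟩
  obtain ⟨n, hn'⟩ := IsPEl.mk' hQ hxQ
  obtain ⟨j, hj⟩ := hgen _ ((Subgroup.mem_normalizer_iff.1 hn x).1 hxQ)
  have hconj : ∀ i : ℤ, l * x ^ i * l⁻¹ = x ^ (j * i) := fun i => by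
    rw [zpow_mul, hj, conj_zpow]
  have hz : ∀ a b : ℤ, a ≡ b [ZMOD ((p ^ n : ℕ) : ℤ)] ↔ x ^ a = x ^ b := fun a b => by
    rw [zpow_eq_zpow_iff_modEq, hn']
  by_cases hpj : (p : ℤ) ∣ j - 1
  · left
    have hd : ∀ k : ℕ, l ^ k * x * (l ^ k)⁻¹ = x ^ (j ^ k) := by
      intro k
      induction k with
      | zero => simp
      | succ k ih =>
        rw [pow_succ' l]
        calc l * l ^ k * x * (l * l ^ k)⁻¹ = l * (l ^ k * x * (l ^ k)⁻¹) * l⁻¹ := by group
          _ = _ := by rw [ih, hconj, pow_succ']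
    have h1 : j ^ orderOf l ≡ 1 [ZMOD ((p ^ n : ℕ) : ℤ)] := by
      rw [hz, ← hd, pow_orderOf_eq_one]; simp
    have h2 : j ^ (p ^ n) ≡ 1 [ZMOD ((p ^ n : ℕ) : ℤ)] := by
      have := dvd_sub_pow_of_dvd_sub hpj n
      rw [one_pow] at this
      refine (Int.modEq_iff_dvd.2 ?_).symm
      exact (show ((p ^ n : ℕ) : ℤ) ∣ (p : ℤ) ^ (n + 1) by push_cast; exact pow_dvd_pow _ n.le_succ).trans this
    have hj1 : j ≡ 1 [ZMOD ((p ^ n : ℕ) : ℤ)] := by
      rcases Nat.eq_zero_or_pos n with rfl | h0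
      · simp [Int.modEq_one]
      obtain ⟨a, ha⟩ := Nat.exists_mul_mod_eq_one_of_coprime
        (show (orderOf l).Coprime (p ^ n) from Nat.Coprime.pow_right n (hp.out.coprime_iff_not_dvd.2 hl).symm)
        (Nat.one_lt_pow h0.ne' hp.out.one_lt)
      have e := Nat.div_add_mod (orderOf l * a) (p ^ n)
      rw [ha.2] at e
      have h3 := h1.pow a
      rw [one_pow, ← pow_mul, ← e, pow_succ, pow_mul] at h3
      have h4 := (h2.pow (orderOf l * a / p ^ n)).mul_right j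
      rw [one_pow, one_mul] at h4
      exact h4.symm.trans h3
    intro y hy
    obtain ⟨i, rfl⟩ := hgen y hy
    rw [hconj, ← hz]
    simpa using hj1.mul_right i
  · right
    obtain ⟨a, b, hab⟩ := ((Nat.prime_iff_prime_int.mp hp.out).coprime_iff_not_dvd.2 hpj).symm.pow_right (n := n)
    constructor
    · intro y hy hfix
      obtain ⟨i, rfl⟩ := hgen y hy
      rw [hconj, ← hz, Int.modEq_iff_dvd] at hfix
      rw [← zpow_zero x, ← hz, Int.modEq_iff_dvd]
      push_cast at hfix ⊢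
      obtain ⟨c, hc'⟩ := hfix
      refine ⟨a * c - b * i, ?_⟩
      linear_combination (a : ℤ) * hc' + i * hab
    · intro y hy
      obtain ⟨i, rfl⟩ := hgen y hy
      refine ⟨x ^ (a * i), zpow_mem hxQ _, ?_⟩
      rw [hconj, ← zpow_neg, ← zpow_add, ← hz, Int.modEq_iff_dvd]
      push_cast
      exact ⟨-(b * i), by linear_combination i * hab⟩

omit [Finite G] hp in
/-- An element that is a commutator with `l` centralises whatever `l` centralises and it normalises. -/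
theorem comm_of_commutator {M : Subgroup G} [M.Normal] {l e m : G} (hl : ∀ a ∈ M, l * a * l⁻¹ = a) (hm : m ∈ M) :
    (l * e * l⁻¹ * e⁻¹) * m * (l * e * l⁻¹ * e⁻¹)⁻¹ = m := by
  have h1 := hl _ ((inferInstance : M.Normal).conj_mem' m hm e)
  have h2 : l⁻¹ * (e⁻¹ * m * e) * l = e⁻¹ * m * e := by
    conv_lhs => rw [← h1]
    group
  calc (l * e * l⁻¹ * e⁻¹) * m * (l * e * l⁻¹ * e⁻¹)⁻¹ = l * (e * (l⁻¹ * (e⁻¹ * m * e) * l) * e⁻¹) * l⁻¹ := by group
    _ = l * m * l⁻¹ := by rw [h2]; group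
    _ = m := hl m hm

omit [Finite G] hp in
theorem card_dvd_of_free {H α : Type*} [Group H] [MulAction H α] (h : ∀ a : α, MulAction.stabilizer H a = ⊥) :
    Nat.card H ∣ Nat.card α := by
  rw [Nat.card_congr (MulAction.selfEquivOrbitsQuotientProd h), Nat.card_prod]
  exact dvd_mul_left _ _

end Cfsg.Agent.FGS2.CyclicSylow
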