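import Mathlib

/-!
# Subgroups of dihedral groups
-/

set_option autoImplicit false

namespace Cfsg.Agent.FGS2

open DihedralGroup

variable {n : ℕ}

/-- The elements `r i`, `sr i` of a dihedral group with `i` in the kernel of `ZMod n → ZMod d`. -/
def dihedralSub (d : ℕ) (hd : d ∣ n) : Subgroup (DihedralGroup n) where
  carrier := {g | match g with
    | r i => ZMod.castHom hd (ZMod d) i = 0
    | sr i => ZMod.castHom hd (ZMod d) i = 0}
  one_mem' := map_zero _
  mul_mem' := by
    rintro (a | a) (b | b) ha hb <;>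
      simp only [Set.mem_ofPred_eq, r_mul_r, r_mul_sr, sr_mul_r, sr_mul_sr] at ha hb ⊢ <;>
      simp [map_sub, map_add, ha, hb, -ZMod.castHom_apply]
  inv_mem' := by
    rintro (a | a) ha <;>
      simp only [Set.mem_ofPred_eq, inv_r, inv_sr] at ha ⊢ <;>
      simp [map_neg, ha, -ZMod.castHom_apply]

theorem r_mem_dihedralSub {d : ℕ} (hd : d ∣ n) (i : ZMod n) :
    r i ∈ dihedralSub d hd ↔ ZMod.castHom hd (ZMod d) i = 0 := Iff.rfl

theorem sr_mem_dihedralSub {d : ℕ} (hd : d ∣ n) (i : ZMod n) :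
    sr i ∈ dihedralSub d hd ↔ ZMod.castHom hd (ZMod d) i = 0 := Iff.rfl

theorem exists_sr_mem {H : Subgroup (DihedralGroup n)} (h : ¬ IsMulCommutative H) :
    ∃ i, sr i ∈ H := by
  by_contra hc
  push Not at hc
  refine h ⟨⟨?_⟩⟩
  rintro ⟨a | a, ha⟩ ⟨b | b, hb⟩
  · exact Subtype.ext (by simp [add_comm])
  all_goals first
    | exact absurd ha (hc _)
    | exact absurd hb (hc _)

theorem not_isMulCommutative_dihedralSub {d : ℕ} (hd : d ∣ n) (h : ¬ n ∣ 2 * d) :
    ¬ IsMulCommutative (dihedralSub d hd) := by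
  intro hc
  have := congrArg Subtype.val (hc.is_comm.comm
    ⟨r (d : ZMod n), by rw [r_mem_dihedralSub, map_natCast, ZMod.natCast_self]⟩
    ⟨sr (0 : ZMod n), by rw [sr_mem_dihedralSub, map_zero]⟩)
  simp only [Subgroup.coe_mul, r_mul_sr, sr_mul_r, sr.injEq, zero_sub, zero_add] at this
  refine h ((ZMod.natCast_eq_zero_iff _ _).mp ?_)
  push_cast
  rw [two_mul]
  nth_rewrite 1 [← this]
  exact neg_add_cancel _

end Cfsg.Agent.FGS2
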