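import Cfsg.Agent.FGS2.Basic

/-! Sylow subgroups that are direct factors. -/

namespace Cfsg.Agent.FGS2

open Subgroup
open scoped Pointwise

variable {G : Type*} [Group G] [Finite G] {p : ℕ} [hp : Fact p.Prime]

/-- Splitting an element into commuting parts of coprime orders. -/
theorem exists_pow_pair {H : Type*} [Group H] [Finite H] (g : H) {a o : ℕ} (hcop : a.Coprime o)
    (h : orderOf g = a * o) :
    ∃ s t : ℕ, orderOf (g ^ s) ∣ o ∧ orderOf (g ^ t) ∣ a ∧ g ^ t * g ^ s = g := by
  have ha : 0 < a := Nat.pos_of_ne_zero fun h0 => (orderOf_pos g).ne' (by rw [h, h0, zero_mul])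
  obtain ⟨u, hu⟩ : ∃ u, o * u ≡ 1 [MOD a] := by
    rcases Nat.lt_or_ge 1 a with h1 | h1
    · obtain ⟨u, -, hu⟩ := Nat.exists_mul_mod_eq_one_of_coprime hcop.symm h1
      exact ⟨u, by rw [Nat.ModEq, hu, Nat.mod_eq_of_lt h1]⟩
    · exact ⟨0, by rw [show a = 1 by omega]; exact Nat.modEq_one⟩
  refine ⟨orderOf g + 1 - o * u % orderOf g, o * u % orderOf g, ?_, ?_, ?_⟩
  · refine orderOf_dvd_of_pow_eq_one ?_
    rw [← pow_mul, ← orderOf_dvd_iff_pow_eq_one, h]
    refine mul_dvd_mul_right ?_ o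
    have hlt := Nat.mod_lt (o * u) (h ▸ orderOf_pos g : 0 < a * o)
    rw [← Nat.modEq_iff_dvd' (by omega)]
    have h2 : o * u % (a * o) ≡ 1 [MOD a] := by
      refine Nat.ModEq.trans ?_ hu
      exact (Nat.mod_modEq _ _).of_mul_right o
    exact h2.trans (by rw [Nat.ModEq, Nat.mul_add_mod])
  · refine orderOf_dvd_of_pow_eq_one ?_
    rw [pow_mod_orderOf, ← pow_mul, mul_comm o u, mul_assoc, mul_comm o a, ← h, mul_comm, pow_mul,
      pow_orderOf_eq_one, one_pow]
  · rw [← pow_add]
    have hlt := Nat.mod_lt (o * u) (orderOf_pos g)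
    rw [show o * u % orderOf g + (orderOf g + 1 - o * u % orderOf g) = orderOf g + 1 by omega,
      pow_succ, pow_orderOf_eq_one, one_mul]

theorem mem_of_pair (P : Sylow p G) (K : Subgroup G) (hPn : (P : Subgroup G).Normal) (hKn : K.Normal)
    (hinf : (P : Subgroup G) ⊓ K = ⊥) (hsup : (P : Subgroup G) ⊔ K = ⊤) (x y : G)
    (hx : ∃ a : ℕ, orderOf x = p ^ a) (hy : ∃ q b : ℕ, q.Prime ∧ q ≠ p ∧ orderOf y = q ^ b) :
    x ∈ (P : Subgroup G) ∧ y ∈ K := by
  have hc : Subgroup.IsComplement' (P : Subgroup G) K :=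
    Subgroup.isComplement'_of_disjoint_and_mul_eq_univ (disjoint_iff.2 hinf) (by
      rw [← Subgroup.normal_mul, hsup, Subgroup.coe_top])
  obtain ⟨a, ha⟩ := hx
  obtain ⟨q, b, hq, hqp, hb⟩ := hy
  constructor
  · have hX : IsPGroup p (zpowers x) := IsPGroup.of_card (by rw [Nat.card_zpowers, ha])
    obtain ⟨R, hR⟩ := hX.exists_le_sylow
    have := Sylow.unique_of_normal P hPn
    exact (Subsingleton.elim R P) ▸ hR (mem_zpowers x)
  · have h1 : orderOf (y : G ⧸ K) ∣ q ^ b := hb ▸ orderOf_map_dvd (QuotientGroup.mk' K) y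
    have h2 : orderOf (y : G ⧸ K) ∣ Nat.card (P : Subgroup G) := by
      rw [← hc.index_eq_card, index_eq_card]
      exact orderOf_dvd_natCard _
    obtain ⟨m, hm⟩ := IsPGroup.iff_card.1 P.isPGroup'
    rw [hm] at h2
    have h3 := Nat.eq_one_of_dvd_coprimes
      (Nat.Coprime.pow b m ((Nat.coprime_primes hq hp.out).2 hqp)) h1 h2
    rwa [orderOf_eq_one_iff, QuotientGroup.eq_one_iff] at h3

theorem commute_of_pair (P : Sylow p G) (K : Subgroup G) (hPn : (P : Subgroup G).Normal) (hKn : K.Normal)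
    (hinf : (P : Subgroup G) ⊓ K = ⊥) (hsup : (P : Subgroup G) ⊔ K = ⊤) (x y : G)
    (hx : ∃ a : ℕ, orderOf x = p ^ a) (hy : ∃ q b : ℕ, q.Prime ∧ q ≠ p ∧ orderOf y = q ^ b) :
    Commute x y := by
  obtain ⟨h1, h2⟩ := mem_of_pair P K hPn hKn hinf hsup x y hx hy
  exact commute_of_normal_of_disjoint _ _ hPn hKn (disjoint_iff.2 hinf) x y h1 h2

theorem index_mul_of_pair (P : Sylow p G) (K : Subgroup G) (hPn : (P : Subgroup G).Normal) (hKn : K.Normal)
    (hinf : (P : Subgroup G) ⊓ K = ⊥) (hsup : (P : Subgroup G) ⊔ K = ⊤) (x y : G)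
    (hx : ∃ a : ℕ, orderOf x = p ^ a) (hy : ∃ q b : ℕ, q.Prime ∧ q ≠ p ∧ orderOf y = q ^ b) :
    (centralizer ({x * y} : Set G)).index =
      (centralizer ({x} : Set G)).index * (centralizer ({y} : Set G)).index := by
  obtain ⟨h1, h2⟩ := mem_of_pair P K hPn hKn hinf hsup x y hx hy
  have hd : Disjoint (P : Subgroup G) K := disjoint_iff.2 hinf
  have hcomm : ∀ u ∈ (P : Subgroup G), ∀ k ∈ K, u * k = k * u := fun u hu k hk =>
    (commute_of_normal_of_disjoint _ _ hPn hKn hd u k hu hk).eq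
  have hdec : ∀ g : G, ∃ u ∈ (P : Subgroup G), ∃ k ∈ K, u * k = g := fun g =>
    Subgroup.mem_sup_of_normal_right.1 (hsup ▸ mem_top g)
  have heq : centralizer ({x * y} : Set G) = centralizer ({x} : Set G) ⊓ centralizer ({y} : Set G) := by
    ext g
    rw [mem_inf, mem_centralizer_singleton_iff, mem_centralizer_singleton_iff, mem_centralizer_singleton_iff]
    obtain ⟨u, hu, k, hk, rfl⟩ := hdec g
    constructor
    · intro h
      have e1 : u * k * (x * y) = (u * x) * (k * y) := by
        calc u * k * (x * y) = u * (k * x) * y := by group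
          _ = u * (x * k) * y := by rw [hcomm x h1 k hk]
          _ = _ := by group
      have e2 : x * y * (u * k) = (x * u) * (y * k) := by
        calc x * y * (u * k) = x * (y * u) * k := by group
          _ = x * (u * y) * k := by rw [hcomm u hu y h2]
          _ = _ := by group
      rw [e1, e2] at h
      have h3 : (x * u)⁻¹ * (u * x) = (y * k) * (k * y)⁻¹ := by
        rw [eq_mul_inv_iff_mul_eq, mul_assoc, inv_mul_eq_iff_eq_mul]; exact h
      have h4 : (x * u)⁻¹ * (u * x) ∈ (P : Subgroup G) ⊓ K :=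
        mem_inf.2 ⟨mul_mem (inv_mem (mul_mem h1 hu)) (mul_mem hu h1),
          h3 ▸ mul_mem (mul_mem h2 hk) (inv_mem (mul_mem hk h2))⟩
      rw [hinf, mem_bot] at h4
      have h5 : x * u = u * x := inv_mul_eq_one.1 h4
      rw [h4, eq_comm, mul_inv_eq_one] at h3
      exact ⟨by rw [mul_assoc, ← hcomm x h1 k hk, ← mul_assoc, ← h5, mul_assoc],
        by rw [mul_assoc, ← h3, ← mul_assoc, hcomm u hu y h2, mul_assoc]⟩
    · rintro ⟨e, f⟩
      rw [← mul_assoc, e, mul_assoc, f, ← mul_assoc]
  have hxK : K ≤ centralizer ({x} : Set G) := fun k hk =>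
    mem_centralizer_singleton_iff.2 (hcomm x h1 k hk).symm
  have hyP : (P : Subgroup G) ≤ centralizer ({y} : Set G) := fun u hu =>
    mem_centralizer_singleton_iff.2 (hcomm u hu y h2)
  rw [heq]
  refine le_antisymm (index_inf_le) (Nat.le_of_dvd ?_ ?_)
  · exact Nat.pos_of_ne_zero index_ne_zero_of_finite
  · refine Nat.Coprime.mul_dvd_of_dvd_of_dvd ?_ (index_dvd_of_le inf_le_left) (index_dvd_of_le inf_le_right)
    have hc : Subgroup.IsComplement' (P : Subgroup G) K :=
      Subgroup.isComplement'_of_disjoint_and_mul_eq_univ hd (by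
        rw [← Subgroup.normal_mul, hsup, Subgroup.coe_top])
    exact Nat.Coprime.coprime_dvd_left (hc.index_eq_card ▸ index_dvd_of_le hxK)
      (Nat.Coprime.coprime_dvd_right (index_dvd_of_le hyP) P.card_coprime_index)

/-- If the class size of a product is the product of class sizes the factors commute. -/
theorem commute_of_index (x y : G) (h : (centralizer ({x * y} : Set G)).index =
    (centralizer ({x} : Set G)).index * (centralizer ({y} : Set G)).index) : x * y = y * x := by
  classical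
  let O : G → Type _ := fun z => MulAction.orbit (ConjAct G) z
  have hO : ∀ z, Nat.card (O z) = (centralizer ({z} : Set G)).index := fun z => by
    rw [Nat.card_congr (MulAction.orbitEquivQuotientStabilizer (ConjAct G) z), ← index_eq_card,
      ← Subgroup.index_comap_of_surjective (f := ConjAct.toConjAct.toMonoidHom) (MulAction.stabilizer (ConjAct G) z)
        ConjAct.toConjAct.surjective]
    congr 1
    ext g
    rw [mem_comap, MulAction.mem_stabilizer_iff, mem_centralizer_singleton_iff]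
    show g * z * g⁻¹ = z ↔ _
    exact mul_inv_eq_iff_eq_mul
  let f : O x × O y → G := fun q => q.1.1 * q.2.1
  have himg : MulAction.orbit (ConjAct G) (x * y) ⊆ Set.range f := by
    rintro _ ⟨g, rfl⟩
    exact ⟨(⟨g • x, g, rfl⟩, ⟨g • y, g, rfl⟩), (smul_mul' g x y).symm⟩
  have hcard : Nat.card (O x × O y) ≤ (Set.range f).ncard := by
    refine le_trans (le_of_eq ?_) (Set.ncard_le_ncard himg (Set.toFinite _))
    rw [← Nat.card_coe_set_eq, Nat.card_prod, hO, hO, ← h]
    exact (hO (x * y)).symm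
  have hinj : Function.Injective f := by
    intro a b hab
    by_contra hne
    have hlt : (Set.range f).ncard < Nat.card (O x × O y) := by
      have hsub : Set.range f ⊆ f '' ({a}ᶜ) := by
        rintro _ ⟨c, rfl⟩
        by_cases hca : c = a
        · exact ⟨b, fun hb => hne (hb.symm), by rw [hca, hab]⟩
        · exact ⟨c, hca, rfl⟩
      have h1 := (Set.ncard_le_ncard hsub (Set.toFinite _)).trans (Set.ncard_image_le (Set.toFinite _))
      rw [Set.ncard_compl, Set.ncard_singleton] at h1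
      have h2 : 0 < Nat.card (O x × O y) := by
        have : Nonempty (O x × O y) := ⟨a⟩
        exact Nat.card_pos
      omega
    omega
  have key := @hinj (⟨ConjAct.toConjAct (x * y) • x, _, rfl⟩, ⟨ConjAct.toConjAct (x * y) • y, _, rfl⟩)
    (⟨x, MulAction.mem_orbit_self x⟩, ⟨y, MulAction.mem_orbit_self y⟩) (by
      show (x * y * x * (x * y)⁻¹) * (x * y * y * (x * y)⁻¹) = x * y
      group)
  have hk : x * y * x * (x * y)⁻¹ = x := congrArg (fun q : O x × O y => q.1.1) key
  rw [mul_inv_eq_iff_eq_mul, mul_assoc, mul_right_inj] at hk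
  exact hk.symm

theorem exists_direct_of_commute (h : ∀ x y : G, (∃ a : ℕ, orderOf x = p ^ a) →
    (∃ q b : ℕ, q.Prime ∧ q ≠ p ∧ orderOf y = q ^ b) → x * y = y * x) :
    ∃ (P : Sylow p G) (K : Subgroup G), (P : Subgroup G).Normal ∧ K.Normal ∧
      (P : Subgroup G) ⊓ K = ⊥ ∧ (P : Subgroup G) ⊔ K = ⊤ := by
  let P : Sylow p G := default
  have hxP : ∀ x ∈ (P : Subgroup G), ∃ a : ℕ, orderOf x = p ^ a := fun x hx => by
    obtain ⟨a, ha⟩ := IsPGroup.iff_orderOf.1 P.isPGroup' ⟨x, hx⟩
    exact ⟨a, by rwa [orderOf_mk] at ha⟩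
  have hC : ∀ y : G, (∃ q b : ℕ, q.Prime ∧ q ≠ p ∧ orderOf y = q ^ b) →
      y ∈ centralizer ((P : Subgroup G) : Set G) := fun y hy x hx => h x y (hxP x hx) hy
  have hPC : (P : Subgroup G) ⊔ centralizer ((P : Subgroup G) : Set G) = ⊤ := by
    rw [← index_eq_one, Nat.eq_one_iff_not_exists_prime_dvd]
    intro q hq hdvd
    have : Fact q.Prime := ⟨hq⟩
    by_cases hqp : q = p
    · subst hqp
      exact P.not_dvd_index' index_ne_zero_of_finite (hdvd.trans (index_dvd_of_le le_sup_left))
    · let Q : Sylow q G := default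
      refine Q.not_dvd_index' index_ne_zero_of_finite (hdvd.trans (index_dvd_of_le ?_))
      intro y hy
      obtain ⟨b, hb⟩ := IsPGroup.iff_orderOf.1 Q.isPGroup' ⟨y, hy⟩
      rw [orderOf_mk] at hb
      exact mem_sup_right (hC y ⟨q, b, hq, hqp, hb⟩)
  have hPn : (P : Subgroup G).Normal := by
    rw [← normalizer_eq_top_iff, eq_top_iff, ← hPC]
    exact sup_le le_normalizer (Subgroup.centralizer_le_normalizer _)
  obtain ⟨K, hK⟩ := exists_right_complement'_of_coprime (N := (P : Subgroup G)) P.card_coprime_index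
  have hKcop : ∀ q, q.Prime → q ∣ Nat.card K → q ≠ p := fun q hq hqK hqp => by
    subst hqp
    rw [← hK.symm.index_eq_card] at hqK
    exact P.not_dvd_index' index_ne_zero_of_finite hqK
  have hKC : K ≤ centralizer ((P : Subgroup G) : Set G) := by
    refine le_of_prime_power_mem fun y hy hyo => ?_
    obtain ⟨q, b, hq, hb⟩ := hyo
    rcases Nat.eq_zero_or_pos b with rfl | hb0
    · rw [pow_zero, orderOf_eq_one_iff] at hb
      rw [hb]; exact one_mem _
    · refine hC y ⟨q, b, hq, hKcop q hq ?_, hb⟩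
      have : orderOf (⟨y, hy⟩ : K) ∣ Nat.card K := orderOf_dvd_natCard _
      rw [orderOf_mk, hb] at this
      exact (dvd_pow_self q hb0.ne').trans this
  refine ⟨P, K, hPn, ?_, disjoint_iff.1 hK.disjoint, hK.sup_eq_top⟩
  rw [← normalizer_eq_top_iff, eq_top_iff, ← hK.sup_eq_top]
  refine sup_le ?_ le_normalizer
  intro x hx
  rw [mem_normalizer_iff]
  intro k
  constructor
  · intro hk
    rw [hKC hk x hx, mul_inv_cancel_right]; exact hk
  · intro hk
    have h1 := hKC hk x⁻¹ (inv_mem hx)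
    have : x⁻¹ * (x * k * x⁻¹) * x = x * k * x⁻¹ := by rw [h1]; group
    have h2 : k = x * k * x⁻¹ := by rw [← this]; group
    rwa [← h2] at hk

theorem direct_of_class_sizes
    (h : ∀ x : G, (orderOf x).Coprime p → ¬ p ∣ (ConjClasses.mk x).carrier.ncard) (P : Sylow p G) :
    (P : Subgroup G).Normal ∧ ∃ H : Subgroup G, H.Normal ∧ ¬ p ∣ Nat.card H ∧
      (P : Subgroup G) ⊓ H = ⊥ ∧ (P : Subgroup G) ⊔ H = ⊤ := by
  classical
  have hcent : ∀ x : G, (orderOf x).Coprime p → ¬ p ∣ (centralizer ({x} : Set G)).index := by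
    intro x hx hdvd
    apply h x hx
    have hcar : (ConjClasses.mk x).carrier = MulAction.orbit (ConjAct G) x :=
      (ConjAct.orbit_eq_carrier_conjClasses x).symm
    rw [hcar, ← Nat.card_coe_set_eq, Nat.card_congr (MulAction.orbitEquivQuotientStabilizer (ConjAct G) x),
      ← index_eq_card, ← Subgroup.index_comap_of_surjective (f := ConjAct.toConjAct.toMonoidHom)
        (MulAction.stabilizer (ConjAct G) x) ConjAct.toConjAct.surjective]
    refine hdvd.trans (dvd_of_eq (congrArg Subgroup.index ?_))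
    ext g
    rw [mem_comap, MulAction.mem_stabilizer_iff, mem_centralizer_singleton_iff]
    show _ ↔ g * x * g⁻¹ = x
    exact mul_inv_eq_iff_eq_mul.symm
  -- each p'-element centralizes a Sylow subgroup containing a given commuting p-element
  have hfull : ∀ x u : G, (orderOf x).Coprime p → (∃ a, orderOf u = p ^ a) → Commute u x →
      ∃ R : Sylow p G, u ∈ (R : Subgroup G) ∧ x ∈ centralizer ((R : Subgroup G) : Set G) := by
    intro x u hx ⟨a, ha⟩ hux
    let C := centralizer ({x} : Set G)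
    let u' : C := ⟨u, mem_centralizer_singleton_iff.2 hux.eq⟩
    have hu' : IsPGroup p (zpowers u') :=
      IsPGroup.of_card (by rw [Nat.card_zpowers, ← orderOf_coe]; exact ha)
    obtain ⟨R, hR⟩ := hu'.exists_le_sylow
    obtain ⟨S, hS⟩ := (R.isPGroup'.map C.subtype).exists_le_sylow
    have hcard : Nat.card (S : Subgroup G) ≤ Nat.card ((R : Subgroup C).map C.subtype) := by
      rw [card_map_of_injective C.subtype_injective, S.card_eq_multiplicity, R.card_eq_multiplicity]
      refine Nat.pow_le_pow_right hp.out.pos (le_of_eq ?_)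
      rw [← C.card_mul_index, Nat.factorization_mul Nat.card_pos.ne' index_ne_zero_of_finite,
        Finsupp.add_apply, Nat.factorization_eq_zero_of_not_dvd (hcent x hx), add_zero]
    have heq := eq_of_le_of_card_ge hS hcard
    refine ⟨S, hS ⟨u', hR (mem_zpowers u'), rfl⟩, fun z hz => ?_⟩
    rw [SetLike.mem_coe, ← heq] at hz
    obtain ⟨w, -, rfl⟩ := hz
    exact (mem_centralizer_singleton_iff.1 w.2)
  have htop : (P : Subgroup G) ⊔ centralizer ((P : Subgroup G) : Set G) = ⊤ := by
    refine eq_top_of_forall_conj_mem _ fun g => ?_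
    obtain ⟨a, o, hno, hoe⟩ := Nat.exists_eq_pow_mul_and_not_dvd (orderOf_pos g).ne' p hp.out.ne_one
    have hcop : (p ^ a).Coprime o := ((Nat.Prime.coprime_iff_not_dvd hp.out).2 hno).pow_left a
    obtain ⟨s, t, hst⟩ := exists_pow_pair g hcop hoe
    obtain ⟨R, huR, hxR⟩ := hfull (g ^ s) (g ^ t)
      (Nat.Coprime.coprime_dvd_left hst.1 ((Nat.Prime.coprime_iff_not_dvd hp.out).2 hno).symm)
      ((Nat.dvd_prime_pow hp.out).1 hst.2.1 |>.imp fun _ h => h.2) ((Commute.refl g).pow_pow t s)
    obtain ⟨b, rfl⟩ := MulAction.exists_smul_eq G P R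
    refine ⟨b, ?_⟩
    rw [Sylow.coe_subgroup_smul, mem_pointwise_smul_iff_inv_smul_mem] at huR
    have hu : b⁻¹ * g ^ t * b ∈ (P : Subgroup G) := by
      simpa only [MulAut.smul_def, MulAut.conj_inv_apply] using huR
    have hx : b⁻¹ * g ^ s * b ∈ centralizer ((P : Subgroup G) : Set G) := by
      intro z hz
      have hz' : b * z * b⁻¹ ∈ ((b • P : Sylow p G) : Subgroup G) := by
        rw [Sylow.coe_subgroup_smul, mem_pointwise_smul_iff_inv_smul_mem]
        simpa only [MulAut.smul_def, MulAut.conj_inv_apply, mul_assoc, inv_mul_cancel_left, inv_mul_cancel,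
          mul_one, SetLike.mem_coe] using hz
      have h1 := hxR _ hz'
      calc z * (b⁻¹ * g ^ s * b) = b⁻¹ * ((b * z * b⁻¹) * g ^ s) * b := by group
        _ = b⁻¹ * (g ^ s * (b * z * b⁻¹)) * b := by rw [h1]
        _ = _ := by group
    have e : b⁻¹ * g * b = (b⁻¹ * g ^ t * b) * (b⁻¹ * g ^ s * b) := by
      conv_lhs => rw [← hst.2.2]
      group
    rw [e]
    exact mul_mem (mem_sup_left hu) (mem_sup_right hx)
  have hPn : (P : Subgroup G).Normal := by
    rw [← normalizer_eq_top_iff, eq_top_iff, ← htop]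
    exact sup_le le_normalizer (Subgroup.centralizer_le_normalizer _)
  obtain ⟨P', K, -, hKn, hinf, hsup⟩ := exists_direct_of_commute (p := p) (G := G) fun x y hx hy => by
    obtain ⟨q, b, hq, hqp, hb⟩ := hy
    have hyc : (orderOf y).Coprime p := by
      rw [hb]; exact ((Nat.coprime_primes hq hp.out).2 hqp).pow_left b
    obtain ⟨R, -, hR⟩ := hfull y 1 hyc ⟨0, by simp⟩ (Commute.one_left y)
    obtain ⟨a, ha⟩ := hx
    obtain ⟨S, hS⟩ := (IsPGroup.of_card (n := a) (G := zpowers x) (by rw [Nat.card_zpowers, ha])).exists_le_sylow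
    have := Sylow.unique_of_normal P hPn
    exact hR x ((Subsingleton.elim S R) ▸ hS (mem_zpowers x))
  have := Sylow.unique_of_normal P hPn
  cases Subsingleton.elim P' P
  refine ⟨hPn, K, hKn, fun hd => ?_, hinf, hsup⟩
  obtain ⟨k, hk⟩ := exists_prime_orderOf_dvd_card' p hd
  obtain ⟨S, hS⟩ := (IsPGroup.of_card (n := 1) (G := zpowers (k : G))
    (by rw [Nat.card_zpowers, orderOf_coe, hk, pow_one])).exists_le_sylow
  have h1 : (k : G) ∈ (P : Subgroup G) ⊓ K :=
    mem_inf.2 ⟨(Subsingleton.elim S P) ▸ hS (mem_zpowers _), k.2⟩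
  rw [hinf, mem_bot] at h1
  have : orderOf (k : G) = 1 := by rw [h1, orderOf_one]
  rw [orderOf_coe, hk] at this
  exact hp.out.ne_one this

end Cfsg.Agent.FGS2
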