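import Cfsg.Agent.Core.Fitting
import Mathlib.GroupTheory.Nilpotent
import Mathlib.Tactic

/-! Baer's theorem: the left Engel elements of a finite group form the Fitting subgroup. -/

set_option autoImplicit false

namespace Cfsg.Agent.FGS2

open scoped commutatorElement

universe u

variable {G : Type u} [Group G]

/-- The iterated commutator `[x, g, ..., g]`. -/
def engelSeq (g : G) (n : ℕ) (x : G) : G :=
  (List.replicate n g).foldl (fun a b => a * b * a⁻¹ * b⁻¹) x

theorem engelSeq_succ (g : G) (n : ℕ) (x : G) :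
    engelSeq g (n + 1) x = engelSeq g n x * g * (engelSeq g n x)⁻¹ * g⁻¹ := by
  simp only [engelSeq, List.replicate_succ', List.foldl_append, List.foldl_cons, List.foldl_nil]

theorem engelSeq_map {H : Type*} [Group H] (f : H →* G) (g : H) : ∀ (n : ℕ) (x : H),
    f (engelSeq g n x) = engelSeq (f g) n (f x)
  | 0, _ => rfl
  | n + 1, x => by rw [engelSeq_succ, engelSeq_succ]; simp [engelSeq_map f g n x]

/-- A left Engel element. -/
def IsEngel (g : G) : Prop := ∀ x : G, ∃ n, engelSeq g n x = 1

theorem isEngel_conj {g : G} (h : IsEngel g) (y : G) : IsEngel (y * g * y⁻¹) := by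
  intro x
  obtain ⟨n, hn⟩ := h (y⁻¹ * x * y)
  refine ⟨n, ?_⟩
  have := engelSeq_map (MulAut.conj y).toMonoidHom g n (y⁻¹ * x * y)
  rw [hn, map_one] at this
  simp only [MulEquiv.coe_toMonoidHom, MulAut.conj_apply] at this
  rw [show y * (y⁻¹ * x * y) * y⁻¹ = x by group] at this
  exact this.symm

theorem engel_of_mem_fitting [Finite G] {g : G} (hg : g ∈ Cfsg.fittingSubgroup G) : IsEngel g := by
  intro x
  set F := Cfsg.fittingSubgroup G with hF
  obtain ⟨n, hn⟩ := Subgroup.nilpotent_iff_lowerCentralSeries.1 (Core.isNilpotent_fittingSubgroup G)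
  refine ⟨n + 1, ?_⟩
  suffices ∀ k, ∃ h : engelSeq g (k + 1) x ∈ F,
      (⟨_, h⟩ : F) ∈ (⊤ : Subgroup F).lowerCentralSeries k by
    obtain ⟨h, h'⟩ := this n
    rw [hn, Subgroup.mem_bot] at h'
    exact congrArg Subtype.val h'
  intro k
  induction k with
  | zero =>
    have hmem : engelSeq g 1 x ∈ F := by
      rw [engelSeq_succ]
      exact mul_mem ((Core.fittingSubgroup_normal G).conj_mem g hg _) (inv_mem hg)
    exact ⟨hmem, by rw [Subgroup.lowerCentralSeries_zero]; trivial⟩
  | succ k ih =>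
    obtain ⟨h, h'⟩ := ih
    refine ⟨by rw [engelSeq_succ]; exact mul_mem (mul_mem (mul_mem h hg) (inv_mem h)) (inv_mem hg), ?_⟩
    have h2 : ⁅(⟨_, h⟩ : F), (⟨g, hg⟩ : F)⁆ ∈ (⊤ : Subgroup F).lowerCentralSeries (k + 1) := by
      rw [Subgroup.lowerCentralSeries_succ]
      exact Subgroup.commutator_mem_commutator h' (Subgroup.mem_top _)
    convert h2 using 1
    exact Subtype.ext (engelSeq_succ g (k + 1) x)

theorem mem_fitting_of_engel (m : ℕ) : ∀ {G : Type u} [Group G] [Finite G], Nat.card G ≤ m →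
    ∀ g : G, IsEngel g → g ∈ Cfsg.fittingSubgroup G := by
  induction m with
  | zero => intro G _ _ h; exact absurd h (by simp [Nat.card_pos.ne'])
  | succ m ih =>
    intro G _ _ hm g0 hg0
    classical
    by_contra hcon
    set F := Cfsg.fittingSubgroup G
    let D : Set G := {d | IsEngel d ∧ d ∉ F}
    have hDc : ∀ d ∈ D, ∀ y : G, y * d * y⁻¹ ∈ D := fun d hd y => ⟨isEngel_conj hd.1 y, fun h => hd.2 (by
      have := (Core.fittingSubgroup_normal G).conj_mem _ h y⁻¹
      simpa [mul_assoc] using this)⟩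
    have hsub : ∀ H : Subgroup G, H ≠ ⊤ → Group.IsNilpotent (Subgroup.closure ((H : Set G) ∩ D)) := by
      intro H hH
      have hlt : Nat.card H ≤ m := by
        have h1 : Nat.card H ≠ Nat.card G := fun e => hH (Subgroup.eq_top_of_card_eq H e)
        have h2 := Subgroup.card_le_card_group H
        omega
      refine Core.isNilpotent_of_le ((Subgroup.closure_le _).2 ?_)
        (Core.isNilpotent_map (Core.isNilpotent_fittingSubgroup H) H.subtype)
      rintro d ⟨hdH, hd⟩
      refine ⟨⟨d, hdH⟩, ih hlt _ fun x => ?_, rfl⟩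
      obtain ⟨n, hn⟩ := hd.1 x
      exact ⟨n, Subtype.ext (by rw [← Subgroup.coe_subtype, engelSeq_map]; exact hn)⟩
    let Good : Set (Subgroup G) := {S | Group.IsNilpotent S ∧ S ≤ Subgroup.closure ((S : Set G) ∩ D)}
    have hgood : ∀ A : Set G, A ⊆ D → Group.IsNilpotent (Subgroup.closure A) → Subgroup.closure A ∈ Good :=
      fun A hA hn => ⟨hn, Subgroup.closure_mono fun a ha => ⟨Subgroup.subset_closure ha, hA ha⟩⟩
    have hext : ∀ S ∈ Good, ∃ T, S ≤ T ∧ Maximal (· ∈ Good) T := fun S hS =>
      (Set.toFinite Good).exists_le_maximal hS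
    have hnn : ∀ S ∈ Good, ∀ d ∈ D, d ∈ S → Subgroup.normalizer (S : Set G) ≠ ⊤ := fun S hS d hd hdS h =>
      hd.2 (Core.le_fittingSubgroup (Subgroup.normalizer_eq_top_iff.1 h) hS.1 hdS)
    -- a maximal good subgroup is determined by any member of `D` in it
    have huniq : ∀ T₁ T₂, Maximal (· ∈ Good) T₁ → Maximal (· ∈ Good) T₂ →
        ∀ d ∈ D, d ∈ T₁ → d ∈ T₂ → T₁ = T₂ := by
      by_contra hnu
      push Not at hnu
      obtain ⟨T₁, T₂, hT₁, hT₂, d, hd, hd1, hd2, hne⟩ := hnu
      let bad : Set (Subgroup G × Subgroup G) := {q | Maximal (· ∈ Good) q.1 ∧ Maximal (· ∈ Good) q.2 ∧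
        q.1 ≠ q.2 ∧ ∃ d ∈ D, d ∈ q.1 ∧ d ∈ q.2}
      obtain ⟨⟨A, B⟩, ⟨hA, hB, hAB, e, he, heA, heB⟩, hmax⟩ := (Set.toFinite bad).exists_maximalFor
        (fun q => ((q.1 : Set G) ∩ (q.2 : Set G) ∩ D).ncard) _ ⟨(T₁, T₂), hT₁, hT₂, hne, d, hd, hd1, hd2⟩
      set I := (A : Set G) ∩ (B : Set G) ∩ D with hI
      set J := Subgroup.closure I with hJ
      have hJA : J ≤ A := (Subgroup.closure_le _).2 fun x hx => hx.1.1
      have hJgood : J ∈ Good := hgood I (fun x hx => hx.2) (Core.isNilpotent_of_le hJA hA.1.1)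
      set M := Subgroup.normalizer (J : Set G)
      have hM : M ≠ ⊤ := hnn J hJgood e he (Subgroup.subset_closure ⟨⟨heA, heB⟩, he⟩)
      obtain ⟨T₃, hle3, hT₃⟩ := hext _ (hgood ((M : Set G) ∩ D) Set.inter_subset_right (hsub M hM))
      have key : ∀ C, Maximal (· ∈ Good) C → I ⊆ C → ¬ C ≤ J → C = T₃ := by
        intro C hC hIC hCJ
        obtain ⟨a, ha, haD, haM, haI⟩ : ∃ a, a ∈ C ∧ a ∈ D ∧ a ∈ M ∧ a ∉ J := by
          have hJC : J ≤ C := (Subgroup.closure_le _).2 hIC
          by_cases hCM : C ≤ M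
          · by_contra hh
            push Not at hh
            exact hCJ (hC.1.2.trans ((Subgroup.closure_le _).2 fun a ha => hh a ha.1 ha.2 (hCM ha.1)))
          haveI := hC.1.1
          set K := M.subgroupOf C
          have hK : K < ⊤ := lt_top_iff_ne_top.2 fun h => hCM (Subgroup.subgroupOf_eq_top.1 h)
          obtain ⟨⟨y, hyC⟩, hy, hyK⟩ := SetLike.exists_of_lt
            ((Group.normalizerCondition_of_isNilpotent : NormalizerCondition C) K hK)
          obtain ⟨i, hi, hiy⟩ : ∃ i ∈ I, y * i * y⁻¹ ∉ J := by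
            by_contra hh
            push Not at hh
            apply hyK
            have hle : J ≤ J.comap (MulAut.conj y).toMonoidHom := (Subgroup.closure_le _).2 fun i hi => hh i hi
            refine Subgroup.mem_subgroupOf.2 (Subgroup.mem_normalizer_iff.2 fun x => ?_)
            have heq : J.map (MulAut.conj y).toMonoidHom = J :=
              Subgroup.eq_of_le_of_card_ge (Subgroup.map_le_iff_le_comap.2 hle)
                (Subgroup.card_map_of_injective (MulAut.conj y).injective).ge
            constructor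
            · intro hx; exact hle hx
            · intro hx
              rw [← heq] at hx
              obtain ⟨x', hx', he'⟩ := hx
              have : x' = x := (MulAut.conj y).injective he'
              exact this ▸ hx'
          have hiC : i ∈ C := hIC hi
          have hiM : i ∈ M := Subgroup.le_normalizer (Subgroup.subset_closure hi)
          have h1 := (Subgroup.mem_normalizer_iff.1 hy ⟨i, hiC⟩).1 (Subgroup.mem_subgroupOf.2 hiM)
          exact ⟨y * i * y⁻¹, mul_mem (mul_mem hyC hiC) (inv_mem hyC), hDc i hi.2 y,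
            Subgroup.mem_subgroupOf.1 h1, hiy⟩
        by_contra hne3
        have hin : insert a I ⊆ (C : Set G) ∩ (T₃ : Set G) ∩ D := by
          rintro x (rfl | hx)
          · exact ⟨⟨ha, hle3 (Subgroup.subset_closure ⟨haM, haD⟩)⟩, haD⟩
          · exact ⟨⟨hIC hx, hle3 (Subgroup.subset_closure
              ⟨Subgroup.le_normalizer (Subgroup.subset_closure hx), hx.2⟩)⟩, hx.2⟩
        have hge := Set.ncard_le_ncard hin (Set.toFinite _)
        rw [Set.ncard_insert_of_notMem (fun h => haI (Subgroup.subset_closure h)) (Set.toFinite _)] at hge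
        have hbad : (C, T₃) ∈ bad := ⟨hC, hT₃, hne3, a, haD, ha, hle3 (Subgroup.subset_closure ⟨haM, haD⟩)⟩
        have := hmax hbad (by show I.ncard ≤ _; exact le_trans (Nat.le_succ _) hge)
        simp only at this
        rw [← hI] at this
        omega
      have hnotA : ¬ A ≤ J := fun h => hAB (le_antisymm
        (h.trans ((Subgroup.closure_le _).2 fun x hx => hx.1.2))
        (hA.2 hB.1 (h.trans ((Subgroup.closure_le _).2 fun x hx => hx.1.2))))
      have hnotB : ¬ B ≤ J := fun h => hAB (le_antisymm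
        (hB.2 hA.1 (h.trans hJA)) (h.trans hJA))
      exact hAB ((key A hA (fun x hx => hx.1.1) hnotA).trans (key B hB (fun x hx => hx.1.2) hnotB).symm)
    have hg0D : g0 ∈ D := ⟨hg0, hcon⟩
    have hcyc : ∀ d : G, Group.IsNilpotent (Subgroup.closure ({d} : Set G)) := fun d => by
      refine ⟨⟨1, ?_⟩⟩
      rw [Subgroup.upperCentralSeries_one, eq_top_iff]
      intro a _
      rw [Subgroup.mem_center_iff]
      intro b
      obtain ⟨i, hi⟩ := Subgroup.mem_closure_singleton.1 a.2
      obtain ⟨j, hj⟩ := Subgroup.mem_closure_singleton.1 b.2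
      refine Subtype.ext ?_
      show (b : G) * a = a * b
      rw [← hi, ← hj]
      exact ((Commute.refl d).zpow_zpow j i).eq
    obtain ⟨T, hgT, hT⟩ := hext _ (hgood {g0} (Set.singleton_subset_iff.2 hg0D) (hcyc g0))
    have hg0T : g0 ∈ T := hgT (Subgroup.subset_closure rfl)
    set M := Subgroup.normalizer (T : Set G)
    have hM : M ≠ ⊤ := hnn T hT.1 g0 hg0D hg0T
    have hDM : ∀ a ∈ D, a ∈ M → a ∈ T := by
      intro a ha haM
      obtain ⟨T', hle, hT'⟩ := hext _ (hgood ((M : Set G) ∩ D) Set.inter_subset_right (hsub M hM))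
      have := huniq T T' hT hT' g0 hg0D hg0T
        (hle (Subgroup.subset_closure ⟨Subgroup.le_normalizer hg0T, hg0D⟩))
      exact this ▸ hle (Subgroup.subset_closure ⟨haM, ha⟩)
    have hconjT : ∀ x : G, x * g0 * x⁻¹ ∈ T → x ∈ M := by
      intro x hx
      have hgen : ∀ S ∈ Good, S.map (MulAut.conj x).toMonoidHom ∈ Good := fun S hS => by
        refine ⟨Core.isNilpotent_map hS.1 _, ?_⟩
        refine (Subgroup.map_mono hS.2).trans ?_
        rw [MonoidHom.map_closure]
        refine Subgroup.closure_mono ?_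
        rintro _ ⟨a, ⟨ha, haD⟩, rfl⟩
        exact ⟨Subgroup.mem_map_of_mem _ ha, hDc a haD x⟩
      obtain ⟨T', hle, hT'⟩ := hext _ (hgen T hT.1)
      have := huniq T T' hT hT' _ (hDc g0 hg0D x) hx (hle (Subgroup.mem_map_of_mem _ hg0T))
      rw [← this] at hle
      have heq := Subgroup.eq_of_le_of_card_ge hle (Subgroup.card_map_of_injective (MulAut.conj x).injective).ge
      refine Subgroup.mem_normalizer_iff.2 fun y => ⟨fun hy => hle (Subgroup.mem_map_of_mem _ hy), fun hy => ?_⟩
      rw [← heq] at hy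
      obtain ⟨y', hy', he⟩ := hy
      have : y' = y := (MulAut.conj x).injective he
      exact this ▸ hy'
    have hall : ∀ e ∈ D, e ∈ T := by
      intro e he
      obtain ⟨n, hn⟩ := hg0 e
      suffices ∀ k, k ≤ n → engelSeq g0 (n - k) e ∈ M by
        have := this n le_rfl
        rw [Nat.sub_self] at this
        exact hDM e he this
      intro k
      induction k with
      | zero => intro _; rw [Nat.sub_zero, hn]; exact one_mem _
      | succ k ihk =>
        intro hk
        have h1 := ihk (by omega)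
        rw [show n - k = n - (k + 1) + 1 by omega, engelSeq_succ] at h1
        refine hconjT _ (hDM _ (hDc g0 hg0D _) ?_)
        have := mul_mem h1 (Subgroup.le_normalizer (H := T) hg0T)
        rwa [inv_mul_cancel_right] at this
    refine hM (eq_top_iff.2 fun x _ => hconjT x (hall _ (hDc g0 hg0D x)))

theorem mem_fitting_iff_engel [Finite G] (g : G) : g ∈ Cfsg.fittingSubgroup G ↔ IsEngel g :=
  ⟨engel_of_mem_fitting, mem_fitting_of_engel _ le_rfl g⟩

end Cfsg.Agent.FGS2
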