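import Cfsg.Agent.FGS2.Basic
import Cfsg.Agent.Core.CoprimeAction
import Cfsg.Agent.Core.ThompsonFPF
import Cfsg.Agent.Transfer.Gruen

/-!
# Nilpotent maximal subgroups (Thompson, Deskins–Janko)
-/

set_option autoImplicit false
set_option linter.style.haveILetI false

namespace Cfsg.Agent.FGS2.NilMax

open Cfsg
open scoped commutatorElement

variable {G : Type*} [Group G] [Finite G]

theorem normalizer_eq_of_le {M : Subgroup G} (hmax : IsCoatom M) (hcore : M.normalCore = ⊥)
    {X : Subgroup G} (hX : X ≠ ⊥) (hXM : X ≤ M) (hn : M ≤ Subgroup.normalizer (X : Set G)) :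
    Subgroup.normalizer (X : Set G) = M := by
  refine (hmax.le_iff.mp hn).resolve_left fun h => hX ?_
  have : X.Normal := Subgroup.normalizer_eq_top_iff.mp h
  exact le_bot_iff.mp (hcore ▸ Subgroup.normal_le_normalCore.mpr hXM)

/-- A Sylow subgroup of a core-free nilpotent maximal subgroup is a Sylow subgroup of `G`. -/
theorem sylow_data {M : Subgroup G} (hmax : IsCoatom M) (hnil : Group.IsNilpotent M)
    (hcore : M.normalCore = ⊥) {p : ℕ} [Fact p.Prime] (hp : p ∣ Nat.card M) :
    ∃ P : Sylow p G, (P : Subgroup G) ≤ M ∧ (P : Subgroup G) ≠ ⊥ ∧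
      Subgroup.normalizer ((P : Subgroup G) : Set G) = M := by
  obtain ⟨P₁⟩ : Nonempty (Sylow p M) := inferInstance
  have hP₁n : (P₁ : Subgroup M).Normal := Core.isNilpotent_iff_forall_sylow_normal.mp hnil p inferInstance P₁
  set X := (P₁ : Subgroup M).map M.subtype with hX
  have hXM : X ≤ M := Subgroup.map_subtype_le _
  have hXne : X ≠ ⊥ := fun h => P₁.ne_bot_of_dvd_card hp
    ((Subgroup.map_eq_bot_iff_of_injective _ M.subtype_injective).mp h)
  have hMX : M ≤ Subgroup.normalizer (X : Set G) := by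
    rw [hX]
    refine le_trans ?_ (Subgroup.le_normalizer_map _)
    rw [Subgroup.normalizer_eq_top_iff.mpr hP₁n, ← MonoidHom.range_eq_map, Subgroup.range_subtype]
  have hN := normalizer_eq_of_le hmax hcore hXne hXM hMX
  obtain ⟨P, hP⟩ := (P₁.isPGroup'.map M.subtype).exists_le_sylow
  have hPX : (P : Subgroup G) = X := by
    by_contra hne
    have : Group.IsNilpotent (P : Subgroup G) := P.isPGroup'.isNilpotent
    have hlt : X.subgroupOf P < ⊤ := lt_top_iff_ne_top.mpr fun h =>
      hne (le_antisymm (Subgroup.subgroupOf_eq_top.mp h) hP)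
    obtain ⟨g, hg, hg'⟩ := SetLike.exists_of_lt
      ((Group.normalizerCondition_of_isNilpotent : NormalizerCondition (P : Subgroup G)) _ hlt)
    have hgN : (g : G) ∈ Subgroup.normalizer (X : Set G) := by
      refine Subgroup.mem_normalizer_iff.mpr fun x => ?_
      have key := Subgroup.mem_normalizer_iff.mp hg
      constructor
      · intro hx
        simpa [Subgroup.mem_subgroupOf] using (key ⟨x, hP hx⟩).mp hx
      · intro hx
        have hxP : x ∈ (P : Subgroup G) := by
          have := (P : Subgroup G).mul_mem ((P : Subgroup G).mul_mem ((P : Subgroup G).inv_mem g.2)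
            (hP hx)) g.2
          simpa [mul_assoc] using this
        simpa [Subgroup.mem_subgroupOf] using (key ⟨x, hxP⟩).mpr (by simpa [Subgroup.mem_subgroupOf] using hx)
    rw [hN] at hgN
    -- `g` is a `p`-element of `M`, hence in `P₁`
    have hsub : Subsingleton (Sylow p M) := (Sylow.unique_of_normal P₁ hP₁n).instSubsingleton
    have hgp : IsPGroup p (Subgroup.zpowers (⟨(g : G), hgN⟩ : M)) := by
      obtain ⟨k, hk⟩ := IsPGroup.iff_orderOf.mp P.isPGroup' g
      exact IsPGroup.of_card (n := k) (by rw [Nat.card_zpowers, Subgroup.orderOf_mk, Subgroup.orderOf_coe, hk])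
    obtain ⟨Q, hQ⟩ := hgp.exists_le_sylow
    rw [Subsingleton.elim Q P₁] at hQ
    exact hg' (Subgroup.mem_subgroupOf.mpr
      (Subgroup.mem_map_of_mem M.subtype (hQ (Subgroup.mem_zpowers _))))
  exact ⟨P, hPX ▸ hXM, hPX ▸ hXne, hPX ▸ hN⟩

/-- The core-free case. -/
theorem isSolvable_of_coreFree {M : Subgroup G} (hmax : IsCoatom M) (hnil : Group.IsNilpotent M)
    (hcore : M.normalCore = ⊥)
    (hcomp : ∀ (p : ℕ) [Fact p.Prime] (P : Sylow p G), (P : Subgroup G) ≤ M →
      (P : Subgroup G) ≠ ⊥ → Subgroup.normalizer ((P : Subgroup G) : Set G) = M →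
      HasNormalPComplement p G) : Group.IsSolvable G := by
  classical
  have hsolM : Group.IsSolvable M := inferInstance
  -- every prime of `M` avoids the index
  have hhall : ∀ p : ℕ, p.Prime → p ∣ Nat.card M → ¬ p ∣ M.index ∧ HasNormalPComplement p G := by
    intro p hp hpd
    have := Fact.mk hp
    obtain ⟨P, hPM, hPne, hN⟩ := sylow_data hmax hnil hcore hpd
    exact ⟨fun hd => P.not_dvd_index (hd.trans (Subgroup.index_dvd_of_le hPM)), hcomp p P hPM hPne hN⟩
  have hcop : (Nat.card M).Coprime M.index := Nat.coprime_of_dvd fun p hp h1 h2 => (hhall p hp h1).1 h2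
  let K : Subgroup G := ⨅ p ∈ (Nat.card M).primeFactors, pResidual p G
  have hKn : K.Normal := Subgroup.normal_iInf_normal fun p => Subgroup.normal_iInf_normal fun _ => inferInstance
  have hKmem : ∀ x ∈ K, (orderOf x).Coprime (Nat.card M) := by
    intro x hx
    refine Nat.coprime_of_dvd fun p hp h1 h2 => ?_
    have := Fact.mk hp
    simp only [K, Subgroup.mem_iInf] at hx
    have h3 := hx p (Nat.mem_primeFactors.mpr ⟨hp, h2, Nat.card_pos.ne'⟩)
    have h4 := (Transfer.mem_pResidual_iff (hhall p hp h2).2).mp h3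
    exact hp.coprime_iff_not_dvd.mp h4.symm h1
  obtain ⟨q, hq, hqd⟩ := Nat.exists_prime_and_dvd (n := M.index)
    (fun h => hmax.1 (Subgroup.index_eq_one.mp h))
  have := Fact.mk hq
  have hqM : ¬ q ∣ Nat.card M := fun h => (hhall q hq h).1 hqd
  obtain ⟨x, hx⟩ := exists_prime_orderOf_dvd_card' (G := G) q (hqd.trans M.index_dvd_card)
  have hxK : x ∈ K := by
    simp only [K, Subgroup.mem_iInf]
    intro p hp
    refine Transfer.mem_pResidual_of_coprime ?_
    rw [hx]
    exact (Nat.coprime_primes hq (Nat.prime_of_mem_primeFactors hp)).mpr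
      fun e => hqM (e ▸ Nat.dvd_of_mem_primeFactors hp)
  have hKM : (Nat.card M).Coprime (Nat.card K) := by
    refine Nat.coprime_of_dvd fun p hp h1 h2 => ?_
    have := Fact.mk hp
    obtain ⟨y, hy⟩ := exists_prime_orderOf_dvd_card' p h2
    have h3 := hKmem y y.2
    rw [Subgroup.orderOf_coe, hy] at h3
    exact hp.coprime_iff_not_dvd.mp h3 h1
  obtain ⟨Q, hQK, hQp, hQi, hMQ⟩ := Core.exists_invariant_sylow (N := K) (A := M)
    (le_top.trans (Subgroup.normalizer_eq_top_iff.mpr hKn).ge) (Or.inl hsolM) hKM q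
  have hQM : ¬ Q ≤ M := by
    intro hle
    obtain ⟨k, hk⟩ := IsPGroup.iff_card.mp hQp
    have h1 := Subgroup.card_dvd_of_le hle
    rcases k with _ | k
    · refine hQi ?_
      rw [Subgroup.eq_bot_of_card_eq Q (by rw [hk, pow_zero]), Subgroup.relIndex_bot_left]
      exact hx ▸ Subgroup.orderOf_dvd_natCard K hxK
    · exact hqM ((dvd_pow_self q (Nat.succ_ne_zero k)).trans (hk ▸ h1))
  have hsup : M ⊔ Q = ⊤ :=
    hmax.2 _ (left_lt_sup.mpr hQM)
  have hQn : Q.Normal := Subgroup.normalizer_eq_top_iff.mp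
    (top_le_iff.mp (hsup ▸ sup_le hMQ Subgroup.le_normalizer))
  have : Group.IsNilpotent Q := hQp.isNilpotent
  have hQs : Group.IsSolvable (G ⧸ Q) := by
    refine Group.isSolvable_of_surjective (f := (QuotientGroup.mk' Q).comp M.subtype) fun y => ?_
    obtain ⟨g, rfl⟩ := QuotientGroup.mk'_surjective Q y
    obtain ⟨a, ha, b, hb, rfl⟩ := Subgroup.mem_sup_of_normal_right.mp (hsup ▸ Subgroup.mem_top g)
    refine ⟨⟨a, ha⟩, ?_⟩
    have : QuotientGroup.mk' Q b = 1 := (QuotientGroup.eq_one_iff b).mpr hb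
    rw [map_mul, this, mul_one]; rfl
  exact Group.isSolvable_of_ker_le_range Q.subtype (QuotientGroup.mk' Q)
    (by rw [QuotientGroup.ker_mk', Subgroup.range_subtype])

/-- Reduction to the core-free case. -/
theorem quotient_data {M : Subgroup G} (hmax : IsCoatom M) (hnil : Group.IsNilpotent M) :
    (Group.IsSolvable (G ⧸ M.normalCore) → Group.IsSolvable G) ∧
      IsCoatom (M.map (QuotientGroup.mk' M.normalCore)) ∧
      Group.IsNilpotent (M.map (QuotientGroup.mk' M.normalCore)) ∧
      (M.map (QuotientGroup.mk' M.normalCore)).normalCore = ⊥ := by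
  set π := QuotientGroup.mk' M.normalCore
  have hsurj : Function.Surjective π := QuotientGroup.mk'_surjective _
  have hcm : (M.map π).comap π = M := by
    rw [Subgroup.comap_map_eq, QuotientGroup.ker_mk', sup_eq_left.mpr (Subgroup.normalCore_le M)]
  refine ⟨fun h => ?_, ⟨fun h => hmax.1 ?_, fun X hX => ?_⟩, ?_, ?_⟩
  · have : Group.IsSolvable M.normalCore :=
      Group.isSolvable_of_isSolvable_injective (Subgroup.inclusion_injective (Subgroup.normalCore_le M))
    exact Group.isSolvable_of_ker_le_range M.normalCore.subtype π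
      (by rw [QuotientGroup.ker_mk', Subgroup.range_subtype])
  · rw [← hcm, h, Subgroup.comap_top]
  · apply Subgroup.comap_injective hsurj
    rw [Subgroup.comap_top]
    refine hmax.2 _ ?_
    conv_lhs => rw [← hcm]
    exact (Subgroup.comap_lt_comap_of_surjective hsurj).mpr hX
  · exact Core.isNilpotent_map hnil _
  · apply Subgroup.comap_injective hsurj
    rw [MonoidHom.comap_bot, QuotientGroup.ker_mk']
    refine le_antisymm ((Subgroup.normal_le_normalCore).mpr ?_) ?_
    · conv_rhs => rw [← hcm]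
      exact Subgroup.comap_mono (Subgroup.normalCore_le _)
    · exact (QuotientGroup.ker_mk' M.normalCore).ge.trans
        (fun y hy => by simp only [Subgroup.mem_comap]; rw [hy]; exact one_mem _)

/-- A nilpotent maximal subgroup of odd order forces solvability. -/
theorem isSolvable_of_odd {M : Subgroup G} (hmax : IsCoatom M) (hnil : Group.IsNilpotent M)
    (hodd : Odd (Nat.card M)) : Group.IsSolvable G := by
  obtain ⟨hback, hmax', hnil', hcore⟩ := quotient_data hmax hnil
  refine hback ?_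
  set N := M.map (QuotientGroup.mk' M.normalCore)
  have hodd' : Odd (Nat.card N) := hodd.of_dvd_nat (Subgroup.card_map_dvd M _)
  refine isSolvable_of_coreFree hmax' hnil' hcore fun p _ P hPN hPne hN => ?_
  have hp2 : p ≠ 2 := by
    rintro rfl
    obtain ⟨k, hk⟩ := IsPGroup.iff_card.mp P.isPGroup'
    rcases k with _ | k
    · exact hPne (Subgroup.eq_bot_of_card_eq _ (by rw [hk, pow_zero]))
    · exact hodd'.not_two_dvd_nat ((dvd_pow_self 2 (Nat.succ_ne_zero k)).trans
        (hk ▸ Subgroup.card_dvd_of_le hPN))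
  have hPp := P.isPGroup'
  refine Core.ThompsonComplement.hasNormalPComplement_of_thompson hp2 P ?_ ?_
  · rw [normalizer_eq_of_le hmax' hcore (Core.ThompsonComplement.thompsonSubgroupOf_ne_bot hPp hPne)
      ((Core.ThompsonComplement.thompsonSubgroupOf_le_self p _).trans hPN)
      (hN.ge.trans (Core.ThompsonComplement.normalizer_le_normalizer_thompson p _))]
    exact @Core.ThompsonFPF.hasNormalPComplement_of_isNilpotent _ _ _ p _ hnil'
  · set Z := (P : Subgroup (G ⧸ M.normalCore)) ⊓
      Subgroup.centralizer ((P : Subgroup (G ⧸ M.normalCore)) : Set (G ⧸ M.normalCore)) with hZ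
    have hZne : Z ≠ ⊥ := by
      intro hb
      have : Nontrivial (P : Subgroup (G ⧸ M.normalCore)) := (Subgroup.nontrivial_iff_ne_bot _).mpr hPne
      have := hPp.center_nontrivial
      obtain ⟨⟨⟨z₀, hz₀⟩, hz₀c⟩, hz₀1⟩ := exists_ne (1 : Subgroup.center (P : Subgroup (G ⧸ M.normalCore)))
      have hz₀Z : z₀ ∈ Z := ⟨hz₀, Subgroup.mem_centralizer_iff.mpr fun y hy =>
        congrArg Subtype.val (Subgroup.mem_center_iff.mp hz₀c ⟨y, hy⟩)⟩
      rw [hb, Subgroup.mem_bot] at hz₀Z
      exact hz₀1 (Subtype.ext (Subtype.ext hz₀Z))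
    have hMn : N ≤ Subgroup.normalizer (Z : Set (G ⧸ M.normalCore)) := by
      intro g hg
      rw [← hN, Subgroup.mem_normalizer_iff_map_conj_eq] at hg
      rw [Subgroup.mem_normalizer_iff_map_conj_eq, hZ,
        Core.ThompsonComplement.centre_map _ (MulAut.conj g).injective.injOn, hg]
    have hle : Subgroup.centralizer (Z : Set (G ⧸ M.normalCore)) ≤ N :=
      (Subgroup.centralizer_le_normalizer _).trans
        (normalizer_eq_of_le hmax' hcore hZne (inf_le_left.trans hPN) hMn).le
    exact Transfer.hasNormalPComplement_of_le hle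
      (@Core.ThompsonFPF.hasNormalPComplement_of_isNilpotent _ _ _ p _ hnil')

/-- A nilpotent maximal subgroup of class at most two forces solvability. -/
theorem isSolvable_of_class_two {M : Subgroup G} (hmax : IsCoatom M) (hnil : Group.IsNilpotent M)
    (hcl : Group.nilpotencyClass M ≤ 2) : Group.IsSolvable G := by
  obtain ⟨hback, hmax', hnil', hcore⟩ := quotient_data hmax hnil
  refine hback ?_
  set π := QuotientGroup.mk' M.normalCore with hπ
  set N := M.map π with hNdef
  have hlcs : Subgroup.lowerCentralSeries (⊤ : Subgroup M) 2 = ⊥ :=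
    Subgroup.lowerCentralSeries_eq_bot_iff_nilpotencyClass_le.mpr hcl
  have hclass : ∀ a ∈ N, ∀ b ∈ N, ∀ c ∈ N, ⁅a, b⁆ * c = c * ⁅a, b⁆ := by
    rintro _ ⟨a, ha, rfl⟩ _ ⟨b, hb, rfl⟩ _ ⟨c, hc, rfl⟩
    have h1 : ⁅⁅(⟨a, ha⟩ : M), (⟨b, hb⟩ : M)⁆, (⟨c, hc⟩ : M)⁆ ∈ Subgroup.lowerCentralSeries (⊤ : Subgroup M) 2 :=
      Subgroup.commutator_mem_commutator
        (Subgroup.commutator_mem_commutator (Subgroup.mem_top _) (Subgroup.mem_top _)) (Subgroup.mem_top _)
    rw [hlcs, Subgroup.mem_bot, commutatorElement_eq_one_iff_mul_comm] at h1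
    have h2 := congrArg (fun m : M => π (m : G)) h1
    simpa [commutatorElement_def] using h2
  refine isSolvable_of_coreFree hmax' hnil' hcore fun p _ P hPN hPne hN => ?_
  have hPp := P.isPGroup'
  -- the unique Sylow subgroup of `N`
  have huniq : ∀ y ∈ N, (∃ k, orderOf y = p ^ k) → y ∈ (P : Subgroup (G ⧸ M.normalCore)) := by
    intro y hy ⟨k, hk⟩
    let P' : Sylow p N := P.subtype hPN
    have hn : (P' : Subgroup N).Normal := Core.isNilpotent_iff_forall_sylow_normal.mp hnil' p inferInstance P'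
    have : Subsingleton (Sylow p N) := (Sylow.unique_of_normal P' hn).instSubsingleton
    have hyp : IsPGroup p (Subgroup.zpowers (⟨y, hy⟩ : N)) :=
      IsPGroup.of_card (n := k) (by rw [Nat.card_zpowers, Subgroup.orderOf_mk, hk])
    obtain ⟨Q, hQ⟩ := hyp.exists_le_sylow
    rw [Subsingleton.elim Q P'] at hQ
    exact Subgroup.mem_subgroupOf.mp (hQ (Subgroup.mem_zpowers _))
  set S := (P : Subgroup (G ⧸ M.normalCore)) with hS
  set Z := S ⊓ Subgroup.centralizer (S : Set (G ⧸ M.normalCore)) with hZ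
  have hZne : Z ≠ ⊥ := by
    intro hb
    have : Nontrivial S := (Subgroup.nontrivial_iff_ne_bot _).mpr hPne
    have := hPp.center_nontrivial
    obtain ⟨⟨⟨z₀, hz₀⟩, hz₀c⟩, hz₀1⟩ := exists_ne (1 : Subgroup.center S)
    have hz₀Z : z₀ ∈ Z := ⟨hz₀, Subgroup.mem_centralizer_iff.mpr fun y hy =>
      congrArg Subtype.val (Subgroup.mem_center_iff.mp hz₀c ⟨y, hy⟩)⟩
    rw [hb, Subgroup.mem_bot] at hz₀Z
    exact hz₀1 (Subtype.ext (Subtype.ext hz₀Z))
  have hNZ : N ≤ Subgroup.normalizer (Z : Set (G ⧸ M.normalCore)) := by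
    intro g hg
    rw [← hN, Subgroup.mem_normalizer_iff_map_conj_eq] at hg
    rw [Subgroup.mem_normalizer_iff_map_conj_eq, hZ,
      Core.ThompsonComplement.centre_map _ (MulAut.conj g).injective.injOn, hg]
  have hNZeq := normalizer_eq_of_le hmax' hcore hZne (inf_le_left.trans hPN) hNZ
  have hCS : ∀ y ∈ N, ∃ s ∈ S, ∀ x ∈ S, y * x * y⁻¹ = s * x * s⁻¹ := by
    intro y hy
    have htop := FGS2.sylow_sup_centralizer hnil' (P.subtype hPN : Sylow p N)
    have hn : ((P.subtype hPN : Sylow p N) : Subgroup N).Normal :=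
      Core.isNilpotent_iff_forall_sylow_normal.mp hnil' p inferInstance _
    obtain ⟨a, ha, b, hb, hab⟩ := Subgroup.mem_sup_of_normal_left.mp
      (htop ▸ Subgroup.mem_top (⟨y, hy⟩ : N))
    refine ⟨a, Subgroup.mem_subgroupOf.mp ha, fun x hx => ?_⟩
    have h1 := congrArg Subtype.val
      (Subgroup.mem_centralizer_iff.mp hb ⟨x, hPN hx⟩ (Subgroup.mem_subgroupOf.mpr hx))
    simp only [Subgroup.coe_mul] at h1
    have hab' : (a : G ⧸ M.normalCore) * b = y := congrArg Subtype.val hab
    rw [← hab', mul_inv_rev, mul_assoc (a : G ⧸ M.normalCore), ← h1]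
    group
  -- weak closure of `Z`
  have hW : IsWeaklyClosed Z S := by
    refine ⟨inf_le_left, fun g hg => ?_⟩
    set T : Sylow p (G ⧸ M.normalCore) := g⁻¹ • P with hT
    have hTmem : ∀ x, x ∈ (T : Subgroup (G ⧸ M.normalCore)) ↔ g * x * g⁻¹ ∈ S := by
      intro x
      rw [hT, Sylow.coe_subgroup_smul, Subgroup.mem_pointwise_smul_iff_inv_smul_mem, ← map_inv,
        inv_inv, MulAut.smul_def, MulAut.conj_apply]
    have hZT : Z ≤ (T : Subgroup (G ⧸ M.normalCore)) := fun z hz =>
      (hTmem z).mpr (hg ⟨z, hz, rfl⟩)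
    suffices hgN : g ∈ N by
      exact Subgroup.mem_normalizer_iff_map_conj_eq.mp (hNZ hgN)
    set D := S ⊓ (T : Subgroup (G ⧸ M.normalCore)) with hD
    have hDne : D ≠ ⊥ := fun h => hZne (le_bot_iff.mp (h ▸ le_inf inf_le_left hZT))
    have hDN : N ≤ Subgroup.normalizer (D : Set (G ⧸ M.normalCore)) := by
      have hkey : ∀ y ∈ N, ∀ d ∈ D, y * d * y⁻¹ ∈ D := by
        intro y hy d hd
        obtain ⟨s, hs, hse⟩ := hCS y hy
        have hc : ⁅s, d⁆ ∈ Z := by
          refine ⟨?_, Subgroup.mem_centralizer_iff.mpr fun c hc =>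
            (hclass s (hPN hs) d (hPN hd.1) c (hPN hc)).symm⟩
          exact S.mul_mem (S.mul_mem (S.mul_mem hs hd.1) (S.inv_mem hs)) (S.inv_mem hd.1)
        rw [hse d hd.1, show s * d * s⁻¹ = ⁅s, d⁆ * d by rw [commutatorElement_def]; group]
        exact D.mul_mem ⟨hc.1, hZT hc⟩ hd
      intro y hy
      refine Subgroup.mem_normalizer_iff.mpr fun d => ⟨hkey y hy d, fun hd => ?_⟩
      simpa [mul_assoc] using hkey y⁻¹ (N.inv_mem hy) _ hd
    have hDeq := normalizer_eq_of_le hmax' hcore hDne (inf_le_left.trans hPN) hDN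
    have hTS : (T : Subgroup (G ⧸ M.normalCore)) ≤ S := by
      by_contra hne
      have : Group.IsNilpotent (T : Subgroup (G ⧸ M.normalCore)) := T.isPGroup'.isNilpotent
      have hlt : D.subgroupOf T < ⊤ := lt_top_iff_ne_top.mpr fun h =>
        hne ((Subgroup.subgroupOf_eq_top.mp h).trans inf_le_left)
      obtain ⟨y, hy, hy'⟩ := SetLike.exists_of_lt
        ((Group.normalizerCondition_of_isNilpotent : NormalizerCondition _) _ hlt)
      have hyN : (y : G ⧸ M.normalCore) ∈ N := by
        rw [← hDeq]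
        refine Subgroup.mem_normalizer_iff.mpr fun x => ?_
        have key := Subgroup.mem_normalizer_iff.mp hy
        constructor
        · intro hx
          simpa [Subgroup.mem_subgroupOf] using (key ⟨x, hx.2⟩).mp hx
        · intro hx
          have hxT : x ∈ (T : Subgroup (G ⧸ M.normalCore)) := by
            have := Subgroup.mul_mem _ (Subgroup.mul_mem _ (Subgroup.inv_mem _ y.2) hx.2) y.2
            simpa [mul_assoc] using this
          simpa [Subgroup.mem_subgroupOf] using (key ⟨x, hxT⟩).mpr hx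
      obtain ⟨k, hk⟩ := IsPGroup.iff_orderOf.mp T.isPGroup' y
      exact hy' (Subgroup.mem_subgroupOf.mpr
        ⟨huniq _ hyN ⟨k, by rw [Subgroup.orderOf_coe, hk]⟩, y.2⟩)
    have hTP : T = P := (Sylow.ext (T.is_maximal' P.isPGroup' hTS)).symm
    rw [← hN]
    refine Subgroup.mem_normalizer_iff.mpr fun x => ?_
    rw [← hTmem x, hTP]
  refine Transfer.hasNormalPComplement_of_fusion P fun x hx g hgx => ?_
  obtain ⟨n, hn, e⟩ := Transfer.exists_conj_of_weaklyClosed P (Z := Z) inf_le_right hW hx hgx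
  rw [hNZeq] at hn
  obtain ⟨s, hs, hse⟩ := hCS n hn
  exact ⟨s, hs, by rw [← hse x hx, e]⟩

end Cfsg.Agent.FGS2.NilMax
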