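import Cfsg.Agent.Core.Hall
import Cfsg.Agent.Core.Fitting
import Cfsg.Agent.Core.MinimalNormal
import Mathlib.GroupTheory.GroupAction.ConjAct
import Mathlib.Tactic

/-! Groups in which all `p`-regular classes have `p`-power size. -/

set_option autoImplicit false

namespace Cfsg.Agent.FGS2

open Subgroup
open scoped Pointwise

universe u

variable {G : Type u} [Group G]

/-- Burnside's class size theorem, in the form used below. -/
def BurnsideClass : Prop :=
  ∀ (S : Type u) [Group S] [Finite S] [IsSimpleGroup S] (p k : ℕ), p.Prime → ∀ g : S, g ≠ 1 →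
    (centralizer ({g} : Set S)).index = p ^ k → (Nat.card S).Prime

theorem class_ncard [Finite G] (x : G) :
    (ConjClasses.mk x).carrier.ncard = (centralizer ({x} : Set G)).index := by
  let φ : G →* ConjAct G := (ConjAct.toConjAct (G := G)).toMonoidHom
  have hst : centralizer ({x} : Set G) = Subgroup.comap (G := G) φ (MulAction.stabilizer (ConjAct G) x) := by
    ext g
    rw [Subgroup.mem_comap, MulAction.mem_stabilizer_iff, mem_centralizer_singleton_iff]
    show _ ↔ g * x * g⁻¹ = x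
    exact mul_inv_eq_iff_eq_mul.symm
  rw [hst, Subgroup.index_comap_of_surjective (f := φ) _ ConjAct.toConjAct.surjective,
    MulAction.index_stabilizer, ConjAct.orbit_eq_carrier_conjClasses]

theorem relIndex_dvd_index_left_of_normal [Finite G] (C N : Subgroup G) [N.Normal] :
    C.relIndex N ∣ C.index := by
  have h1 := relIndex_mul_relIndex (N ⊓ C) C (N ⊔ C) inf_le_right le_sup_right
  have h2 := relIndex_mul_relIndex (N ⊓ C) N (N ⊔ C) inf_le_left le_sup_left
  have h3 : N.relIndex (N ⊔ C) = N.relIndex C := by rw [sup_comm, relIndex_sup_right]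
  have h4 : C.relIndex (N ⊔ C) = C.relIndex N := by
    have e1 : (N ⊓ C).relIndex C = N.relIndex C := inf_relIndex_right N C
    have e2 : (N ⊓ C).relIndex N = C.relIndex N := inf_relIndex_left N C
    have h2' := relIndex_mul_relIndex (N ⊓ C) N (N ⊔ C) inf_le_left le_sup_left
    rw [e1] at h1; rw [e2, h3, ← h1, mul_comm (C.relIndex N)] at h2'
    have hne : N.relIndex C ≠ 0 := by
      intro h0
      exact index_ne_zero_of_finite (H := N) (Nat.eq_zero_of_zero_dvd (h0 ▸ relIndex_dvd_index_of_normal N C))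
    exact (Nat.eq_of_mul_eq_mul_left (Nat.pos_of_ne_zero hne) h2').symm
  rw [← h4]
  exact relIndex_dvd_index_of_le le_sup_right

theorem isSolvable_of_inherit (Φ : ∀ (S : Type u) [Group S], Prop)
    (hN : ∀ (S : Type u) [Group S] [Finite S] (N : Subgroup S), N.Normal → Φ S → Φ N)
    (hQ : ∀ (S : Type u) [Group S] [Finite S] (N : Subgroup S) [N.Normal], Φ S → Φ (S ⧸ N))
    (hS : ∀ (S : Type u) [Group S] [Finite S] [IsSimpleGroup S], Φ S → Group.IsSolvable S) (n : ℕ) :
    ∀ (S : Type u) [Group S] [Finite S], Φ S → Nat.card S ≤ n → Group.IsSolvable S := by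
  induction n with
  | zero => intro S _ _ _ h; exact absurd h (by simp [Nat.card_pos.ne'])
  | succ n ih =>
    intro S _ _ hΦ hn
    rcases subsingleton_or_nontrivial S with h | h
    · infer_instance
    by_cases hs : ∀ N : Subgroup S, N.Normal → N = ⊥ ∨ N = ⊤
    · have : IsSimpleGroup S := ⟨hs⟩
      exact hS S hΦ
    push Not at hs
    obtain ⟨N, hNn, hb, ht⟩ := hs
    have h1 : 1 < Nat.card N := Subgroup.one_lt_card_iff_ne_bot N |>.2 hb
    have h2 := N.card_mul_index
    rw [index_eq_card] at h2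
    have h3 : 1 < Nat.card (S ⧸ N) := by
      rw [← index_eq_card]; exact one_lt_index_of_ne_top ht
    have e1 : Group.IsSolvable N := ih N (hN S N hNn hΦ) (by nlinarith)
    have e2 : Group.IsSolvable (S ⧸ N) := ih (S ⧸ N) (hQ S N hΦ) (by nlinarith)
    exact (Group.isSolvable_iff_subgroup_quotient N).2 ⟨e1, e2⟩

/-- Every `p`-regular class has `p`-power size. -/
def RegularPPower (p : ℕ) (S : Type u) [Group S] : Prop :=
  ∀ x : S, (orderOf x).Coprime p → ∃ k, (centralizer ({x} : Set S)).index = p ^ k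

/-- There is an abelian subgroup of order prime to `p` and `p`-power index. -/
def AbelianComplement (p : ℕ) (S : Type u) [Group S] : Prop :=
  ∃ H : Subgroup S, IsMulCommutative H ∧ ¬ p ∣ Nat.card H ∧ ∃ k, H.index = p ^ k

theorem exists_pRegular_lift [Finite G] {p : ℕ} (hp : p.Prime) (N : Subgroup G) [N.Normal]
    (z : G ⧸ N) (hz : (orderOf z).Coprime p) : ∃ x : G, (orderOf x).Coprime p ∧ (x : G ⧸ N) = z := by
  obtain ⟨x, rfl⟩ := QuotientGroup.mk_surjective z
  obtain ⟨a, o, hno, hoe⟩ := Nat.exists_eq_pow_mul_and_not_dvd (orderOf_pos x).ne' p hp.ne_one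
  have hco : o.Coprime p := ((Nat.Prime.coprime_iff_not_dvd hp).2 hno).symm
  obtain ⟨e, he1, he0⟩ := Nat.chineseRemainder (hco.pow_right a) 1 0
  refine ⟨x ^ e, Nat.Coprime.coprime_dvd_left (orderOf_dvd_of_pow_eq_one ?_) hco, ?_⟩
  · obtain ⟨d, hd⟩ := Nat.modEq_zero_iff_dvd.1 he0
    rw [← pow_mul, hd, show p ^ a * d * o = p ^ a * o * d by ring, pow_mul, ← hoe, pow_orderOf_eq_one, one_pow]
  · rw [QuotientGroup.mk_pow]
    conv_rhs => rw [← pow_one (x : G ⧸ N)]
    refine pow_eq_pow_iff_modEq.2 (he1.of_dvd ?_)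
    have h1 : orderOf (x : G ⧸ N) ∣ p ^ a * o := hoe ▸ orderOf_map_dvd (QuotientGroup.mk' N) x
    exact (hz.pow_right a).dvd_of_dvd_mul_left h1

theorem regularPPower_subgroup [Finite G] {p : ℕ} (hp : p.Prime) (N : Subgroup G) (hN : N.Normal)
    (h : RegularPPower p G) : RegularPPower p N := by
  intro x hx
  obtain ⟨k, hk⟩ := h x (by rwa [orderOf_coe])
  have h1 : (centralizer ({x} : Set N)).index = (centralizer ({(x : G)} : Set G)).relIndex N := by
    rw [relIndex]
    congr 1
    ext y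
    rw [mem_subgroupOf, mem_centralizer_singleton_iff, mem_centralizer_singleton_iff]
    exact Subtype.ext_iff
  obtain ⟨i, -, hi⟩ := (Nat.dvd_prime_pow hp).1 (hk ▸ relIndex_dvd_index_left_of_normal _ N)
  exact ⟨i, h1.trans hi⟩

theorem regularPPower_quotient [Finite G] {p : ℕ} (hp : p.Prime) (N : Subgroup G) [N.Normal]
    (h : RegularPPower p G) : RegularPPower p (G ⧸ N) := by
  intro z hz
  obtain ⟨x, hx, rfl⟩ := exists_pRegular_lift hp N z hz
  obtain ⟨k, hk⟩ := h x hx
  have hle : (centralizer ({x} : Set G)).map (QuotientGroup.mk' N) ≤ centralizer ({(x : G ⧸ N)} : Set (G ⧸ N)) := by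
    rintro _ ⟨c, hc, rfl⟩
    rw [mem_centralizer_singleton_iff]
    exact congrArg (QuotientGroup.mk' N) (mem_centralizer_singleton_iff.1 hc)
  obtain ⟨i, -, hi⟩ := (Nat.dvd_prime_pow hp).1
    (hk ▸ (index_dvd_of_le hle).trans (index_map_dvd _ (QuotientGroup.mk'_surjective N)))
  exact ⟨i, hi⟩

theorem abelianComplement_subgroup [Finite G] {p : ℕ} (hp : p.Prime) (N : Subgroup G) (hN : N.Normal)
    (h : AbelianComplement p G) : AbelianComplement p N := by
  obtain ⟨H, hc, hd, k, hk⟩ := h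
  refine ⟨H.subgroupOf N, ?_, fun hh => hd (hh.trans ?_), ?_⟩
  · refine ⟨⟨fun a b => Subtype.ext (Subtype.ext ?_)⟩⟩
    show ((a : N) : G) * (b : N) = (b : N) * (a : N)
    exact congrArg Subtype.val (hc.is_comm.comm ⟨((a : N) : G), a.2⟩ ⟨((b : N) : G), b.2⟩)
  · rw [← card_map_of_injective N.subtype_injective, subgroupOf_map_subtype]
    exact card_dvd_of_le inf_le_left
  · obtain ⟨i, -, hi⟩ := (Nat.dvd_prime_pow hp).1 (hk ▸ relIndex_dvd_index_left_of_normal H N)
    exact ⟨i, hi⟩

theorem abelianComplement_quotient [Finite G] {p : ℕ} (hp : p.Prime) (N : Subgroup G) [N.Normal]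
    (h : AbelianComplement p G) : AbelianComplement p (G ⧸ N) := by
  obtain ⟨H, hc, hd, k, hk⟩ := h
  refine ⟨H.map (QuotientGroup.mk' N), ?_, fun hh => hd (hh.trans (card_map_dvd H _)), ?_⟩
  · refine ⟨⟨?_⟩⟩
    rintro ⟨_, a, ha, rfl⟩ ⟨_, b, hb, rfl⟩
    exact Subtype.ext (congrArg (fun z : H => ((z : G) : G ⧸ N)) (hc.is_comm.comm ⟨a, ha⟩ ⟨b, hb⟩))
  · obtain ⟨i, -, hi⟩ := (Nat.dvd_prime_pow hp).1 (hk ▸ index_map_dvd H (QuotientGroup.mk'_surjective N))
    exact ⟨i, hi⟩

theorem isSolvable_of_regularPPower [Finite G] (hB : BurnsideClass.{u}) {p : ℕ} (hp : p.Prime)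
    (h : RegularPPower p G) : Group.IsSolvable G := by
  refine isSolvable_of_inherit (fun S _ => RegularPPower p S) (fun S _ _ N hN hS => regularPPower_subgroup hp N hN hS)
    (fun S _ _ N _ hS => regularPPower_quotient hp N hS) (fun S _ _ _ hS => ?_) _ G h le_rfl
  have := Fact.mk hp
  by_cases hP : IsPGroup p S
  · have := hP.isNilpotent; infer_instance
  obtain ⟨q, hq, hqd, hqp⟩ : ∃ q, q.Prime ∧ q ∣ Nat.card S ∧ q ≠ p := by
    by_contra hcon
    push Not at hcon
    exact hP (IsPGroup.of_card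
      (Nat.eq_prime_pow_of_unique_prime_dvd Nat.card_pos.ne' fun {d} hd hdd => hcon d hd hdd))
  have := Fact.mk hq
  obtain ⟨x, hx⟩ := exists_prime_orderOf_dvd_card' q hqd
  obtain ⟨k, hk⟩ := hS x (by rw [hx]; exact (Nat.coprime_primes hq hp).2 hqp)
  have := Fact.mk (hB S p k hp x (fun e => hq.ne_one (by rw [← hx, e, orderOf_one])) hk)
  have : IsCyclic S := isCyclic_of_prime_card rfl
  infer_instance

theorem isSolvable_of_abelianComplement [Finite G] (hB : BurnsideClass.{u}) {p : ℕ} (hp : p.Prime)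
    (h : AbelianComplement p G) : Group.IsSolvable G := by
  refine isSolvable_of_inherit (fun S _ => AbelianComplement p S) (fun S _ _ N hN hS => abelianComplement_subgroup hp N hN hS)
    (fun S _ _ N _ hS => abelianComplement_quotient hp N hS) (fun S _ _ _ hS => ?_) _ G h le_rfl
  have := Fact.mk hp
  obtain ⟨H, hc, -, k, hk⟩ := hS
  by_cases hb : H = ⊥
  · have := (IsPGroup.of_card (G := S) (by rw [← index_bot, ← hb, hk])).isNilpotent
    infer_instance
  obtain ⟨x, hx, hx1⟩ := (bot_or_exists_ne_one H).resolve_left hb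
  have hle : H ≤ centralizer ({x} : Set S) := fun y hy =>
    mem_centralizer_singleton_iff.2 (congrArg Subtype.val (hc.is_comm.comm ⟨y, hy⟩ ⟨x, hx⟩))
  obtain ⟨i, -, hi⟩ := (Nat.dvd_prime_pow hp).1 (hk ▸ index_dvd_of_le hle)
  have := Fact.mk (hB S p i hp x hx1 hi)
  have : IsCyclic S := isCyclic_of_prime_card rfl
  infer_instance

theorem isPiHall_compl_iff [Finite G] {p : ℕ} (hp : p.Prime) {H : Subgroup G} :
    IsPiHall ({p}ᶜ : Set ℕ) H ↔ ¬ p ∣ Nat.card H ∧ ∃ k, H.index = p ^ k := by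
  constructor
  · intro h
    refine ⟨fun hd => h.1 p hp hd rfl, _, Nat.eq_prime_pow_of_unique_prime_dvd index_ne_zero_of_finite
      fun {q} hq hqd => by_contra fun hne => h.2 q hq hne hqd⟩
  · rintro ⟨h1, k, hk⟩
    refine ⟨fun q _ hd e => h1 (Set.mem_singleton_iff.1 e ▸ hd), fun q hq hne hd => hne ?_⟩
    rw [hk] at hd
    exact (Nat.prime_dvd_prime_iff_eq hq hp).1 (hq.dvd_of_dvd_pow hd)

theorem conj_mem_center_hall [Finite G] [Group.IsSolvable G] {p : ℕ} (hp : p.Prime) (h : RegularPPower p G)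
    {H : Subgroup G} (hH : IsPiHall ({p}ᶜ : Set ℕ) H) (x : G) (hx : (orderOf x).Coprime p) :
    ∃ g : G, g * x * g⁻¹ ∈ H ∧ ∀ y ∈ H, Commute (g * x * g⁻¹) y := by
  obtain ⟨k, hk⟩ := h x hx
  set C := centralizer ({x} : Set G)
  have : Group.IsSolvable C := inferInstance
  have hxp : ∀ q : ℕ, q.Prime → q ∣ orderOf x → q ∈ ({p}ᶜ : Set ℕ) := fun q hq hd e =>
    hq.ne_one (Nat.eq_one_of_dvd_coprimes hx hd (dvd_of_eq e))
  have hxC : x ∈ C := mem_centralizer_singleton_iff.2 rfl
  obtain ⟨K, hK, hxK⟩ := Core.exists_isPiHall_ge_of_isSolvable (G := C) (π := ({p}ᶜ : Set ℕ))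
    (K := zpowers ⟨x, hxC⟩) (fun q hq hd => hxp q hq (by rwa [Nat.card_zpowers, orderOf_mk] at hd))
  obtain ⟨hK1, i, hK2⟩ := (isPiHall_compl_iff hp).1 hK
  have hK' : IsPiHall ({p}ᶜ : Set ℕ) (K.map C.subtype) := by
    refine (isPiHall_compl_iff hp).2 ⟨by rwa [card_map_of_injective C.subtype_injective], i + k, ?_⟩
    rw [index_map_subtype, hK2, hk, pow_add]
  obtain ⟨g, hg⟩ := Core.exists_conj_eq_of_isPiHall_of_isSolvable hK' hH
  refine ⟨g, ?_, fun y hy => ?_⟩
  · rw [← hg, ← MulAut.conj_apply, ← MulAut.smul_def, smul_mem_pointwise_smul_iff]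
    exact ⟨⟨x, hxC⟩, hxK (mem_zpowers _), rfl⟩
  · rw [← hg] at hy
    obtain ⟨c, ⟨d, -, rfl⟩, rfl⟩ := hy
    have h1 : Commute x (d : G) := (mem_centralizer_singleton_iff.1 d.2).symm
    exact h1.map (MulAut.conj g).toMonoidHom

theorem hall_commutative (n : ℕ) : ∀ (G : Type u) [Group G] [Finite G] [Group.IsSolvable G], Nat.card G ≤ n →
    ∀ {p : ℕ}, p.Prime → RegularPPower p G → ∀ H : Subgroup G, IsPiHall ({p}ᶜ : Set ℕ) H →
    IsMulCommutative H := by
  induction n with
  | zero => intro G _ _ _ h; exact absurd h (by simp [Nat.card_pos.ne'])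
  | succ n ih =>
    intro G _ _ _ hn p hp h H hH
    have := Fact.mk hp
    obtain ⟨hH1, hH2⟩ := (isPiHall_compl_iff hp).1 hH
    by_cases hO : Cfsg.pCore p G = ⊥
    · have hF : Cfsg.fittingSubgroup G ≤ H := by
        rw [Core.fittingSubgroup_eq_iSup]
        refine iSup_le fun q => ?_
        rcases eq_or_ne (q : ℕ) p with e | e
        · rw [e, hO]; exact bot_le
        · have := Fact.mk q.2
          obtain ⟨j, hj⟩ := IsPGroup.iff_card.1 (Core.isPGroup_pCore (q : ℕ) G)
          have hc : Cfsg.pCore (q : ℕ) G ⊔ H = H := by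
            rw [sup_comm]
            refine (Core.eq_of_isPiHall_le hH le_sup_left ?_).symm
            intro r hr hd hrp
            rcases hr.dvd_mul.1 (hd.trans (Core.card_sup_dvd_mul H (Cfsg.pCore (q : ℕ) G))) with hd' | hd'
            · exact hH.1 r hr hd' hrp
            · rw [hj] at hd'
              exact e (((Nat.prime_dvd_prime_iff_eq hr q.2).1 (hr.dvd_of_dvd_pow hd')).symm.trans hrp)
          rw [← hc]; exact le_sup_left
      have hin : ∀ x : G, (orderOf x).Coprime p → x ∈ Cfsg.fittingSubgroup G := by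
        intro x hx
        obtain ⟨g, -, hg2⟩ := conj_mem_center_hall hp h hH x hx
        have h1 : g * x * g⁻¹ ∈ Cfsg.fittingSubgroup G :=
          Core.centralizer_fittingSubgroup_le (fun y hy => (hg2 y (hF hy)).eq.symm)
        have := (Core.fittingSubgroup_normal G).conj_mem _ h1 g⁻¹
        simpa [mul_assoc] using this
      have hHF : H = Cfsg.fittingSubgroup G := by
        refine le_antisymm (fun y hy => hin y ?_) hF
        exact Nat.Coprime.coprime_dvd_left (orderOf_dvd_natCard H hy) (hp.coprime_iff_not_dvd.2 hH1).symm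
      refine ⟨⟨fun a b => Subtype.ext ?_⟩⟩
      show (a : G) * b = b * a
      have ha : (orderOf (a : G)).Coprime p :=
        Nat.Coprime.coprime_dvd_left (orderOf_dvd_natCard H a.2) (hp.coprime_iff_not_dvd.2 hH1).symm
      obtain ⟨g, -, hg2⟩ := conj_mem_center_hall hp h hH a ha
      have hb : g * b * g⁻¹ ∈ H := by
        exact hHF.ge ((Core.fittingSubgroup_normal G).conj_mem _ (hHF.le b.2) g)
      have h1 := (hg2 _ hb).map (MulAut.conj g⁻¹).toMonoidHom
      simp only [MulEquiv.coe_toMonoidHom, MulAut.conj_apply, inv_inv] at h1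
      simpa [mul_assoc] using h1.eq
    · set N := Cfsg.pCore p G
      have : N.Normal := inferInstance
      have hlt : Nat.card (G ⧸ N) ≤ n := by
        have h2 := N.card_mul_index
        rw [index_eq_card] at h2
        have h3 : 1 < Nat.card N := (one_lt_card_iff_ne_bot N).2 hO
        have h4 : 0 < Nat.card (G ⧸ N) := Nat.card_pos
        nlinarith
      have hmap : IsPiHall ({p}ᶜ : Set ℕ) (H.map (QuotientGroup.mk' N)) :=
        Core.isPiHall_map (QuotientGroup.mk'_surjective N) hH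
      have hab := ih (G ⧸ N) hlt hp (regularPPower_quotient hp N h) _ hmap
      have hinj : ∀ a : G, a ∈ H → a ∈ N → a = 1 := by
        intro a haH haN
        obtain ⟨j, hj⟩ := IsPGroup.iff_orderOf.1 (Core.isPGroup_pCore p G) ⟨a, haN⟩
        rw [orderOf_mk] at hj
        rw [← orderOf_eq_one_iff, hj]
        rcases Nat.eq_zero_or_pos j with rfl | hj0
        · simp
        · exact absurd ((dvd_pow_self p hj0.ne').trans (hj ▸ orderOf_dvd_natCard H haH)) hH1
      refine ⟨⟨fun a b => Subtype.ext ?_⟩⟩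
      have h1 := congrArg Subtype.val (hab.is_comm.comm ⟨_, mem_map_of_mem (QuotientGroup.mk' N) a.2⟩
        ⟨_, mem_map_of_mem (QuotientGroup.mk' N) b.2⟩)
      simp only [Subgroup.coe_mul, QuotientGroup.mk'_apply, ← QuotientGroup.mk_mul] at h1
      have h2 := hinj _ (mul_mem (inv_mem (mul_mem a.2 b.2)) (mul_mem b.2 a.2)) (QuotientGroup.eq.1 h1)
      exact inv_mul_eq_one.1 h2

theorem regularPPower_iff [Finite G] (hB : BurnsideClass.{u}) {p : ℕ} (hp : p.Prime) :
    RegularPPower p G ↔ AbelianComplement p G := by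
  constructor
  · intro h
    have := isSolvable_of_regularPPower hB hp h
    obtain ⟨H, hH⟩ := Core.exists_isPiHall_of_isSolvable (G := G) ({p}ᶜ : Set ℕ)
    exact ⟨H, hall_commutative _ G le_rfl hp h H hH, (isPiHall_compl_iff hp).1 hH⟩
  · intro h x hx
    have := isSolvable_of_abelianComplement hB hp h
    obtain ⟨H, hc, hH⟩ := h
    obtain ⟨K, hK, hxK⟩ := Core.exists_isPiHall_ge_of_isSolvable (G := G) (π := ({p}ᶜ : Set ℕ))
      (K := zpowers x) (fun q hq hd e => hq.ne_one
        (Nat.eq_one_of_dvd_coprimes hx (by rwa [Nat.card_zpowers] at hd) (dvd_of_eq e)))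
    obtain ⟨g, hg⟩ := Core.exists_conj_eq_of_isPiHall_of_isSolvable ((isPiHall_compl_iff hp).2 hH) hK
    have hle : K ≤ centralizer ({x} : Set G) := by
      intro y hy
      rw [← hg] at hy
      have hx' := hxK (mem_zpowers x)
      rw [← hg] at hx'
      obtain ⟨c, hcH, rfl⟩ := hy
      obtain ⟨d, hdH, rfl⟩ := hx'
      have h1 : Commute c d := congrArg Subtype.val (hc.is_comm.comm ⟨c, hcH⟩ ⟨d, hdH⟩)
      exact mem_centralizer_singleton_iff.2 (h1.map (MulAut.conj g).toMonoidHom).eq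
    obtain ⟨j, hj⟩ := ((isPiHall_compl_iff hp).1 hK).2
    obtain ⟨i, -, hi⟩ := (Nat.dvd_prime_pow hp).1 (hj ▸ index_dvd_of_le hle)
    exact ⟨i, hi⟩

end Cfsg.Agent.FGS2
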