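import Cfsg.Agent.Core.PiNumber
import Mathlib.GroupTheory.Sylow
import Mathlib.GroupTheory.SchurZassenhaus
import Mathlib.GroupTheory.QuotientGroup.Basic
import Mathlib.Data.Nat.Factorization.Basic
import Mathlib.Tactic

/-!
Extensions of groups whose `π`-elements form a subgroup.
-/

set_option autoImplicit false
set_option maxHeartbeats 1000000
set_option linter.unusedSectionVars false

namespace Cfsg.Agent.FGS2.PiClosed

variable {G : Type*} [Group G] [Finite G] {π : Set ℕ}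

/-- Every prime divisor of `n` is in `π`. -/
def Pi (π : Set ℕ) (n : ℕ) : Prop := ∀ p : ℕ, p.Prime → p ∣ n → p ∈ π

theorem Pi.of_dvd {m n : ℕ} (h : Pi π n) (hd : m ∣ n) : Pi π m := fun p hp hpm => h p hp (hpm.trans hd)

theorem Pi.mul {m n : ℕ} (h : Pi π m) (h' : Pi π n) : Pi π (m * n) := fun p hp hd =>
  (hp.dvd_mul.1 hd).elim (h p hp) (h' p hp)

theorem Pi.one : Pi π 1 := fun p hp hd => absurd (Nat.dvd_one.1 hd) hp.ne_one

/-- `π`-closed groups. -/
def Closed (π : Set ℕ) (G : Type*) [Group G] : Prop := ∃ L : Subgroup G, ∀ x, x ∈ L ↔ Pi π (orderOf x)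

/-- The automizer hypothesis. -/
def Auto (π : Set ℕ) (G : Type*) [Group G] : Prop :=
  ∀ H : Subgroup G, H ≠ ⊥ → (∀ p : ℕ, p.Prime → p ∣ Nat.card ↥H → p ∉ π) →
    ∀ p : ℕ, p.Prime → p ∣ (Subgroup.centralizer (H : Set G)).relIndex (Subgroup.normalizer (H : Set G)) → p ∉ π

theorem relIndex_map_dvd {G' : Type*} [Group G'] (f : G →* G') {H K : Subgroup G} (hle : H ≤ K) :
    (H.map f).relIndex (K.map f) ∣ H.relIndex K := by
  have e : (H.map f).subgroupOf (K.map f) = (H.subgroupOf K).map (f.subgroupMap K) := by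
    ext ⟨y, hy⟩
    simp only [Subgroup.mem_subgroupOf, Subgroup.mem_map]
    constructor
    · rintro ⟨a, ha, rfl⟩
      exact ⟨⟨a, hle ha⟩, ha, rfl⟩
    · rintro ⟨a, ha, e⟩
      exact ⟨a, ha, congrArg Subtype.val e⟩
  rw [Subgroup.relIndex, e]
  exact Subgroup.index_map_dvd _ (MonoidHom.subgroupMap_surjective f K)

theorem pi_card_of_forall {H : Subgroup G} (h : ∀ x ∈ H, Pi π (orderOf x)) : Pi π (Nat.card H) := by
  intro p hp hd
  have : Fact p.Prime := ⟨hp⟩
  obtain ⟨x, hx⟩ := exists_prime_orderOf_dvd_card' p hd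
  rw [← Subgroup.orderOf_coe] at hx
  exact h x x.2 p hp (hx ▸ dvd_rfl)

/-- A subgroup containing every element of prime power order dividing the order of `g` contains `g`. -/
theorem mem_of_parts {E : Subgroup G} {g : G}
    (h : ∀ r : ℕ, r.Prime → r ∣ orderOf g → ∀ k : ℕ, ∀ y ∈ Subgroup.zpowers g, orderOf y = r ^ k → y ∈ E) :
    g ∈ E := by
  have hd : orderOf g ∣ Nat.card ↥(E ⊓ Subgroup.zpowers g) := by
    rw [Nat.dvd_iff_prime_pow_dvd_dvd]
    intro r k hr hk
    rcases Nat.eq_zero_or_pos k with rfl | hk0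
    · simp
    have hm : orderOf g / r ^ k ≠ 0 := (Nat.div_pos (Nat.le_of_dvd (orderOf_pos g) hk) (pow_pos hr.pos k)).ne'
    have ho : orderOf (g ^ (orderOf g / r ^ k)) = r ^ k := by
      rw [orderOf_pow_of_dvd hm (Nat.div_dvd_of_dvd hk), Nat.div_div_self hk (orderOf_pos g).ne']
    rw [← ho]
    refine Subgroup.orderOf_dvd_natCard _ ⟨h r hr ((dvd_pow_self r hk0.ne').trans hk) k _
      (Subgroup.npow_mem_zpowers g _) ho, Subgroup.npow_mem_zpowers g _⟩
  have e : E ⊓ Subgroup.zpowers g = Subgroup.zpowers g := Subgroup.eq_of_le_of_card_ge inf_le_right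
    (by rw [Nat.card_zpowers]; exact Nat.le_of_dvd Nat.card_pos hd)
  exact (e.ge (Subgroup.mem_zpowers g)).1

/-- An `r`-element (`r ∈ π`) centralises a normal `π'`-section when automizers are `π'`-groups. -/
theorem comm_of_auto (hauto : Auto π G) (P K : Subgroup G) [P.Normal] [K.Normal] (hPK : P ≤ K)
    (hP : Pi π (Nat.card P)) (hKP : ∀ p : ℕ, p.Prime → p ∣ P.relIndex K → p ∉ π)
    {r k : ℕ} [hr : Fact r.Prime] (hrπ : r ∈ π) {x : G} (hx : orderOf x = r ^ k) :
    ∀ y ∈ K, x * y * x⁻¹ * y⁻¹ ∈ P := by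
  set f := QuotientGroup.mk' P with hf
  have hsurj : Function.Surjective f := QuotientGroup.mk'_surjective P
  set Kb := K.map f with hKb
  have hKbn : Kb.Normal := Subgroup.Normal.map inferInstance f hsurj
  have hKbc : Nat.card Kb = P.relIndex K := by
    have h := Subgroup.relIndex_map_map (H := P) (K := K) f
    rw [QuotientGroup.map_mk'_self, Subgroup.relIndex_bot_left, QuotientGroup.ker_mk', sup_idem,
      sup_eq_left.2 hPK] at h
    exact h
  suffices Kb ≤ Subgroup.centralizer ({f x} : Set (G ⧸ P)) by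
    intro y hy
    rw [← QuotientGroup.eq_one_iff]
    have h := Subgroup.mem_centralizer_singleton_iff.1 (this (Subgroup.mem_map_of_mem f hy))
    show f (x * y * x⁻¹ * y⁻¹) = 1
    simp only [map_mul, map_inv]
    rw [← h, mul_inv_cancel_right, mul_inv_cancel]
  refine inf_eq_left.1 (Subgroup.eq_of_le_of_card_ge inf_le_left (Nat.le_of_dvd Nat.card_pos ?_))
  rw [Nat.dvd_iff_prime_pow_dvd_dvd]
  intro q m hq hqm
  rcases Nat.eq_zero_or_pos m with rfl | hm0
  · simp
  have hqπ : q ∉ π := hKP q hq (hKbc ▸ (dvd_pow_self q hm0.ne').trans hqm)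
  have : Fact q.Prime := ⟨hq⟩
  obtain ⟨Q⟩ := (inferInstance : Nonempty (Sylow q K))
  set Qg := (Q : Subgroup K).map K.subtype with hQg
  set N := Subgroup.normalizer (Qg : Set G) with hN
  have hNK : N ⊔ K = ⊤ := by
    have h := Sylow.normalizer_sup_eq_top Q
    exact h
  have hQg1 : Qg ≠ ⊥ := by
    intro e
    have h1 : q ∣ Nat.card K :=
      ((dvd_pow_self q hm0.ne').trans hqm).trans (hKbc ▸ Subgroup.relIndex_dvd_card P K)
    have h2 := Q.dvd_card_of_dvd_card h1
    have h3 : Nat.card Qg = Nat.card (Q : Subgroup K) := Subgroup.card_map_of_injective K.subtype_injective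
    rw [← h3, e, Subgroup.card_bot] at h2
    exact hq.ne_one (Nat.dvd_one.1 h2)
  have hQgπ : ∀ p : ℕ, p.Prime → p ∣ Nat.card Qg → p ∉ π := by
    intro p hp hd
    rw [hQg, Subgroup.card_map_of_injective K.subtype_injective, Q.card_eq_multiplicity] at hd
    rw [(Nat.prime_dvd_prime_iff_eq hp hq).1 (hp.dvd_of_dvd_pow hd)]
    exact hqπ
  obtain ⟨R⟩ := (inferInstance : Nonempty (Sylow r N))
  set Rg := (R : Subgroup N).map N.subtype with hRg
  -- `Rg` centralises `Qg`
  have hRC : Rg ≤ Subgroup.centralizer (Qg : Set G) := by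
    set C := (Subgroup.centralizer (Qg : Set G)).subgroupOf N with hC
    rintro _ ⟨a, ha, rfl⟩
    obtain ⟨j, hj⟩ := (IsPGroup.iff_orderOf.1 R.isPGroup') ⟨a, ha⟩
    rw [← Subgroup.orderOf_coe] at hj
    have hCn : C.Normal := by
      rw [hC]
      exact Subgroup.normalizerMonoidHom_ker Qg ▸ (MonoidHom.normal_ker _)
    have h1 : orderOf (QuotientGroup.mk' C a) ∣ C.index := by
      rw [Subgroup.index]
      exact orderOf_dvd_natCard _
    have h2 : orderOf (QuotientGroup.mk' C a) ∣ r ^ j := hj ▸ orderOf_map_dvd _ a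
    obtain ⟨i, -, hi⟩ := (Nat.dvd_prime_pow hr.out).1 h2
    rcases Nat.eq_zero_or_pos i with rfl | hi0
    · rw [pow_zero, orderOf_eq_one_iff] at hi
      exact (QuotientGroup.eq_one_iff (N := C) a).1 hi
    · exact absurd hrπ (hauto Qg hQg1 hQgπ r hr.out ((dvd_pow_self r hi0.ne').trans (hi ▸ h1)))
  -- its image is a Sylow subgroup of the quotient
  have hRbp : IsPGroup r (Rg.map f) := (R.isPGroup'.map _).map f
  have hRbi : ¬ r ∣ (Rg.map f).index := by
    have hle : Rg.map f ≤ N.map f := Subgroup.map_mono (Subgroup.map_subtype_le _)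
    rw [← Subgroup.relIndex_mul_index hle]
    refine fun hd => (hr.out.dvd_mul.1 hd).elim (fun h1 => ?_) fun h2 => ?_
    · have e : Rg.relIndex N = (R : Subgroup N).index := by
        rw [hRg, Subgroup.relIndex, Subgroup.subgroupOf, Subgroup.comap_map_eq_self_of_injective N.subtype_injective]
      exact R.not_dvd_index (h1.trans (e ▸ relIndex_map_dvd f (Subgroup.map_subtype_le _)))
    · have e : (N.map f).index ∣ Nat.card Kb := by
        have htop : N.map f ⊔ Kb = ⊤ := by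
          rw [hKb, ← Subgroup.map_sup, hNK, Subgroup.map_top_of_surjective f hsurj]
        have h := Core.card_sup_dvd_mul (N.map f) Kb
        rw [htop, Subgroup.card_top, ← (N.map f).card_mul_index] at h
        exact Nat.dvd_of_mul_dvd_mul_left Nat.card_pos h
      exact hKP r hr.out (hKbc ▸ h2.trans e) hrπ
  have hxp : IsPGroup r (Subgroup.zpowers (f x)) := by
    obtain ⟨i, -, hi⟩ := (Nat.dvd_prime_pow hr.out).1 (hx ▸ orderOf_map_dvd f x)
    exact IsPGroup.of_card (n := i) (by rw [Nat.card_zpowers, hi])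
  obtain ⟨S, hS⟩ := hxp.exists_le_sylow
  obtain ⟨g, hg⟩ := MulAction.exists_smul_eq (G ⧸ P) (hRbp.toSylow hRbi) S
  -- so `f x` centralises a conjugate of the image of `Qg`
  have hQb : (Qg.map f).map (MulAut.conj g).toMonoidHom ≤ Kb ⊓ Subgroup.centralizer ({f x} : Set (G ⧸ P)) := by
    rintro _ ⟨_, ⟨a, ha, rfl⟩, rfl⟩
    refine ⟨hKbn.conj_mem _ (Subgroup.mem_map_of_mem f (Subgroup.map_subtype_le _ ha)) g, ?_⟩
    have hxS : f x ∈ (S : Subgroup (G ⧸ P)) := hS (Subgroup.mem_zpowers _)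
    rw [← hg, Sylow.coe_subgroup_smul, Subgroup.mem_pointwise_smul_iff_inv_smul_mem] at hxS
    obtain ⟨b, hb, hbe⟩ := hxS
    have hcomm : f a * f b = f b * f a := by
      rw [← map_mul, ← map_mul, Subgroup.mem_centralizer_iff.1 (hRC hb) a ha]
    have hfx : f x = g * f b * g⁻¹ := by
      rw [hbe]
      simp [MulAut.smul_def, mul_assoc]
    refine Subgroup.mem_centralizer_singleton_iff.2 ?_
    show g * f a * g⁻¹ * f x = f x * (g * f a * g⁻¹)
    rw [hfx, show g * f a * g⁻¹ * (g * f b * g⁻¹) = g * (f a * f b) * g⁻¹ by group, hcomm]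
    group
  refine (?_ : q ^ m ∣ Nat.card ((Qg.map f).map (MulAut.conj g).toMonoidHom)).trans (Subgroup.card_dvd_of_le hQb)
  rw [Subgroup.card_map_of_injective (MulAut.conj g).injective]
  have hinj : Nat.card (Qg.map f) = Nat.card Qg := by
    have h := Subgroup.relIndex_map_map (H := (⊥ : Subgroup G)) (K := Qg) f
    rw [Subgroup.map_bot, Subgroup.relIndex_bot_left, QuotientGroup.ker_mk', bot_sup_eq, sup_comm,
      Subgroup.relIndex_sup_left] at h
    rw [h]
    refine ((Subgroup.inf_relIndex_right P Qg).symm.trans ?_)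
    have : P ⊓ Qg = ⊥ := by
      refine (Subgroup.eq_bot_iff_forall _).2 fun y hy => orderOf_eq_one_iff.1 ?_
      by_contra hne
      obtain ⟨p, hp, hpd⟩ := Nat.exists_prime_and_dvd hne
      exact hQgπ p hp (hpd.trans (Subgroup.orderOf_dvd_natCard _ hy.2))
        (hP p hp (hpd.trans (Subgroup.orderOf_dvd_natCard _ hy.1)))
    rw [this, Subgroup.relIndex_bot_left]
  rw [hinj, hQg, Subgroup.card_map_of_injective K.subtype_injective, Q.card_eq_multiplicity]
  refine Nat.pow_dvd_pow q ((hq.pow_dvd_iff_le_factorization Nat.card_pos.ne').1 (hqm.trans ?_))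
  rw [hKbc]
  exact Subgroup.relIndex_dvd_card P K

/-- An extension of a `π`-closed group by a `π`-closed group with `π'`-automizers is `π`-closed. -/
theorem closed_of_extension (hauto : Auto π G) (K : Subgroup G) [hKn : K.Normal] (hK : Closed π K)
    (hQ : Closed π (G ⧸ K)) : Closed π G := by
  obtain ⟨L, hL⟩ := hK
  obtain ⟨M, hM⟩ := hQ
  set P := L.map K.subtype with hPdef
  have hPmem : ∀ g, g ∈ P ↔ g ∈ K ∧ Pi π (orderOf g) := by
    intro g
    constructor
    · rintro ⟨a, ha, rfl⟩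
      exact ⟨a.2, by rw [Subgroup.coe_subtype, Subgroup.orderOf_coe]; exact (hL a).1 ha⟩
    · rintro ⟨hgK, hg⟩
      exact ⟨⟨g, hgK⟩, (hL _).2 (by rwa [← Subgroup.orderOf_coe]), rfl⟩
  have hPn : P.Normal := ⟨fun a ha g => (hPmem _).2 ⟨hKn.conj_mem a ((hPmem a).1 ha).1 g, by
    rw [show g * a * g⁻¹ = MulAut.conj g a from rfl, MulEquiv.orderOf_eq]; exact ((hPmem a).1 ha).2⟩⟩
  have hPK : P ≤ K := Subgroup.map_subtype_le _
  have hPpi : Pi π (Nat.card P) := pi_card_of_forall fun g hg => ((hPmem g).1 hg).2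
  have hKP : ∀ p : ℕ, p.Prime → p ∣ P.relIndex K → p ∉ π := by
    intro p hp hd hpπ
    have : Fact p.Prime := ⟨hp⟩
    obtain ⟨Q⟩ := (inferInstance : Nonempty (Sylow p K))
    have hQL : (Q : Subgroup K) ≤ L := fun a ha => (hL a).2 fun q hq hd => by
      obtain ⟨j, hj⟩ := IsPGroup.iff_orderOf.1 Q.isPGroup' ⟨a, ha⟩
      rw [← Subgroup.orderOf_coe] at hj
      rw [(Nat.prime_dvd_prime_iff_eq hq hp).1 (hq.dvd_of_dvd_pow (hj ▸ hd))]
      exact hpπ
    refine Q.not_dvd_index (hd.trans ?_)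
    rw [Subgroup.relIndex, hPdef, Subgroup.subgroupOf, Subgroup.comap_map_eq_self_of_injective K.subtype_injective]
    exact Subgroup.index_dvd_of_le hQL
  -- the centraliser of the section
  let E : Subgroup G :=
    { carrier := {x | ∀ y ∈ K, x * y * x⁻¹ * y⁻¹ ∈ P}
      one_mem' := fun y _ => by simp
      mul_mem' := fun {a b} ha hb y hy => by
        rw [show a * b * y * (a * b)⁻¹ * y⁻¹ = a * (b * y * b⁻¹ * y⁻¹) * a⁻¹ * (a * y * a⁻¹ * y⁻¹) by group]
        exact mul_mem (hPn.conj_mem _ (hb y hy) a) (ha y hy)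
      inv_mem' := fun {a} ha y hy => by
        rw [show a⁻¹ * y * a⁻¹⁻¹ * y⁻¹ = a⁻¹ * (a * y * a⁻¹ * y⁻¹)⁻¹ * a⁻¹⁻¹ by group]
        exact hPn.conj_mem _ (inv_mem (ha y hy)) a⁻¹ }
  have hpiE : ∀ g, Pi π (orderOf g) → g ∈ E := fun g hg => mem_of_parts fun r hr hrg k y _ hyo => by
    have : Fact r.Prime := ⟨hr⟩
    exact comm_of_auto hauto P K hPK hPpi hKP (hg r hr hrg) hyo
  set f := QuotientGroup.mk' P with hf
  have hsurj : Function.Surjective f := QuotientGroup.mk'_surjective P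
  -- work inside the preimage of `M` intersected with `E`
  set E₀ := E ⊓ M.comap (QuotientGroup.mk' K) with hE₀
  have hpiE₀ : ∀ g, Pi π (orderOf g) → g ∈ E₀ := fun g hg =>
    ⟨hpiE g hg, (hM _).2 (hg.of_dvd (orderOf_map_dvd _ g))⟩
  set T := E₀.map f with hT
  set Z := (E₀ ⊓ K).map f with hZ
  have hZT : Z ≤ T := Subgroup.map_mono inf_le_left
  have hZc : Z.subgroupOf T ≤ Subgroup.center T := by
    rintro ⟨z, hz⟩ hzZ
    obtain ⟨a, ha, rfl⟩ := hzZ
    rw [Subgroup.mem_center_iff]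
    rintro ⟨_, b, hb, rfl⟩
    refine Subtype.ext ?_
    show f b * f a = f a * f b
    have h : f (b * a * b⁻¹ * a⁻¹) = 1 := (QuotientGroup.eq_one_iff _).2 (hb.1 a ha.2)
    simp only [map_mul, map_inv] at h
    rw [mul_inv_eq_one, mul_inv_eq_iff_eq_mul] at h
    exact h
  have hZn : (Z.subgroupOf T).Normal :=
    ⟨fun n hn g => by rwa [Subgroup.mem_center_iff.1 (hZc hn) g, mul_inv_cancel_right]⟩
  have hZcard : ∀ p : ℕ, p.Prime → p ∣ Nat.card Z → p ∉ π := by
    intro p hp hd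
    refine hKP p hp (hd.trans ?_)
    have h : Nat.card (K.map f) = P.relIndex K := by
      have h := Subgroup.relIndex_map_map (H := P) (K := K) f
      rw [QuotientGroup.map_mk'_self, Subgroup.relIndex_bot_left, QuotientGroup.ker_mk', sup_idem,
        sup_eq_left.2 hPK] at h
      exact h
    exact h ▸ Subgroup.card_dvd_of_le (Subgroup.map_mono inf_le_right)
  have hidx : Pi π (Z.relIndex T) := by
    have h1 : Pi π (K.relIndex E₀) := by
      have hc : Pi π (Nat.card M) := pi_card_of_forall fun x hx => (hM x).1 hx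
      refine hc.of_dvd ?_
      have h := Subgroup.relIndex_map_map (H := (⊥ : Subgroup G)) (K := E₀) (QuotientGroup.mk' K)
      rw [Subgroup.map_bot, Subgroup.relIndex_bot_left, QuotientGroup.ker_mk', bot_sup_eq, sup_comm,
        Subgroup.relIndex_sup_left] at h
      rw [← h]
      exact Subgroup.card_dvd_of_le (fun y ⟨a, ha, e⟩ => e ▸ ha.2)
    refine h1.of_dvd ?_
    rw [hZ, hT]
    exact (relIndex_map_dvd f (inf_le_left : E₀ ⊓ K ≤ E₀)).trans (dvd_of_eq (Subgroup.inf_relIndex_left E₀ K))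
  have hcop : Nat.Coprime (Nat.card (Z.subgroupOf T)) (Z.subgroupOf T).index := by
    rw [Nat.card_congr (Subgroup.subgroupOfEquivOfLe hZT).toEquiv]
    exact Nat.coprime_of_dvd fun p hp h1 h2 => hZcard p hp h1 (hidx p hp h2)
  obtain ⟨X, hX⟩ := Subgroup.exists_left_complement'_of_coprime hcop
  have hXc : Pi π (Nat.card X) := by
    rw [← hX.index_eq_card]
    exact hidx
  refine ⟨(X.map T.subtype).comap f, fun g => ⟨fun hg => ?_, fun hg => ?_⟩⟩
  · have hc : Pi π (orderOf (f g)) := hXc.of_dvd (by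
      rw [← Subgroup.card_map_of_injective T.subtype_injective]
      exact Subgroup.orderOf_dvd_natCard _ hg)
    have hm : g ^ orderOf (f g) ∈ P := (QuotientGroup.eq_one_iff _).1 (by
      show f (g ^ orderOf (f g)) = 1
      rw [map_pow, pow_orderOf_eq_one])
    refine (hc.mul (hPpi.of_dvd (Subgroup.orderOf_dvd_natCard _ hm))).of_dvd ?_
    rw [orderOf_dvd_iff_pow_eq_one, pow_mul, pow_orderOf_eq_one]
  · have hgT : f g ∈ T := Subgroup.mem_map_of_mem f (hpiE₀ g hg)
    obtain ⟨⟨x, z⟩, hxz⟩ := hX.2 ⟨f g, hgT⟩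
    simp only at hxz
    have hco : (orderOf (x : T)).Coprime (orderOf (z : T)) :=
      Nat.coprime_of_dvd fun p hp h1 h2 => by
        refine hZcard p hp (h2.trans ?_) (hXc p hp (h1.trans (Subgroup.orderOf_dvd_natCard _ x.2)))
        rw [← Nat.card_congr (Subgroup.subgroupOfEquivOfLe hZT).toEquiv]
        exact Subgroup.orderOf_dvd_natCard _ z.2
    have hcm : Commute (x : T) z := Subgroup.mem_center_iff.1 (hZc z.2) x
    have ho : orderOf (x : T) * orderOf (z : T) ∣ orderOf g := by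
      rw [← hcm.orderOf_mul_eq_mul_orderOf_of_coprime hco, hxz, ← Subgroup.orderOf_coe]
      exact orderOf_map_dvd f g
    have hz1 : (z : T) = 1 := orderOf_eq_one_iff.1 (by
      by_contra hne
      obtain ⟨p, hp, hpd⟩ := Nat.exists_prime_and_dvd hne
      refine hZcard p hp ?_ (hg p hp (hpd.trans ((dvd_mul_left _ _).trans ho)))
      rw [← Nat.card_congr (Subgroup.subgroupOfEquivOfLe hZT).toEquiv]
      exact hpd.trans (Subgroup.orderOf_dvd_natCard _ z.2))
    rw [hz1, mul_one] at hxz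
    exact ⟨x, x.2, congrArg Subtype.val hxz⟩

end Cfsg.Agent.FGS2.PiClosed

namespace Cfsg.Agent.FGS2.PiClosed

variable {G : Type*} [Group G] [Finite G] {π : Set ℕ}

/-- The automizer hypothesis on elements: `π`-elements of prime power order normalising a nontrivial
`π'`-subgroup centralise it. -/
theorem auto_iff : Auto π G ↔ ∀ H : Subgroup G, H ≠ ⊥ → (∀ p : ℕ, p.Prime → p ∣ Nat.card ↥H → p ∉ π) →
    ∀ r k : ℕ, r.Prime → r ∈ π → ∀ x ∈ Subgroup.normalizer (H : Set G), orderOf x = r ^ k →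
      x ∈ Subgroup.centralizer (H : Set G) := by
  constructor
  · intro h H hH hHπ r k hr hrπ x hx hxo
    set N := Subgroup.normalizer (H : Set G)
    set C := (Subgroup.centralizer (H : Set G)).subgroupOf N with hC
    have hCn : C.Normal := by
      rw [hC]
      exact Subgroup.normalizerMonoidHom_ker H ▸ (MonoidHom.normal_ker _)
    have h1 : orderOf (QuotientGroup.mk' C ⟨x, hx⟩) ∣ C.index := by
      rw [Subgroup.index]
      exact orderOf_dvd_natCard _
    have h2 : orderOf (QuotientGroup.mk' C ⟨x, hx⟩) ∣ r ^ k := by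
      have h3 := orderOf_map_dvd (QuotientGroup.mk' C) (⟨x, hx⟩ : N)
      rw [← Subgroup.orderOf_coe, Subgroup.coe_mk, hxo] at h3
      exact h3
    obtain ⟨i, -, hi⟩ := (Nat.dvd_prime_pow hr).1 h2
    rcases Nat.eq_zero_or_pos i with rfl | hi0
    · rw [pow_zero, orderOf_eq_one_iff] at hi
      exact (QuotientGroup.eq_one_iff (N := C) (⟨x, hx⟩ : N)).1 hi
    · exact absurd hrπ (h H hH hHπ r hr ((dvd_pow_self r hi0.ne').trans (hi ▸ h1)))
  · intro h H hH hHπ p hp hd hpπ
    have : Fact p.Prime := ⟨hp⟩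
    set N := Subgroup.normalizer (H : Set G)
    obtain ⟨R⟩ := (inferInstance : Nonempty (Sylow p N))
    refine R.not_dvd_index (hd.trans (Subgroup.index_dvd_of_le fun a ha => ?_))
    obtain ⟨j, hj⟩ := IsPGroup.iff_orderOf.1 R.isPGroup' ⟨a, ha⟩
    rw [← Subgroup.orderOf_coe, ← Subgroup.orderOf_coe] at hj
    exact h H hH hHπ p j hp hpπ a a.2 hj

theorem auto_subgroup (h : Auto π G) (K : Subgroup G) : Auto π K := by
  rw [auto_iff] at h ⊢
  intro H hH hHπ r k hr hrπ x hx hxo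
  have h' := h (H.map K.subtype) (fun e => hH ((H.map_eq_bot_iff_of_injective K.subtype_injective).1 e))
    (by rwa [Subgroup.card_map_of_injective K.subtype_injective]) r k hr hrπ x ?_ (by rwa [Subgroup.orderOf_coe])
  · rw [Subgroup.mem_centralizer_iff] at h' ⊢
    exact fun y hy => Subtype.ext (h' y ⟨y, hy, rfl⟩)
  · rw [Subgroup.mem_normalizer_iff] at hx ⊢
    intro y
    constructor
    · rintro ⟨a, ha, rfl⟩
      exact ⟨x * a * x⁻¹, (hx a).1 ha, rfl⟩
    · rintro ⟨a, ha, e⟩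
      refine ⟨x⁻¹ * a * x, (hx _).2 (by simpa [mul_assoc] using ha), ?_⟩
      simp only [Subgroup.coe_subtype, Subgroup.coe_mul, Subgroup.coe_inv] at e ⊢
      rw [e]; group

theorem sylow_le_of_mem_iff {L : Subgroup G} (hL : ∀ x, x ∈ L ↔ Pi π (orderOf x)) {p : ℕ} [hp : Fact p.Prime]
    (hpπ : p ∈ π) (Q : Sylow p G) : (Q : Subgroup G) ≤ L := fun a ha => (hL a).2 fun q hq hd => by
  obtain ⟨j, hj⟩ := IsPGroup.iff_orderOf.1 Q.isPGroup' ⟨a, ha⟩
  rw [← Subgroup.orderOf_coe] at hj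
  rw [(Nat.prime_dvd_prime_iff_eq hq hp.out).1 (hq.dvd_of_dvd_pow (hj ▸ hd))]
  exact hpπ

theorem auto_of_closed (h : Closed π G) : Auto π G := by
  rw [auto_iff]
  obtain ⟨L, hL⟩ := h
  intro H _ hHπ r k hr hrπ x hx hxo
  have hxL : x ∈ L := (hL x).2 fun q hq hd => by
    rw [(Nat.prime_dvd_prime_iff_eq hq hr).1 (hq.dvd_of_dvd_pow (hxo ▸ hd))]; exact hrπ
  rw [Subgroup.mem_centralizer_iff]
  intro y hy
  have h1 : x * y * x⁻¹ * y⁻¹ ∈ H := mul_mem ((Subgroup.mem_normalizer_iff.1 hx y).1 hy) (inv_mem hy)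
  have h2 : x * y * x⁻¹ * y⁻¹ ∈ L := by
    rw [show x * y * x⁻¹ * y⁻¹ = x * (y * x⁻¹ * y⁻¹) by group]
    refine mul_mem hxL ((hL _).2 ?_)
    rw [show y * x⁻¹ * y⁻¹ = MulAut.conj y x⁻¹ from rfl, MulEquiv.orderOf_eq, orderOf_inv]
    exact (hL x).1 hxL
  have h3 : x * y * x⁻¹ * y⁻¹ = 1 := orderOf_eq_one_iff.1 (by
    by_contra hne
    obtain ⟨p, hp, hpd⟩ := Nat.exists_prime_and_dvd hne
    exact hHπ p hp (hpd.trans (Subgroup.orderOf_dvd_natCard _ h1)) ((hL _).1 h2 p hp hpd))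
  rw [mul_inv_eq_one, mul_inv_eq_iff_eq_mul] at h3
  exact h3.symm

theorem closed_of_pi_or {H : Type*} [Group H] [Finite H]
    (h : (∀ q : ℕ, q.Prime → q ∣ Nat.card H → q ∈ π) ∨ (∀ q : ℕ, q.Prime → q ∣ Nat.card H → q ∉ π)) :
    Closed π H := by
  rcases h with h | h
  · exact ⟨⊤, fun x => iff_of_true (Subgroup.mem_top x) fun q hq hd => h q hq (hd.trans (orderOf_dvd_natCard x))⟩
  · refine ⟨⊥, fun x => ⟨fun hx => ?_, fun hx => Subgroup.mem_bot.2 (orderOf_eq_one_iff.1 ?_)⟩⟩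
    · rw [Subgroup.mem_bot.1 hx, orderOf_one]; exact Pi.one
    · by_contra hne
      obtain ⟨p, hp, hpd⟩ := Nat.exists_prime_and_dvd hne
      exact h p hp (hpd.trans (orderOf_dvd_natCard x)) (hx p hp hpd)

theorem closed_of_equiv {H : Type*} [Group H] (e : H ≃* G) (h : Closed π H) : Closed π G := by
  obtain ⟨L, hL⟩ := h
  refine ⟨L.map e.toMonoidHom, fun x => ?_⟩
  rw [Subgroup.mem_map_equiv, hL, MulEquiv.orderOf_eq]

end Cfsg.Agent.FGS2.PiClosed
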