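import Cfsg.Agent.Screen.FourCentralizer
import Cfsg.Agent.OddLocal.PrimePowerOrders
import Cfsg.Agent.Core.BurnsidePQ
import Cfsg.Agent.Linear.PSL2Spectrum
import Cfsg.Agent.S1011
import Mathlib.GroupTheory.Transfer
import Mathlib.FieldTheory.Finite.GaloisField

/-! Simple groups whose nontrivial element orders are `2` and two odd primes, with elements of the
same order conjugate under automorphisms: the order is sixty.  The proof counts pairs of
involutions. -/

set_option autoImplicit false
set_option linter.unusedSectionVars false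

namespace Cfsg.Agent.FGS2.PrimeOrdersSixty

open scoped Classical
open Subgroup Finset

variable {G : Type*} [Group G] [Fintype G]

/-- Every nontrivial element has prime order. -/
def PrimeOrders (G : Type*) [Group G] : Prop := ∀ g : G, g ≠ 1 → (orderOf g).Prime

theorem PrimeOrders.allPrimePowerOrders (hpo : PrimeOrders G) :
    OddLocal.AllPrimePowerOrders G :=
  OddLocal.AllPrimePowerOrders.of_isPrimePow fun g => by
    by_cases h : g = 1
    · exact Or.inr h
    · exact Or.inl (hpo g h).isPrimePow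

/-- Commuting nontrivial elements have the same order. -/
theorem PrimeOrders.orderOf_eq (hpo : PrimeOrders G) {x y : G} (hx : x ≠ 1) (hy : y ≠ 1)
    (h : Commute x y) : orderOf y = orderOf x := by
  by_contra hne
  have hc := (Nat.coprime_primes (hpo x hx) (hpo y hy)).2 (Ne.symm hne)
  have ho := h.orderOf_mul_eq_mul_orderOf_of_coprime hc
  by_cases hxy : x * y = 1
  · rw [hxy, orderOf_one] at ho
    exact (hpo x hx).ne_one (Nat.eq_one_of_mul_eq_one_right ho.symm)
  · exact Nat.not_prime_mul (hpo x hx).ne_one (hpo y hy).ne_one (ho ▸ hpo _ hxy)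

theorem ne_one_of_orderOf {x : G} {l : ℕ} (hl : l.Prime) (hx : orderOf x = l) : x ≠ 1 := by
  intro h; rw [h, orderOf_one] at hx; exact hl.ne_one hx.symm

theorem mem_centralizer_iff' {x y : G} : y ∈ centralizer ({x} : Set G) ↔ Commute x y := by
  rw [mem_centralizer_singleton_iff]; exact ⟨fun h => h.symm, fun h => h.symm⟩

theorem orderOf_of_mem_centralizer (hpo : PrimeOrders G) {x y : G} {l : ℕ} (hl : l.Prime)
    (hx : orderOf x = l) (hy : y ∈ centralizer ({x} : Set G)) : y = 1 ∨ orderOf y = l := by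
  by_cases h : y = 1
  · exact Or.inl h
  · exact Or.inr ((hpo.orderOf_eq (ne_one_of_orderOf hl hx) h (mem_centralizer_iff'.1 hy)).trans hx)

/-- If all centralizers of elements of order `l` are abelian, they are Sylow subgroups. -/
theorem exists_sylow_eq (hpo : PrimeOrders G) {l : ℕ} [Fact l.Prime]
    (hcomm : ∀ z : G, orderOf z = l → ∀ a ∈ centralizer ({z} : Set G),
      ∀ b ∈ centralizer ({z} : Set G), Commute a b)
    {x : G} (hx : orderOf x = l) : ∃ P : Sylow l G, (P : Subgroup G) = centralizer ({x} : Set G) := by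
  have hl : l.Prime := Fact.out
  have hp : IsPGroup l ↥(centralizer ({x} : Set G)) := fun g => ⟨1, by
    rw [pow_one]
    rcases orderOf_of_mem_centralizer hpo hl hx g.2 with h | h
    · rw [OneMemClass.coe_eq_one] at h
      subst h
      exact one_pow l
    · rw [Subgroup.orderOf_coe] at h
      exact orderOf_dvd_iff_pow_eq_one.1 (dvd_of_eq h)⟩
  obtain ⟨P, hP⟩ := hp.exists_le_sylow
  refine ⟨P, le_antisymm ?_ hP⟩
  have hxP : x ∈ (P : Subgroup G) := hP (mem_centralizer_iff'.2 (Commute.refl x))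
  have : Nontrivial (P : Subgroup G) :=
    ⟨⟨⟨x, hxP⟩, 1, fun h => ne_one_of_orderOf hl hx (congrArg Subtype.val h)⟩⟩
  have := P.2.center_nontrivial
  obtain ⟨z, hz⟩ := exists_ne (1 : Subgroup.center (P : Subgroup G))
  have hz1 : ((z : (P : Subgroup G)) : G) ≠ 1 := by
    intro h; exact hz (Subtype.ext (Subtype.ext h))
  have hzc : ∀ g ∈ (P : Subgroup G), Commute ((z : (P : Subgroup G)) : G) g := fun g hg =>
    congrArg Subtype.val (Subgroup.mem_center_iff.1 z.2 ⟨g, hg⟩).symm
  have hzl : orderOf ((z : (P : Subgroup G)) : G) = l :=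
    (hpo.orderOf_eq (ne_one_of_orderOf hl hx) hz1 (hzc x hxP).symm).trans hx
  intro g hg
  exact mem_centralizer_iff'.2
    (hcomm _ hzl x (mem_centralizer_iff'.2 (hzc x hxP)) g (mem_centralizer_iff'.2 (hzc g hg)))

theorem card_centralizer (hpo : PrimeOrders G) {l : ℕ} [Fact l.Prime]
    (hcomm : ∀ z : G, orderOf z = l → ∀ a ∈ centralizer ({z} : Set G),
      ∀ b ∈ centralizer ({z} : Set G), Commute a b)
    {x : G} (hx : orderOf x = l) :
    Nat.card ↥(centralizer ({x} : Set G)) = l ^ (Nat.card G).factorization l := by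
  obtain ⟨P, hP⟩ := exists_sylow_eq hpo hcomm hx
  rw [← hP, Sylow.card_eq_multiplicity]

theorem centralizer_eq_of_mem (hpo : PrimeOrders G) {l : ℕ} [Fact l.Prime]
    (hcomm : ∀ z : G, orderOf z = l → ∀ a ∈ centralizer ({z} : Set G),
      ∀ b ∈ centralizer ({z} : Set G), Commute a b)
    {x a : G} (hx : orderOf x = l) (ha : a ∈ centralizer ({x} : Set G)) (ha1 : a ≠ 1) :
    centralizer ({a} : Set G) = centralizer ({x} : Set G) := by
  have hl : l.Prime := Fact.out
  have hal : orderOf a = l := (orderOf_of_mem_centralizer hpo hl hx ha).resolve_left ha1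
  refine (eq_of_le_of_card_ge (fun b hb => mem_centralizer_iff'.2 (hcomm x hx a ha b hb)) ?_).symm
  rw [card_centralizer hpo hcomm hal, card_centralizer hpo hcomm hx]

section Two

theorem sq_of_mem (hpo : PrimeOrders G) {t y : G} (ht : orderOf t = 2)
    (hy : y ∈ centralizer ({t} : Set G)) : y * y = 1 := by
  rcases orderOf_of_mem_centralizer hpo Nat.prime_two ht hy with h | h
  · rw [h, one_mul]
  · rw [← sq, ← h, pow_orderOf_eq_one]

theorem comm_two (hpo : PrimeOrders G) : ∀ t : G, orderOf t = 2 →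
    ∀ a ∈ centralizer ({t} : Set G), ∀ b ∈ centralizer ({t} : Set G), Commute a b := by
  intro t ht a ha b hb
  have h := sq_of_mem hpo ht (mul_mem ha hb)
  have h' := TwoGroups.inv_eq_of_sq_one h
  rw [mul_inv_rev, TwoGroups.inv_eq_of_sq_one (sq_of_mem hpo ht ha),
    TwoGroups.inv_eq_of_sq_one (sq_of_mem hpo ht hb)] at h'
  exact h'.symm

theorem sq_one {t : G} (ht : orderOf t = 2) : t * t = 1 := by
  rw [← sq, ← ht, pow_orderOf_eq_one]

/-- The number of elements of the `l`-part of the order. -/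
noncomputable def part (G : Type*) (l : ℕ) : ℕ := l ^ (Nat.card G).factorization l

/-- The involutions. -/
noncomputable def inv2 (G : Type*) [Group G] [Fintype G] : Finset G :=
  univ.filter fun g : G => orderOf g = 2

theorem isConj_two (hpo : PrimeOrders G) [IsSimpleGroup G] (hnc : ¬ IsMulCommutative G)
    {a b : G} (ha : orderOf a = 2) (hb : orderOf b = 2) : ∃ g : G, g * a * g⁻¹ = b := by
  by_contra hcon
  have hcen : ∀ g : G, g * a * g⁻¹ ∈ centralizer ({b} : Set G) := by
    intro g
    set c := g * a * g⁻¹ with hc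
    have hc2 : c * c = 1 := by
      rw [hc]; calc g * a * g⁻¹ * (g * a * g⁻¹) = g * (a * a) * g⁻¹ := by group
        _ = 1 := by rw [sq_one ha]; group
    have hbc : ¬ Odd (orderOf (b * c)) := by
      intro ho
      obtain ⟨k, -, hk⟩ := TwoGroups.exists_conj_of_odd (sq_one hb) hc2 ho
      exact hcon ⟨k * g, by rw [← hk, hc]; group⟩
    have hne : b * c ≠ 1 := by intro h; rw [h, orderOf_one] at hbc; exact hbc odd_one
    have h2 : orderOf (b * c) = 2 := by
      rcases (hpo _ hne).eq_two_or_odd' with h | h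
      · exact h
      · exact absurd h hbc
    have h4 : (b * c)⁻¹ = b * c := TwoGroups.inv_eq_of_sq_one (sq_one h2)
    rw [mul_inv_rev, TwoGroups.inv_eq_of_sq_one hc2, TwoGroups.inv_eq_of_sq_one (sq_one hb)] at h4
    exact mem_centralizer_iff'.2 h4.symm
  have hle : normalClosure ({a} : Set G) ≤ centralizer ({b} : Set G) := by
    rw [normalClosure, closure_le]
    intro y hy
    obtain ⟨a', ha', hconj⟩ := Group.mem_conjugatesOfSet_iff.1 hy
    rw [Set.mem_singleton_iff] at ha'
    rw [ha'] at hconj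
    obtain ⟨g, rfl⟩ := isConj_iff.1 hconj
    exact hcen g
  rcases normalClosure_normal.eq_bot_or_eq_top (H := normalClosure ({a} : Set G)) with h | h
  · have := subset_normalClosure (Set.mem_singleton a)
    rw [h, SetLike.mem_coe, mem_bot] at this
    exact ne_one_of_orderOf Nat.prime_two ha this
  · have hb' : b ∈ center G := by
      rw [mem_center_iff]
      intro g
      exact mem_centralizer_singleton_iff.1 (hle (h ▸ mem_top g))
    rcases (center G).normal_of_characteristic.eq_bot_or_eq_top with h' | h'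
    · rw [h', mem_bot] at hb'; exact ne_one_of_orderOf Nat.prime_two hb hb'
    · exact hnc ⟨⟨fun x y => (mem_center_iff.1 (h' ▸ mem_top x) y).symm⟩⟩

theorem card_inv2 (hpo : PrimeOrders G) [IsSimpleGroup G] (hnc : ¬ IsMulCommutative G)
    {t : G} (ht : orderOf t = 2) : (inv2 G).card * part G 2 = Nat.card G := by
  have : Fact (Nat.Prime 2) := ⟨Nat.prime_two⟩
  have h := Screen.FourCentralizer.card_eq_image_mul (⊤ : Subgroup G) t le_top
  rw [card_centralizer hpo (comm_two hpo) ht, Subgroup.card_top] at h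
  rw [h, part]
  congr 2
  ext v
  simp only [inv2, mem_filter, mem_univ, true_and, mem_image, mem_top]
  constructor
  · intro hv; exact isConj_two hpo hnc ht hv
  · rintro ⟨g, rfl⟩
    rw [← ht]
    exact ((SemiconjBy.conj_mk g t).orderOf_eq g).symm

theorem card_normalizer_two (hpo : PrimeOrders G) [IsSimpleGroup G] (hnc : ¬ IsMulCommutative G)
    {t : G} (ht : orderOf t = 2) :
    Nat.card ↥(normalizer (centralizer ({t} : Set G) : Set G)) = (part G 2 - 1) * part G 2 := by
  have : Fact (Nat.Prime 2) := ⟨Nat.prime_two⟩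
  have hS : Nat.card ↥(centralizer ({t} : Set G)) = part G 2 := card_centralizer hpo (comm_two hpo) ht
  set S := centralizer ({t} : Set G) with hSdef
  have h := Screen.FourCentralizer.card_eq_image_mul (normalizer (S : Set G)) t
    (hSdef ▸ le_normalizer)
  rw [← hSdef, hS] at h
  rw [h]
  congr 1
  have himg : (univ.filter (· ∈ normalizer (S : Set G))).image (fun k => k * t * k⁻¹) =
      (univ.filter (· ∈ S)).erase 1 := by
    ext v
    simp only [mem_image, mem_filter, mem_univ, true_and, mem_erase]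
    constructor
    · rintro ⟨k, hk, rfl⟩
      refine ⟨fun h => ne_one_of_orderOf Nat.prime_two ht (conj_eq_one_iff.1 h), ?_⟩
      exact (mem_normalizer_iff.1 hk t).1 (mem_centralizer_iff'.2 (Commute.refl t))
    · rintro ⟨hv1, hv⟩
      have hv2 : orderOf v = 2 := (orderOf_of_mem_centralizer hpo Nat.prime_two ht hv).resolve_left hv1
      obtain ⟨k, hk⟩ := isConj_two hpo hnc ht hv2
      refine ⟨k, ?_, hk⟩
      have hCv : centralizer ({v} : Set G) = S := centralizer_eq_of_mem hpo (comm_two hpo) ht hv hv1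
      rw [mem_normalizer_iff]
      intro n
      constructor
      · intro hn
        rw [← hCv, ← hk]
        exact mem_centralizer_iff'.2 ((mem_centralizer_iff'.1 hn).map (MulAut.conj k))
      · intro hn
        rw [← hCv, ← hk] at hn
        have := (mem_centralizer_iff'.1 hn).map (MulAut.conj k).symm
        simp only [MulAut.conj_symm_apply] at this
        refine mem_centralizer_iff'.2 ?_
        convert this using 1 <;> group
  rw [himg, card_erase_of_mem (by simp [S.one_mem])]
  rw [← hS, Nat.card_eq_fintype_card, Fintype.card_subtype]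

theorem part_two_ne_two (hpo : PrimeOrders G) [IsSimpleGroup G] (hnc : ¬ IsMulCommutative G)
    {t : G} (ht : orderOf t = 2) : part G 2 ≠ 2 := by
  intro hq
  have : Fact (Nat.Prime 2) := ⟨Nat.prime_two⟩
  obtain ⟨P, hP⟩ := exists_sylow_eq hpo (comm_two hpo) ht
  have hN := card_normalizer_two hpo hnc ht
  rw [hq, ← hP] at hN
  have hS : Nat.card (P : Subgroup G) = 2 := by rw [Sylow.card_eq_multiplicity]; exact hq
  have hNP : normalizer ((P : Subgroup G) : Set G) = (P : Subgroup G) :=
    (eq_of_le_of_card_ge le_normalizer (by rw [hN, hS])).symm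
  have hle : normalizer ((P : Subgroup G) : Set G) ≤ centralizer ((P : Subgroup G) : Set G) := by
    rw [hNP, hP]
    intro a ha
    rw [mem_centralizer_iff]
    intro b hb
    exact (comm_two hpo t ht b hb a ha).eq
  have hK := MonoidHom.ker_transferSylow_isComplement' P hle
  have hmul := hK.card_mul
  rcases (MonoidHom.normal_ker (MonoidHom.transferSylow P hle)).eq_bot_or_eq_top with h | h
  · rw [h, card_bot, one_mul, hS] at hmul
    refine hnc ?_
    have : IsCyclic G := isCyclic_of_prime_card hmul.symm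
    infer_instance
  · rw [h, card_top, hS] at hmul
    have := Nat.card_pos (α := G)
    omega

end Two

theorem two_pow_sub_one_prime_pow {s a b : ℕ} (hs : 2 ≤ s) (hb : 1 ≤ b) (h : 2 ^ a = s ^ b + 1) :
    b = 1 := by
  have hpow : s ≤ s ^ b := Nat.le_self_pow (by omega) s
  have hsodd : Odd s := by
    rcases Nat.even_or_odd s with he | ho
    · have h1 : Even (2 ^ a) := by
        refine (Nat.even_pow' ?_).2 even_two
        rintro rfl
        rw [pow_zero] at h
        omega
      rw [h, Nat.even_add_one] at h1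
      exact absurd ((Nat.even_pow' (by omega)).2 he) h1
    · exact ho
  have ha : 2 ≤ a := by
    by_contra hc
    interval_cases a <;> simp at h <;> omega
  rcases Nat.even_or_odd b with ⟨k, hk⟩ | hbo
  · exfalso
    obtain ⟨j, hj⟩ := hsodd
    have h4 : 4 ∣ 2 ^ a := (show (4 : ℕ) = 2 ^ 2 from rfl) ▸ pow_dvd_pow 2 ha
    have : s ^ b % 4 = 1 := by
      rw [hk, ← two_mul, pow_mul, Nat.pow_mod]
      have : s ^ 2 % 4 = 1 := by rw [hj]; ring_nf; omega
      rw [this, one_pow]; norm_num
    omega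
  · obtain ⟨c, hc, hc'⟩ : ∃ c, c ≤ a ∧ s + 1 = 2 ^ c :=
      (Nat.dvd_prime_pow Nat.prime_two).1 (h ▸ by simpa using hbo.nat_add_dvd_pow_add_pow s 1)
    rcases hc.lt_or_eq with hlt | rfl
    · exfalso
      have hc1 : 1 ≤ c := by
        by_contra hc0
        interval_cases c
        simp at hc'
        omega
      have hsq : s ^ 2 % 2 ^ (c + 1) = 1 := by
        obtain ⟨d, rfl⟩ : ∃ d, c = d + 1 := ⟨c - 1, by omega⟩
        obtain ⟨e, he⟩ : ∃ e, 2 ^ (d + 1) = e + 2 :=
          ⟨2 ^ (d + 1) - 2, by have := Nat.pow_le_pow_right (show 2 ≥ 1 by norm_num) hc1; omega⟩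
        have hs' : s = e + 1 := by omega
        have h2 : 2 ^ (d + 1 + 1) = 2 * (e + 2) := by rw [pow_succ', he]
        obtain ⟨f, hf⟩ : 2 ∣ e := by
          have : 2 ∣ e + 2 := he ▸ dvd_pow_self 2 (by omega)
          omega
        rw [h2, hs', show (e + 1) ^ 2 = 1 + 2 * (e + 2) * f by rw [hf]; ring, Nat.add_mul_mod_self_left,
          Nat.mod_eq_of_lt (by omega)]
      have hsb : s ^ b % 2 ^ (c + 1) = s % 2 ^ (c + 1) := by
        obtain ⟨k, hk⟩ := hbo
        rw [hk, pow_succ, pow_mul, Nat.mul_mod, Nat.pow_mod, hsq, one_pow]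
        simp
      have hd : 2 ^ (c + 1) ∣ s ^ b + 1 := h ▸ pow_dvd_pow 2 hlt
      have : 2 ^ (c + 1) ∣ s + 1 := Nat.dvd_of_mod_eq_zero (by
        rw [Nat.add_mod, ← hsb, ← Nat.add_mod]; exact Nat.mod_eq_zero_of_dvd hd)
      rw [hc'] at this
      have := Nat.le_of_dvd (by positivity) this
      rw [pow_succ] at this
      have := Nat.two_pow_pos c
      omega
    · have : s ^ b = s ^ 1 := by rw [pow_one]; omega
      exact Nat.pow_right_injective hs this

section Odd

/-- `l` is a real order: all elements of order `l` are inverted by involutions. -/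
def IsRealOrder (G : Type*) [Group G] (l : ℕ) : Prop :=
  ∀ x : G, orderOf x = l → ∃ u : G, orderOf u = 2 ∧ u * x * u⁻¹ = x⁻¹

theorem ne_inv {x : G} {l : ℕ} (hl : l.Prime) (hl2 : l ≠ 2) (hx : orderOf x = l) : x ≠ x⁻¹ := by
  intro h
  refine hl2 ?_
  have : x * x = 1 := by rw [eq_inv_iff_mul_eq_one] at h; exact h
  have hd := orderOf_dvd_of_pow_eq_one (sq x ▸ this : x ^ 2 = 1)
  rw [hx] at hd
  exact (Nat.prime_dvd_prime_iff_eq hl Nat.prime_two).1 hd

theorem inverts_centralizer (hpo : PrimeOrders G) {x u : G} {l : ℕ} (hl : l.Prime) (hl2 : l ≠ 2)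
    (hx : orderOf x = l) (hu : orderOf u = 2)
    (hn : ∀ c ∈ centralizer ({x} : Set G), u * c * u⁻¹ ∈ centralizer ({x} : Set G)) :
    ∀ c ∈ centralizer ({x} : Set G), u * c * u⁻¹ = c⁻¹ := by
  refine Screen.FourCentralizer.inverts_of_fpf (sq_one hu) _ hn fun c hc hcu => ?_
  by_contra hc1
  have h1 := (orderOf_of_mem_centralizer hpo hl hx hc).resolve_left hc1
  have h2 := hpo.orderOf_eq (ne_one_of_orderOf Nat.prime_two hu) hc1 hcu.symm
  exact hl2 (by rw [← h1, h2, hu])

theorem normalizes_of_inverts {x u : G} (h : u * x * u⁻¹ = x⁻¹) :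
    ∀ c ∈ centralizer ({x} : Set G), u * c * u⁻¹ ∈ centralizer ({x} : Set G) := by
  intro c hc
  have := (mem_centralizer_iff'.1 hc).map (MulAut.conj u)
  simp only [MulAut.conj_apply, h] at this
  exact mem_centralizer_iff'.2 (by simpa using this.inv_left)

theorem comm_of_real (hpo : PrimeOrders G) {l : ℕ} (hl : l.Prime) (hl2 : l ≠ 2)
    (hr : IsRealOrder G l) : ∀ z : G, orderOf z = l → ∀ a ∈ centralizer ({z} : Set G),
      ∀ b ∈ centralizer ({z} : Set G), Commute a b := by
  intro z hz a ha b hb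
  obtain ⟨u, hu, huz⟩ := hr z hz
  have hinv := inverts_centralizer hpo hl hl2 hz hu (normalizes_of_inverts huz)
  have h := hinv _ (mul_mem (inv_mem ha) (inv_mem hb))
  have h2 : u * (a⁻¹ * b⁻¹) * u⁻¹ = (u * a⁻¹ * u⁻¹) * (u * b⁻¹ * u⁻¹) := by group
  rw [h2, hinv _ (inv_mem ha), hinv _ (inv_mem hb), mul_inv_rev, inv_inv, inv_inv] at h
  exact h

/-- The normalizer of a centralizer of a real element of order `l`. -/
theorem mem_normalizer_centralizer (hpo : PrimeOrders G) {x t g : G} {l : ℕ} (hl : l.Prime)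
    (hl2 : l ≠ 2) (hx : orderOf x = l) (ht : orderOf t = 2) (htx : t * x * t⁻¹ = x⁻¹)
    (hg : g ∈ normalizer (centralizer ({x} : Set G) : Set G)) :
    g ∈ centralizer ({x} : Set G) ∨ g * t ∈ centralizer ({x} : Set G) := by
  have hinvt := inverts_centralizer hpo hl hl2 hx ht (normalizes_of_inverts htx)
  set A := centralizer ({x} : Set G) with hA
  have hxA : x ∈ A := mem_centralizer_iff'.2 (Commute.refl x)
  have hnorm : ∀ {k : G}, k ∈ normalizer (A : Set G) → ∀ c ∈ A, k * c * k⁻¹ ∈ A :=
    fun hk c hc => (mem_normalizer_iff.1 hk c).1 hc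
  -- an element inverting `x` is outside, and its product with `t` is inside
  have hswap : ∀ {k : G}, k * x * k⁻¹ = x⁻¹ → k * t ∈ A := by
    intro k hk
    refine mem_centralizer_iff'.2 ?_
    have h1 : k * t * x * (k * t)⁻¹ = x := by
      rw [show k * t * x * (k * t)⁻¹ = k * (t * x * t⁻¹) * k⁻¹ by group, htx, ← conj_inv, hk,
        inv_inv]
    rw [mul_inv_eq_iff_eq_mul] at h1
    exact h1.symm
  by_cases hg1 : g = 1
  · exact Or.inl (hg1 ▸ A.one_mem)
  rcases (hpo g hg1).eq_two_or_odd' with hg2 | hgo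
  · exact Or.inr (hswap (inverts_centralizer hpo hl hl2 hx hg2 (hnorm hg) x hxA))
  left
  -- `g * t` and the action on `A`
  have htN : t ∈ normalizer (A : Set G) := by
    refine mem_normalizer_iff.2 fun n => ⟨fun hn => normalizes_of_inverts htx n hn, fun hn => ?_⟩
    have := normalizes_of_inverts htx _ hn
    rwa [show t * (t * n * t⁻¹) * t⁻¹ = (t * t) * n * (t * t)⁻¹ by group, sq_one ht, one_mul,
      inv_one, mul_one] at this
  have hgt : g * t ∈ normalizer (A : Set G) := mul_mem hg htN
  have hgt1 : g * t ≠ 1 := by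
    intro h
    rw [mul_eq_one_iff_eq_inv, TwoGroups.inv_eq_of_sq_one (sq_one ht)] at h
    rw [h, ht] at hgo
    exact absurd hgo (by decide)
  rcases (hpo _ hgt1).eq_two_or_odd' with h2 | ho
  · have h3 := hswap (inverts_centralizer hpo hl hl2 hx h2 (hnorm hgt) x hxA)
    rwa [mul_assoc, sq_one ht, mul_one] at h3
  exfalso
  have key : ∀ k : ℕ, ∀ c ∈ A, (g * t) ^ k * c * ((g * t) ^ k)⁻¹ =
      g ^ k * (t ^ k * c * (t ^ k)⁻¹) * (g ^ k)⁻¹ := by
    intro k
    induction k with
    | zero => simp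
    | succ k ih =>
      intro c hc
      have htc : t * c * t⁻¹ ∈ A := normalizes_of_inverts htx c hc
      have hgc : g * (t * c * t⁻¹) * g⁻¹ ∈ A := hnorm hg _ htc
      have e1 : (g * t) ^ (k + 1) * c * ((g * t) ^ (k + 1))⁻¹ =
          (g * t) ^ k * (g * (t * c * t⁻¹) * g⁻¹) * ((g * t) ^ k)⁻¹ := by rw [pow_succ]; group
      rw [e1, ih _ hgc, pow_succ g, pow_succ t]
      have e2 : t ^ k * (g * (t * c * t⁻¹) * g⁻¹) * (t ^ k)⁻¹ =
          g * (t ^ k * (t * c * t⁻¹) * (t ^ k)⁻¹) * g⁻¹ := by
        rcases Nat.even_or_odd k with ⟨j, rfl⟩ | ⟨j, rfl⟩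
        · have : t ^ (j + j) = 1 := by rw [pow_add, ← (Commute.refl t).mul_pow, sq_one ht, one_pow]
          rw [this]; group
        · have : t ^ (2 * j + 1) = t := by
            rw [pow_succ, pow_mul, sq, sq_one ht, one_pow, one_mul]
          rw [this, hinvt _ hgc, hinvt _ htc]
          group
      rw [e2]
      group
  obtain ⟨j, hj⟩ := ho
  have hk := key (orderOf (g * t)) x hxA
  rw [pow_orderOf_eq_one, hj, pow_succ t, pow_mul t, sq t, sq_one ht, one_pow, one_mul, one_mul,
    inv_one, mul_one, htx] at hk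
  set h := g ^ (2 * j + 1) with hh
  have hinvx : h * x * h⁻¹ = x⁻¹ := by
    rw [← conj_inv] at hk
    calc h * x * h⁻¹ = (h * x * h⁻¹)⁻¹⁻¹ := (inv_inv _).symm
      _ = x⁻¹ := congrArg (·⁻¹) hk.symm
  have hsq : Commute x (h ^ 2) := by
    have : h ^ 2 * x * (h ^ 2)⁻¹ = x := by
      rw [show h ^ 2 * x * (h ^ 2)⁻¹ = h * (h * x * h⁻¹) * h⁻¹ by rw [sq]; group, hinvx, ← conj_inv,
        hinvx, inv_inv]
    rw [mul_inv_eq_iff_eq_mul] at this
    exact this.symm
  have hord : Odd (orderOf h) := by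
    rcases Nat.even_or_odd (orderOf h) with he | ho
    · exact absurd (even_iff_two_dvd.1 (even_iff_two_dvd.2
        ((even_iff_two_dvd.1 he).trans (orderOf_pow_dvd (x := g) (2 * j + 1)))) )
        (fun h2 => Nat.not_even_iff_odd.2 hgo (even_iff_two_dvd.2 h2))
    · exact ho
  obtain ⟨i, hi⟩ := hord
  have hhx : Commute x h := by
    have := hsq.pow_right (i + 1)
    rwa [← pow_mul, show 2 * (i + 1) = orderOf h + 1 by omega, pow_succ, pow_orderOf_eq_one,
      one_mul] at this
  refine ne_inv hl hl2 hx ?_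
  rw [← hinvx, ← hhx.eq, mul_inv_cancel_right]

theorem card_normalizer_centralizer (hpo : PrimeOrders G) {x t : G} {l : ℕ} (hl : l.Prime)
    (hl2 : l ≠ 2) (hx : orderOf x = l) (ht : orderOf t = 2) (htx : t * x * t⁻¹ = x⁻¹) :
    Nat.card ↥(normalizer (centralizer ({x} : Set G) : Set G)) =
      2 * Nat.card ↥(centralizer ({x} : Set G)) := by
  set A := centralizer ({x} : Set G) with hA
  have htt := sq_one ht
  have heq : univ.filter (· ∈ normalizer (A : Set G)) =
      univ.filter (· ∈ A) ∪ (univ.filter (· ∈ A)).image (· * t) := by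
    ext g
    simp only [mem_filter, mem_univ, true_and, mem_union, mem_image]
    constructor
    · intro hg
      rcases mem_normalizer_centralizer hpo hl hl2 hx ht htx hg with h | h
      · exact Or.inl h
      · exact Or.inr ⟨g * t, h, by rw [mul_assoc, htt, mul_one]⟩
    · rintro (h | ⟨a, ha, rfl⟩)
      · exact le_normalizer h
      · refine mul_mem (le_normalizer ha) (mem_normalizer_iff.2 fun n =>
          ⟨fun hn => normalizes_of_inverts htx n hn, fun hn => ?_⟩)
        have := normalizes_of_inverts htx _ hn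
        rwa [show t * (t * n * t⁻¹) * t⁻¹ = (t * t) * n * (t * t)⁻¹ by group, htt, one_mul,
          inv_one, mul_one] at this
  have hdisj : Disjoint (univ.filter (· ∈ A)) ((univ.filter (· ∈ A)).image (· * t)) := by
    rw [Finset.disjoint_left]
    intro g hg hg'
    simp only [mem_filter, mem_univ, true_and, mem_image] at hg hg'
    obtain ⟨a, ha, rfl⟩ := hg'
    have htA : t ∈ A := by simpa using mul_mem (inv_mem ha) hg
    refine hl2 ?_
    rw [← (orderOf_of_mem_centralizer hpo hl hx htA).resolve_left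
      (ne_one_of_orderOf Nat.prime_two ht), ht]
  rw [Nat.card_eq_fintype_card, Fintype.card_subtype, heq, card_union_of_disjoint hdisj,
    card_image_of_injective _ (mul_left_injective t), Nat.card_eq_fintype_card,
    Fintype.card_subtype, two_mul]

/-- The elements of order `l`. -/
noncomputable def ofOrder (G : Type*) [Group G] [Fintype G] (l : ℕ) : Finset G :=
  univ.filter fun g : G => orderOf g = l

theorem card_ofOrder_mul (hpo : PrimeOrders G) {l : ℕ} (hl : l.Prime)
    (hl2 : l ≠ 2) (hr : IsRealOrder G l) {x : G} (hx : orderOf x = l) :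
    (ofOrder G l).card * (2 * part G l) = Nat.card G * (part G l - 1) := by
  have : Fact l.Prime := ⟨hl⟩
  have hcomm := comm_of_real hpo hl hl2 hr
  have hcard : ∀ P : Sylow l G, Nat.card (P : Subgroup G) = part G l := fun P =>
    Sylow.card_eq_multiplicity P
  have hCP : ∀ (P : Sylow l G), ∀ y ∈ (P : Subgroup G), y ≠ 1 → orderOf y = l ∧
      (P : Subgroup G) = centralizer ({y} : Set G) := by
    intro P y hy hy1
    have hyl : orderOf y = l := by
      obtain ⟨k, hk⟩ := (IsPGroup.iff_orderOf (p := l)).1 P.2 ⟨y, hy⟩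
      rw [Subgroup.orderOf_mk] at hk
      rcases Nat.eq_zero_or_pos k with rfl | hk0
      · exact absurd (orderOf_eq_one_iff.1 hk) hy1
      · exact ((Nat.prime_dvd_prime_iff_eq hl (hpo y hy1)).1
          (hk ▸ dvd_pow_self l hk0.ne')).symm
    refine ⟨hyl, ?_⟩
    obtain ⟨Q, hQ⟩ := exists_sylow_eq hpo hcomm hyl
    have hPab : ∀ a ∈ (P : Subgroup G), ∀ b ∈ (P : Subgroup G), Commute a b := by
      obtain ⟨g, hg⟩ := MulAction.exists_smul_eq G Q P
      intro a ha b hb
      rw [← hg, Sylow.smul_def, Sylow.pointwise_smul_def, mem_pointwise_smul_iff_inv_smul_mem,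
        hQ] at ha hb
      have := hcomm y hyl _ ha _ hb
      have h2 := this.map (MulAut.conj g)
      simp only [← map_inv, MulAut.smul_def, MulAut.apply_inv_self] at h2
      simpa [mul_assoc] using h2
    refine eq_of_le_of_card_ge (fun a ha => mem_centralizer_iff'.2 (hPab y hy a ha)) ?_
    rw [← hQ, hcard, hcard]
  let f : (Σ P : Sylow l G, {y : (P : Subgroup G) // y ≠ 1}) → {y : G // orderOf y = l} :=
    fun s => ⟨s.2.1, (hCP s.1 s.2.1 s.2.1.2 (fun h => s.2.2 (Subtype.ext h))).1⟩
  have hf : Function.Bijective f := by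
    constructor
    · rintro ⟨P, ⟨a, ha⟩, ha1⟩ ⟨Q, ⟨b, hb⟩, hb1⟩ h
      have hab : a = b := congrArg Subtype.val h
      subst hab
      have hne : a ≠ 1 := fun h => ha1 (Subtype.ext h)
      have hPQ : P = Q := Sylow.ext ((hCP P a ha hne).2.trans (hCP Q a hb hne).2.symm)
      subst hPQ
      rfl
    · rintro ⟨y, hy⟩
      obtain ⟨P, hP⟩ := exists_sylow_eq hpo hcomm hy
      have hyP : y ∈ (P : Subgroup G) := hP ▸ mem_centralizer_iff'.2 (Commute.refl y)
      exact ⟨⟨P, ⟨y, hyP⟩, fun h => ne_one_of_orderOf hl hy (congrArg Subtype.val h)⟩, rfl⟩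
  obtain ⟨P₀, hP₀⟩ := exists_sylow_eq hpo hcomm hx
  obtain ⟨t, ht, htx⟩ := hr x hx
  have hL : (ofOrder G l).card = Nat.card (Sylow l G) * (part G l - 1) := by
    rw [ofOrder, ← Fintype.card_subtype, ← Nat.card_eq_fintype_card,
      ← Nat.card_eq_of_bijective f hf, Nat.card_eq_fintype_card, Fintype.card_sigma,
      Finset.sum_congr rfl (fun P _ => ?_), Finset.sum_const, Finset.card_univ, smul_eq_mul,
      Nat.card_eq_fintype_card]
    rw [Fintype.card_subtype_compl, Fintype.card_subtype_eq, ← Nat.card_eq_fintype_card, hcard]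
  have hn : Nat.card (Sylow l G) * (2 * part G l) = Nat.card G := by
    rw [Sylow.card_eq_index_normalizer P₀, ← Sylow.coe_coe, hP₀, part,
      ← card_centralizer hpo hcomm hx, ← card_normalizer_centralizer hpo hl hl2 hx ht htx,
      index_mul_card]
  rw [hL, ← hn]
  ring

/-- The elements of order `l` inverted by `u`. -/
noncomputable def invBy (G : Type*) [Group G] [Fintype G] (l : ℕ) (u : G) : Finset G :=
  univ.filter fun w : G => orderOf w = l ∧ u * w * u⁻¹ = w⁻¹

theorem card_invBy_conj (l : ℕ) (g u : G) :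
    (invBy G l (g * u * g⁻¹)).card = (invBy G l u).card := by
  symm
  refine card_bij' (fun w _ => g * w * g⁻¹) (fun w _ => g⁻¹ * w * g) ?_ ?_ ?_ ?_
  · intro w hw
    simp only [invBy, mem_filter, mem_univ, true_and] at hw ⊢
    refine ⟨((SemiconjBy.conj_mk g w).orderOf_eq g).symm.trans hw.1, ?_⟩
    rw [show g * u * g⁻¹ * (g * w * g⁻¹) * (g * u * g⁻¹)⁻¹ = g * (u * w * u⁻¹) * g⁻¹ by group,
      hw.2, conj_inv]
  · intro w hw
    simp only [invBy, mem_filter, mem_univ, true_and] at hw ⊢
    refine ⟨((SemiconjBy.conj_mk g⁻¹ w).orderOf_eq g⁻¹).symm.trans hw.1 |> fun h => ?_, ?_⟩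
    · simpa using h
    · calc u * (g⁻¹ * w * g) * u⁻¹ = g⁻¹ * (g * u * g⁻¹ * w * (g * u * g⁻¹)⁻¹) * g := by group
        _ = (g⁻¹ * w * g)⁻¹ := by rw [hw.2]; group
  · intro w _; group
  · intro w _; group

theorem real_of_invBy (haut : ∀ x y : G, orderOf x = orderOf y → ∃ φ : MulAut G, φ x = y)
    {l : ℕ} {u : G} (hu : orderOf u = 2) (h : (invBy G l u).Nonempty) : IsRealOrder G l := by
  obtain ⟨w, hw⟩ := h
  simp only [invBy, mem_filter, mem_univ, true_and] at hw
  intro x hx
  obtain ⟨φ, hφ⟩ := haut w x (hw.1.trans hx.symm)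
  refine ⟨φ u, by rw [MulEquiv.orderOf_eq, hu], ?_⟩
  rw [← hφ, ← map_inv φ u, ← map_mul, ← map_mul, hw.2, map_inv]

theorem card_inverting (hpo : PrimeOrders G) {x : G} {l : ℕ} (hl : l.Prime) (hl2 : l ≠ 2)
    (hr : IsRealOrder G l) (hx : orderOf x = l) :
    ((inv2 G).filter fun u => u * x * u⁻¹ = x⁻¹).card = part G l := by
  have : Fact l.Prime := ⟨hl⟩
  obtain ⟨t, ht, htx⟩ := hr x hx
  have htt := sq_one ht
  set A := centralizer ({x} : Set G) with hA
  have hxA : x ∈ A := mem_centralizer_iff'.2 (Commute.refl x)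
  have hinvt := inverts_centralizer hpo hl hl2 hx ht (normalizes_of_inverts htx)
  have : (inv2 G).filter (fun u => u * x * u⁻¹ = x⁻¹) =
      (univ.filter (· ∈ A)).image (· * t) := by
    ext u
    simp only [inv2, mem_filter, mem_univ, true_and, mem_image]
    constructor
    · rintro ⟨-, hux⟩
      refine ⟨u * t, mem_centralizer_iff'.2 ?_, by rw [mul_assoc, htt, mul_one]⟩
      have h1 : u * t * x * (u * t)⁻¹ = x := by
        rw [show u * t * x * (u * t)⁻¹ = u * (t * x * t⁻¹) * u⁻¹ by group, htx, ← conj_inv, hux,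
          inv_inv]
      rw [mul_inv_eq_iff_eq_mul] at h1
      exact h1.symm
    · rintro ⟨a, ha, rfl⟩
      have hne : a * t ≠ 1 := by
        intro h
        rw [mul_eq_one_iff_eq_inv, TwoGroups.inv_eq_of_sq_one htt] at h
        exact hl2 (by rw [← (orderOf_of_mem_centralizer hpo hl hx (h ▸ ha)).resolve_left
          (ne_one_of_orderOf Nat.prime_two ht), ht])
      refine ⟨orderOf_eq_prime ?_ hne, ?_⟩
      · rw [sq, show a * t * (a * t) = a * (t * a * t⁻¹) * (t * t) by group, hinvt a ha, htt]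
        group
      · rw [show a * t * x * (a * t)⁻¹ = a * (t * x * t⁻¹) * a⁻¹ by group, htx,
          (mem_centralizer_iff'.1 ha).inv_left.symm.eq, mul_inv_cancel_right]
  rw [this, card_image_of_injective _ (mul_left_injective t)]
  rw [part, ← card_centralizer hpo (comm_of_real hpo hl hl2 hr) hx, Nat.card_eq_fintype_card,
    Fintype.card_subtype]

/-- For each odd order `l`: either not real or an exact count. -/
theorem count_order (hpo : PrimeOrders G) [IsSimpleGroup G] (hnc : ¬ IsMulCommutative G)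
    (haut : ∀ x y : G, orderOf x = orderOf y → ∃ φ : MulAut G, φ x = y)
    {l : ℕ} (hl : l.Prime) (hl2 : l ≠ 2) {x t : G} (hx : orderOf x = l) (ht : orderOf t = 2) :
    (invBy G l t).card = 0 ∨ 2 * (invBy G l t).card = part G 2 * (part G l - 1) := by
  by_cases h0 : (invBy G l t).Nonempty
  swap
  · exact Or.inl (by rw [Finset.not_nonempty_iff_eq_empty.1 h0, card_empty])
  right
  have hr := real_of_invBy haut ht h0
  have hdouble := Finset.sum_card_bipartiteAbove_eq_sum_card_bipartiteBelow
    (s := inv2 G) (t := ofOrder G l) (fun u w : G => u * w * u⁻¹ = w⁻¹)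
  have e1 : ∀ u ∈ inv2 G, ((ofOrder G l).bipartiteAbove (fun u w : G => u * w * u⁻¹ = w⁻¹) u).card =
      (invBy G l t).card := by
    intro u hu
    obtain ⟨g, hg⟩ := isConj_two hpo hnc ht (mem_filter.1 hu).2
    rw [← card_invBy_conj l g t, hg]
    simp only [Finset.bipartiteAbove, ofOrder, invBy, Finset.filter_filter]
  have e2 : ∀ w ∈ ofOrder G l, ((inv2 G).bipartiteBelow (fun u w : G => u * w * u⁻¹ = w⁻¹) w).card =
      part G l := by
    intro w hw
    exact card_inverting hpo hl hl2 hr (mem_filter.1 hw).2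
  rw [Finset.sum_congr rfl e1, Finset.sum_congr rfl e2, sum_const, sum_const, smul_eq_mul,
    smul_eq_mul] at hdouble
  have hL := card_ofOrder_mul hpo hl hl2 hr hx
  have hi := card_inv2 hpo hnc ht
  have hpos : 0 < (inv2 G).card := Finset.card_pos.2 ⟨t, by simp [inv2, ht]⟩
  refine Nat.eq_of_mul_eq_mul_left hpos ?_
  calc (inv2 G).card * (2 * (invBy G l t).card)
      = (ofOrder G l).card * (2 * part G l) := by rw [mul_left_comm, hdouble]; ring
    _ = (inv2 G).card * (part G 2 * (part G l - 1)) := by rw [hL, ← hi]; ring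

theorem card_inv2_eq (hpo : PrimeOrders G) {p r : ℕ} (hp : p.Prime) (hr : r.Prime) (hp2 : p ≠ 2) (hr2 : r ≠ 2) (hpr : p ≠ r)
    (hord : ∀ g : G, g = 1 ∨ orderOf g = 2 ∨ orderOf g = p ∨ orderOf g = r)
    {t : G} (ht : orderOf t = 2) :
    (inv2 G).card = part G 2 - 1 + (invBy G p t).card + (invBy G r t).card := by
  have : Fact (Nat.Prime 2) := ⟨Nat.prime_two⟩
  have htt := sq_one ht
  have hti := TwoGroups.inv_eq_of_sq_one htt
  set W := univ.filter fun w : G => t * w * t⁻¹ = w⁻¹ ∧ w ≠ t with hW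
  have hIW : (inv2 G).card = W.card := by
    refine card_bij' (fun v _ => t * v) (fun w _ => t * w) ?_ ?_ ?_ ?_
    · intro v hv
      simp only [inv2, mem_filter, mem_univ, true_and] at hv
      simp only [hW, mem_filter, mem_univ, true_and]
      refine ⟨?_, fun h => ?_⟩
      · rw [mul_inv_rev, TwoGroups.inv_eq_of_sq_one (sq_one hv), hti, ← mul_assoc, htt, one_mul]
      · rw [mul_eq_left] at h; exact ne_one_of_orderOf Nat.prime_two hv h
    · intro w hw
      simp only [hW, mem_filter, mem_univ, true_and] at hw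
      simp only [inv2, mem_filter, mem_univ, true_and]
      refine orderOf_eq_prime ?_ (fun h => hw.2 ?_)
      · rw [sq, show t * w * (t * w) = t * w * t⁻¹ * (t * t) * w by group, hw.1, htt, mul_one,
          inv_mul_cancel]
      · rw [mul_eq_one_iff_inv_eq, hti] at h; exact h.symm
    · intro v _; rw [← mul_assoc, htt, one_mul]
    · intro v _; rw [← mul_assoc, htt, one_mul]
  have hsplit : W = ((univ.filter (· ∈ centralizer ({t} : Set G))).erase t) ∪ invBy G p t ∪
      invBy G r t := by
    ext w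
    simp only [hW, invBy, mem_filter, mem_univ, true_and, mem_union, mem_erase]
    constructor
    · rintro ⟨hinv, hne⟩
      rcases hord w with h | h | h | h
      · exact Or.inl (Or.inl ⟨hne, h ▸ one_mem _⟩)
      · refine Or.inl (Or.inl ⟨hne, mem_centralizer_iff'.2 ?_⟩)
        rw [TwoGroups.inv_eq_of_sq_one (sq_one h), mul_inv_eq_iff_eq_mul] at hinv
        exact hinv
      · exact Or.inl (Or.inr ⟨h, hinv⟩)
      · exact Or.inr ⟨h, hinv⟩
    · rintro ((⟨hne, hc⟩ | ⟨h, hinv⟩) | ⟨h, hinv⟩)
      · refine ⟨?_, hne⟩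
        rw [TwoGroups.inv_eq_of_sq_one (sq_of_mem hpo ht hc), (mem_centralizer_iff'.1 hc).eq,
          mul_inv_cancel_right]
      · exact ⟨hinv, fun e => hp2 (by rw [← h, e, ht])⟩
      · exact ⟨hinv, fun e => hr2 (by rw [← h, e, ht])⟩
  have hd1 : Disjoint ((univ.filter (· ∈ centralizer ({t} : Set G))).erase t) (invBy G p t) := by
    rw [Finset.disjoint_left]
    intro w hw hw'
    simp only [mem_erase, mem_filter, mem_univ, true_and, invBy] at hw hw'
    rcases orderOf_of_mem_centralizer hpo Nat.prime_two ht hw.2 with h | h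
    · rw [h, orderOf_one] at hw'; exact hp.ne_one hw'.1.symm
    · exact hp2 (hw'.1.symm.trans h)
  have hd2 : Disjoint (((univ.filter (· ∈ centralizer ({t} : Set G))).erase t) ∪ invBy G p t)
      (invBy G r t) := by
    rw [Finset.disjoint_left]
    intro w hw hw'
    simp only [mem_union, mem_erase, mem_filter, mem_univ, true_and, invBy] at hw hw'
    rcases hw with hw | hw
    · rcases orderOf_of_mem_centralizer hpo Nat.prime_two ht hw.2 with h | h
      · rw [h, orderOf_one] at hw'; exact hr.ne_one hw'.1.symm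
      · exact hr2 (hw'.1.symm.trans h)
    · exact hpr (hw.1.symm.trans hw'.1)
  rw [hIW, hsplit, card_union_of_disjoint hd2, card_union_of_disjoint hd1,
    card_erase_of_mem (by simp [mem_centralizer_iff'.2 (Commute.refl t)]), part,
    ← card_centralizer hpo (comm_two hpo) ht, Nat.card_eq_fintype_card, Fintype.card_subtype]

end Odd

theorem three_pow_two_pow {a c : ℕ} (ha : 3 ≤ a) (h : 2 ^ a + 1 = 3 ^ c) : a = 3 := by
  rcases Nat.even_or_odd c with ⟨d, rfl⟩ | ⟨d, rfl⟩
  · have h1 : 1 ≤ 3 ^ d := Nat.one_le_pow _ _ (by norm_num)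
    obtain ⟨e, he⟩ : ∃ e, 3 ^ d = e + 1 := ⟨3 ^ d - 1, by omega⟩
    have hmul : e * (e + 2) = 2 ^ a := by
      have : 3 ^ (d + d) = (e + 1) * (e + 1) := by rw [pow_add, he]
      rw [this] at h
      nlinarith
    obtain ⟨i, -, hi⟩ := (Nat.dvd_prime_pow Nat.prime_two).1 ⟨e + 2, hmul.symm⟩
    obtain ⟨j, -, hj⟩ := (Nat.dvd_prime_pow Nat.prime_two).1 (Dvd.intro_left e hmul)
    -- two powers of two at distance two
    have hie : i = 1 := by
      rcases Nat.lt_or_ge i 2 with h2 | h2
      · interval_cases i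
        · simp at hi; subst hi
          rcases j with _ | _ | j <;> simp [pow_succ] at hj <;> omega
        · rfl
      · exfalso
        have h4 : 4 ∣ 2 ^ i := (show (4 : ℕ) = 2 ^ 2 from rfl) ▸ pow_dvd_pow 2 h2
        have hj2 : 2 ≤ j := by
          by_contra hc
          have := Nat.two_pow_pos i
          interval_cases j <;> simp at hj <;> omega
        have h4' : 4 ∣ 2 ^ j := (show (4 : ℕ) = 2 ^ 2 from rfl) ▸ pow_dvd_pow 2 hj2
        omega
    rw [hie, pow_one] at hi
    subst hi
    have : 2 ^ a = 2 ^ 3 := by rw [← hmul]; norm_num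
    exact Nat.pow_right_injective le_rfl this
  · exfalso
    have h4 : 4 ∣ 2 ^ a := (show (4 : ℕ) = 2 ^ 2 from rfl) ▸ pow_dvd_pow 2 (by omega)
    have : 3 ^ (2 * d + 1) % 4 = 3 := by
      rw [pow_succ, pow_mul, Nat.mul_mod, Nat.pow_mod]
      norm_num
    generalize 3 ^ (2 * d + 1) = v at *
    generalize 2 ^ a = u at *
    omega

/-- The arithmetic of the count. -/
theorem arith {q X Y i a b p r m n : ℕ} (hq : 4 ≤ q) (hp : q = p + 1) (hpp : p.Prime)
    (hr : r.Prime) (hX : X = p ^ m) (hm : 1 ≤ m) (hY : Y = r ^ n) (hn : 1 ≤ n)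
    (hi : i = X * Y) (hcount : i = q - 1 + a + b)
    (ha : a = 0 ∨ 2 * a = q * (X - 1)) (hb : b = 0 ∨ 2 * b = q * (Y - 1)) :
    X = q - 1 ∧ Y = q + 1 := by
  have hXp : p ≤ X := hX ▸ Nat.le_self_pow (by omega) p
  have hY2 : 2 ≤ Y := hY ▸ le_trans hr.two_le (Nat.le_self_pow (by omega) r)
  obtain ⟨X', rfl⟩ : ∃ X', X = X' + 1 := ⟨X - 1, by omega⟩
  obtain ⟨Y', rfl⟩ : ∃ Y', Y = Y' + 1 := ⟨Y - 1, by omega⟩
  simp only [Nat.add_sub_cancel] at ha hb
  subst hi
  rw [hp, Nat.add_sub_cancel] at hcount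
  subst hp
  rcases ha with ha | ha <;> rcases hb with hb | hb
  · exfalso; subst ha hb; nlinarith
  · exfalso
    subst ha
    have h2 : 2 * ((X' + 1) * (Y' + 1)) = 2 * p + (p + 1) * Y' := by omega
    nlinarith
  · exfalso
    subst hb
    have h2 : 2 * ((X' + 1) * (Y' + 1)) = 2 * p + (p + 1) * X' := by omega
    rcases Nat.lt_or_ge (p + 1) (2 * (Y' + 1)) with h | h <;> nlinarith
  · have h2 : 2 * ((X' + 1) * (Y' + 1)) = 2 * p + (p + 1) * X' + (p + 1) * Y' := by omega
    have hXeq : X' + 1 = p := by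
      rcases Nat.lt_or_ge m 2 with hm2 | hm2
      · rw [show m = 1 by omega, pow_one] at hX; exact hX
      · exfalso
        have hsq : p * p ≤ X' + 1 := by
          rw [hX, ← sq]; exact Nat.pow_le_pow_right hpp.pos hm2
        rcases Nat.lt_or_ge (p + 1) (2 * (Y' + 1)) with h | h <;> nlinarith
    subst hXeq
    constructor
    · omega
    · nlinarith

theorem card_eq_parts (hpo : PrimeOrders G) {p r : ℕ} (hp : p.Prime) (hr : r.Prime) (hp2 : p ≠ 2)
    (hr2 : r ≠ 2) (hpr : p ≠ r)
    (hord : ∀ g : G, g = 1 ∨ orderOf g = 2 ∨ orderOf g = p ∨ orderOf g = r) :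
    Nat.card G = part G 2 * part G p * part G r := by
  have hsub : (Nat.card G).primeFactors ⊆ {2, p, r} := by
    intro s hs
    rw [Nat.mem_primeFactors] at hs
    have : Fact s.Prime := ⟨hs.1⟩
    obtain ⟨g, hg⟩ := exists_prime_orderOf_dvd_card' (G := G) s hs.2.1
    rcases hord g with h | h | h | h
    · rw [h, orderOf_one] at hg; exact absurd hg.symm hs.1.ne_one
    all_goals simp [← hg, h]
  conv_lhs => rw [← Nat.factorization_prod_pow_eq_self (Nat.card_pos (α := G)).ne']
  rw [Finsupp.prod_of_support_subset _ (Nat.support_factorization _ ▸ hsub) _ (by simp),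
    Finset.prod_insert (by simp [hp2.symm, hr2.symm]), Finset.prod_insert (by simp [hpr]),
    Finset.prod_singleton, ← mul_assoc]
  rfl

theorem card_ne_504 [IsSimpleGroup G] (hpo : PrimeOrders G) : Nat.card G ≠ 504 := by
  intro h
  have : Fact (Nat.Prime 2) := ⟨Nat.prime_two⟩
  let F := GaloisField 2 3
  have : Fintype F := Fintype.ofFinite F
  have hF : Fintype.card F = 8 := by
    rw [← Nat.card_eq_fintype_card, GaloisField.card 2 3 (by norm_num)]; norm_num
  obtain ⟨e⟩ := S1011.result h hF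
  obtain ⟨x, hx⟩ := Linear.PSL2Classes.exists_torus_order (F := F) true
  obtain ⟨y, hy⟩ := Linear.PSL2Classes.exists_of_dvd_order (e.symm x) (m := 9) (by
    rw [MulEquiv.orderOf_eq]
    simpa [hF] using hx)
  have := hpo y (fun h1 => by rw [h1, orderOf_one] at hy; omega)
  rw [hy] at this
  norm_num at this

theorem primeFactors_normalizer_two (hpo : PrimeOrders G) [IsSimpleGroup G]
    (hnc : ¬ IsMulCommutative G) {p r : ℕ} (hp : p.Prime) (hr : r.Prime) (hp2 : p ≠ 2)
    (hr2 : r ≠ 2) (hpr : p ≠ r)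
    (hord : ∀ g : G, g = 1 ∨ orderOf g = 2 ∨ orderOf g = p ∨ orderOf g = r)
    {t : G} (ht : orderOf t = 2) :
    ∃ s b : ℕ, (s = p ∨ s = r) ∧ 1 ≤ b ∧ part G 2 = s ^ b + 1 := by
  have : Fact (Nat.Prime 2) := ⟨Nat.prime_two⟩
  have hS : Nat.card ↥(centralizer ({t} : Set G)) = part G 2 := card_centralizer hpo (comm_two hpo) ht
  have hN := card_normalizer_two hpo hnc ht
  set q := part G 2 with hq
  obtain ⟨a, ha⟩ : ∃ a, q = 2 ^ a := ⟨_, rfl⟩
  have ha2 : 2 ≤ a := by
    by_contra hc
    interval_cases a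
    · rw [pow_zero] at ha
      rw [ha, Subgroup.card_eq_one] at hS
      have := mem_centralizer_iff'.2 (Commute.refl t)
      rw [hS, mem_bot] at this
      exact ne_one_of_orderOf Nat.prime_two ht this
    · exact part_two_ne_two hpo hnc ht ha
  have hq4 : 4 ≤ q := ha ▸ Nat.pow_le_pow_right (show 2 > 0 by norm_num) ha2
  have hqodd : ¬ 2 ∣ q - 1 := by
    have : 2 ∣ q := ha ▸ dvd_pow_self 2 (by omega)
    omega
  set S := centralizer ({t} : Set G) with hSdef
  set N := normalizer (S : Set G) with hNdef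
  have hsubN : ∀ s ∈ (q - 1).primeFactors, s = p ∨ s = r := by
    intro s hs
    rw [Nat.mem_primeFactors] at hs
    have : Fact s.Prime := ⟨hs.1⟩
    obtain ⟨g, hg⟩ := exists_prime_orderOf_dvd_card' (G := N) s (hN ▸ hs.2.1.trans (dvd_mul_right _ _))
    rw [← orderOf_coe] at hg
    rcases hord (g : G) with h | h | h | h
    · rw [h, orderOf_one] at hg; exact absurd hg.symm hs.1.ne_one
    · exact absurd (hg.symm.trans h ▸ hs.2.1) hqodd
    · exact Or.inl (hg.symm.trans h)
    · exact Or.inr (hg.symm.trans h)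
  -- not both primes
  have hnot : ¬ (p ∈ (q - 1).primeFactors ∧ r ∈ (q - 1).primeFactors) := by
    rintro ⟨hpm, hrm⟩
    have hSN : S ≤ N := le_normalizer
    let S' : Subgroup N := S.subgroupOf N
    have : S'.Normal := normal_in_normalizer
    have hSsol : Group.IsSolvable S' := Group.isSolvable_of_comm fun a b => by
      have := comm_two hpo t ht _ a.2 _ b.2
      exact Subtype.ext (Subtype.ext this.eq)
    have hQsol : Group.IsSolvable (N ⧸ S') := by
      refine Core.isSolvable_of_primeFactors_card_le_two ?_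
      have hidx : Nat.card (N ⧸ S') = q - 1 := by
        have := S'.index_mul_card
        rw [Nat.card_congr (subgroupOfEquivOfLe hSN).toEquiv, hN, hS] at this
        exact Nat.eq_of_mul_eq_mul_right (by omega) this
      rw [hidx]
      calc (q - 1).primeFactors.card ≤ ({p, r} : Finset ℕ).card :=
            card_le_card fun s hs => by simpa using hsubN s hs
        _ ≤ 2 := card_le_two
    have : Group.IsSolvable N := Group.isSolvable_of_ker_le_range S'.subtype (QuotientGroup.mk' S')
      (by simp)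
    have happ : OddLocal.AllPrimePowerOrders N := fun g a b ha hb hag hbg =>
      hpo.allPrimePowerOrders (g : G) a b ha hb (by rwa [orderOf_coe]) (by rwa [orderOf_coe])
    have h2 := OddLocal.two_primes_of_allPrimePowerOrders _ happ le_rfl
    have h3 : ({2, p, r} : Finset ℕ) ⊆ (Nat.card N).primeFactors := by
      have hne : Nat.card N ≠ 0 := Nat.card_pos.ne'
      rw [Nat.mem_primeFactors] at hpm hrm
      intro s hs
      rw [Nat.mem_primeFactors]
      simp only [mem_insert, mem_singleton] at hs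
      rcases hs with rfl | rfl | rfl
      · exact ⟨Nat.prime_two, hN ▸ (ha ▸ dvd_pow_self 2 (by omega)).trans (dvd_mul_left _ _), hne⟩
      · exact ⟨hp, hN ▸ hpm.2.1.trans (dvd_mul_right _ _), hne⟩
      · exact ⟨hr, hN ▸ hrm.2.1.trans (dvd_mul_right _ _), hne⟩
    have h4 := (card_le_card h3).trans h2
    rw [card_insert_of_notMem (by simp [hp2.symm, hr2.symm]), card_pair hpr] at h4
    omega
  obtain ⟨s, hs, hsd⟩ := Nat.exists_prime_and_dvd (n := q - 1) (by omega)
  have hsm : s ∈ (q - 1).primeFactors := Nat.mem_primeFactors.2 ⟨hs, hsd, by omega⟩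
  have hall : ∀ {d : ℕ}, d.Prime → d ∣ q - 1 → d = s := fun {d} hd hdd => by
    have hdm : d ∈ (q - 1).primeFactors := Nat.mem_primeFactors.2 ⟨hd, hdd, by omega⟩
    by_contra hne
    rcases hsubN d hdm with rfl | rfl <;> rcases hsubN s hsm with rfl | rfl
    · exact hne rfl
    · exact hnot ⟨hdm, hsm⟩
    · exact hnot ⟨hsm, hdm⟩
    · exact hne rfl
  have hpow := Nat.eq_prime_pow_of_unique_prime_dvd (p := s) (show q - 1 ≠ 0 by omega) hall
  refine ⟨s, (q - 1).primeFactorsList.length, hsubN s hsm, ?_, by omega⟩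
  rcases Nat.eq_zero_or_pos (q - 1).primeFactorsList.length with h | h
  · rw [h, pow_zero] at hpow; omega
  · exact h

/-- The order is sixty, when the Sylow two-subgroup has `p + 1` elements. -/
theorem card_eq_sixty_aux (hpo : PrimeOrders G) [IsSimpleGroup G] (hnc : ¬ IsMulCommutative G)
    (haut : ∀ x y : G, orderOf x = orderOf y → ∃ φ : MulAut G, φ x = y)
    {p r : ℕ} (hp : p.Prime) (hr : r.Prime) (hp2 : p ≠ 2) (hr2 : r ≠ 2) (hpr : p ≠ r)
    (hord : ∀ g : G, g = 1 ∨ orderOf g = 2 ∨ orderOf g = p ∨ orderOf g = r)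
    {t x y : G} (ht : orderOf t = 2) (hx : orderOf x = p) (hy : orderOf y = r)
    (hq : part G 2 = p + 1) : Nat.card G = 60 := by
  have hdvd : ∀ {z : G} {l : ℕ}, l.Prime → orderOf z = l → 1 ≤ (Nat.card G).factorization l :=
    fun hl hz => hl.factorization_pos_of_dvd Nat.card_pos.ne' (hz ▸ orderOf_dvd_natCard _)
  obtain ⟨a, ha⟩ : ∃ a, part G 2 = 2 ^ a := ⟨_, rfl⟩
  have hq4 : 4 ≤ part G 2 := by
    have := hp.two_le
    omega
  have hG := card_eq_parts hpo hp hr hp2 hr2 hpr hord
  have hI := card_inv2 hpo hnc ht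
  have hi : (inv2 G).card = part G p * part G r := by
    refine Nat.eq_of_mul_eq_mul_right (show 0 < part G 2 by omega) ?_
    rw [hI, hG]; ring
  obtain ⟨hX, hY⟩ := arith (X := part G p) (Y := part G r) hq4 hq hp hr rfl (hdvd hp hx) rfl (hdvd hr hy) hi
    (card_inv2_eq hpo hp hr hp2 hr2 hpr hord ht)
    (count_order hpo hnc haut hp hp2 hx ht) (count_order hpo hnc haut hr hr2 hy ht)
  have ha2 : 2 ≤ a := by
    by_contra hc
    interval_cases a <;> simp at ha <;> omega
  rcases ha2.lt_or_eq with ha3 | rfl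
  swap
  · rw [hG, hX, hY, ha]; norm_num
  exfalso
  have hodd : Odd a := by
    rcases Nat.even_or_odd a with ⟨d, rfl⟩ | ho
    · exfalso
      obtain ⟨e, he⟩ : ∃ e, 2 ^ d = e + 1 := ⟨2 ^ d - 1, by have := Nat.two_pow_pos d; omega⟩
      have hd : 2 ≤ d := by omega
      have he4 : 4 ≤ 2 ^ d := Nat.pow_le_pow_right (show 2 > 0 by norm_num) hd
      have hpe : p = e * (e + 2) := by
        rw [pow_add, he] at ha
        rw [hq] at ha
        nlinarith
      rw [hpe] at hp
      exact Nat.not_prime_mul (by omega) (by omega) hp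
    · exact ho
  have h3 : 3 ∣ 2 ^ a + 1 := by simpa using hodd.nat_add_dvd_pow_add_pow 2 1
  have hr3 : r = 3 := by
    rw [← ha, ← hY] at h3
    exact ((Nat.prime_dvd_prime_iff_eq Nat.prime_three hr).1
      (Nat.prime_three.dvd_of_dvd_pow h3)).symm
  have hY' : 2 ^ a + 1 = 3 ^ (Nat.card G).factorization r := by
    rw [← ha, ← hY, part, hr3]
  have ha3' := three_pow_two_pow (by omega) hY'
  refine card_ne_504 hpo ?_
  rw [hG, hX, hY, ha, ha3']; norm_num

/-- A simple group with element orders two and two odd primes, elements of equal order conjugate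
under automorphisms, has order sixty. -/
theorem card_eq_sixty {G : Type*} [Group G] [Finite G] [IsSimpleGroup G]
    (hnc : ¬ IsMulCommutative G)
    (haut : ∀ x y : G, orderOf x = orderOf y → ∃ φ : MulAut G, φ x = y)
    {p r : ℕ} (hp : p.Prime) (hr : r.Prime) (hp2 : p ≠ 2) (hr2 : r ≠ 2) (hpr : p ≠ r)
    (hord : ∀ g : G, g = 1 ∨ orderOf g = 2 ∨ orderOf g = p ∨ orderOf g = r)
    {t x y : G} (ht : orderOf t = 2) (hx : orderOf x = p) (hy : orderOf y = r) :
    Nat.card G = 60 := by
  have : Fintype G := Fintype.ofFinite G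
  have hpo : PrimeOrders G := fun g hg => by
    rcases hord g with h | h | h | h
    · exact absurd h hg
    · rw [h]; exact Nat.prime_two
    · rw [h]; exact hp
    · rw [h]; exact hr
  obtain ⟨s, b, hs, hb, hq⟩ := primeFactors_normalizer_two hpo hnc hp hr hp2 hr2 hpr hord ht
  obtain rfl := two_pow_sub_one_prime_pow (s := s)
    (by rcases hs with rfl | rfl; exacts [hp.two_le, hr.two_le]) hb hq
  rw [pow_one] at hq
  rcases hs with rfl | rfl
  · exact card_eq_sixty_aux hpo hnc haut hp hr hp2 hr2 hpr hord ht hx hy hq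
  · exact card_eq_sixty_aux hpo hnc haut hr hp hr2 hp2 hpr.symm
      (fun g => by have := hord g; tauto) ht hy hx hq

end Cfsg.Agent.FGS2.PrimeOrdersSixty
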