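import Cfsg.Agent.FGS2.CentralExt

/-! The Schur multiplier of a finite group through Hopf's formula, and Schur covers.
`Univ Q = F/[R,F]` with `F` free on `Q`; `mult Q = (R ∩ [F,F])/[R,F]`. -/

namespace Cfsg.Agent.FGS2

open Subgroup
open scoped commutatorElement

noncomputable section

universe u v w

section defs

variable (Q : Type u) [Group Q]

/-- The kernel of the canonical presentation. -/
def presKer : Subgroup (FreeGroup Q) := (FreeGroup.lift (id : Q → Q)).ker

instance presKer_normal : (presKer Q).Normal := MonoidHom.normal_ker _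

/-- The relations `[R,F]`. -/
def univRel : Subgroup (FreeGroup Q) := ⁅presKer Q, (⊤ : Subgroup (FreeGroup Q))⁆

instance univRel_normal : (univRel Q).Normal := by unfold univRel; infer_instance

/-- The universal central extension `F/[R,F]` of `Q`. -/
abbrev Univ : Type u := FreeGroup Q ⧸ univRel Q

/-- The projection of the universal central extension. -/
def univProj : Univ Q →* Q :=
  QuotientGroup.lift (univRel Q) (FreeGroup.lift (id : Q → Q)) (commutator_le_left _ _)

/-- The Schur multiplier, as a subgroup of the universal central extension. -/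
def mult : Subgroup (Univ Q) := (univProj Q).ker ⊓ commutator (Univ Q)

theorem univProj_surjective : Function.Surjective (univProj Q) := fun q =>
  ⟨(FreeGroup.of q : FreeGroup Q), by
    show FreeGroup.lift id (FreeGroup.of q) = q
    simp⟩

theorem univProj_ker_central : (univProj Q).ker ≤ center (Univ Q) := by
  intro x hx
  obtain ⟨f, rfl⟩ := QuotientGroup.mk_surjective x
  have hf : f ∈ presKer Q := hx
  rw [mem_center_iff]
  intro y
  obtain ⟨g, rfl⟩ := QuotientGroup.mk_surjective y
  rw [← QuotientGroup.mk_mul, ← QuotientGroup.mk_mul, QuotientGroup.eq]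
  have := commutator_mem_commutator ((presKer Q).inv_mem hf) (mem_top g⁻¹)
  rw [commutatorElement_def] at this
  simpa [mul_assoc, univRel] using this

theorem mult_le_center : mult Q ≤ center (Univ Q) := inf_le_left.trans (univProj_ker_central Q)

instance mult_normal : (mult Q).Normal := ⟨fun n hn g => by
  rw [Subgroup.mem_center_iff.1 (mult_le_center Q hn) g]; simpa using hn⟩

instance mult_commutative : IsMulCommutative (mult Q) :=
  ⟨⟨fun a b => Subtype.ext (Subgroup.mem_center_iff.1 (mult_le_center Q b.2) a)⟩⟩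

/-- The Schur multiplier as a group. -/
abbrev Mult : Type u := ↥(mult Q)

instance ker_commutative : IsMulCommutative (univProj Q).ker :=
  ⟨⟨fun a b => Subtype.ext (Subgroup.mem_center_iff.1 (univProj_ker_central Q b.2) a)⟩⟩

instance finite_mult [Finite Q] : Finite (Mult Q) := by
  have := finite_commutator_of_finite_quotient (univProj Q) (univProj_ker_central Q)
  exact Finite.of_injective _ (Subgroup.inclusion_injective (inf_le_right : mult Q ≤ commutator (Univ Q)))

/-- The exponent sum map of the universal extension. -/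
def coordHom : Univ Q →* Multiplicative (Q →₀ ℤ) :=
  QuotientGroup.lift (univRel Q)
    (FreeGroup.lift fun q => Multiplicative.ofAdd (Finsupp.single q (1 : ℤ))) (by
      rw [univRel, commutator_le]
      intro a _ b _
      simp [MonoidHom.mem_ker, commutatorElement_def, mul_comm])

theorem coordHom_ker : (coordHom Q).ker = commutator (Univ Q) := by
  apply le_antisymm
  · let d : Multiplicative (Q →₀ ℤ) →* Abelianization (Univ Q) :=
      AddMonoidHom.toMultiplicativeLeft
        (Finsupp.liftAddHom fun q => zmultiplesHom _ (Additive.ofMul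
          (Abelianization.of ((FreeGroup.of q : FreeGroup Q) : Univ Q))))
    have h : d.comp (coordHom Q) = Abelianization.of := by
      apply QuotientGroup.monoidHom_ext
      ext q
      simp [d, coordHom, Finsupp.liftAddHom_apply]
    intro x hx
    rw [← Abelianization.ker_of, MonoidHom.mem_ker, ← h]
    rw [MonoidHom.mem_ker] at hx
    simp [hx]
  · exact Abelianization.commutator_subset_ker _

end defs

variable {Q : Type u} [Group Q]

theorem exists_lift {X : Type v} [Group X] (ξ : X →* Q) (hs : Function.Surjective ξ)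
    (hc : ξ.ker ≤ center X) : ∃ φ : Univ Q →* X, ξ.comp φ = univProj Q := by
  have hcomp : ξ.comp (FreeGroup.lift (Function.surjInv hs)) = FreeGroup.lift (id : Q → Q) := by
    ext q
    simp [Function.surjInv_eq hs]
  refine ⟨QuotientGroup.lift (univRel Q) (FreeGroup.lift (Function.surjInv hs)) ?_, ?_⟩
  · rw [univRel, commutator_le]
    intro a ha b _
    have : FreeGroup.lift (Function.surjInv hs) a ∈ ξ.ker := by
      rw [MonoidHom.mem_ker, ← MonoidHom.comp_apply, hcomp]; exact ha
    have := Subgroup.mem_center_iff.1 (hc this) (FreeGroup.lift (Function.surjInv hs) b)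
    simp [MonoidHom.mem_ker, commutatorElement_def, this.symm]
  · apply QuotientGroup.monoidHom_ext
    ext q
    show ξ (FreeGroup.lift (Function.surjInv hs) (FreeGroup.of q)) = FreeGroup.lift id (FreeGroup.of q)
    simp [Function.surjInv_eq hs]

theorem lift_mult_le {X : Type v} [Group X] (ξ : X →* Q) (φ : Univ Q →* X)
    (h : ξ.comp φ = univProj Q) : (mult Q).map φ ≤ ξ.ker ⊓ commutator X := by
  rintro _ ⟨m, hmm, rfl⟩
  obtain ⟨hm, hm'⟩ := Subgroup.mem_inf.1 hmm
  refine Subgroup.mem_inf.2 ⟨?_, ?_⟩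
  · rw [MonoidHom.mem_ker, ← MonoidHom.comp_apply, h]; exact hm
  · rw [_root_.commutator_def]
    have := Subgroup.mem_map_of_mem φ hm'
    rw [_root_.commutator_def, map_commutator] at this
    exact commutator_mono le_top le_top this

/-- A lift into a central extension carries the multiplier onto kernel ∩ commutator. -/
theorem lift_mult_eq {X : Type v} [Group X] (ξ : X →* Q) (hc : ξ.ker ≤ center X) (φ : Univ Q →* X)
    (h : ξ.comp φ = univProj Q) : (mult Q).map φ = ξ.ker ⊓ commutator X := by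
  refine le_antisymm (lift_mult_le ξ φ h) ?_
  intro z hzz
  obtain ⟨hz, hz'⟩ := Subgroup.mem_inf.1 hzz
  have hsup : φ.range ⊔ ξ.ker = ⊤ := by
    rw [← comap_map_eq, MonoidHom.map_range, h, MonoidHom.range_eq_top.2 (univProj_surjective Q),
      comap_top]
  have hd : commutator X ≤ (commutator (Univ Q)).map φ := by
    have h1 : ∀ x : X, ∃ a, ∃ c ∈ center X, φ a * c = x := fun x => by
      have hn : ξ.ker.Normal := MonoidHom.normal_ker _
      obtain ⟨a, ⟨a', rfl⟩, c, hc', rfl⟩ := Subgroup.mem_sup_of_normal_right.1 (hsup ▸ mem_top x)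
      exact ⟨a', c, hc hc', rfl⟩
    rw [commutator_eq_closure, closure_le]
    rintro _ ⟨x, y, rfl⟩
    obtain ⟨a, c, hc1, rfl⟩ := h1 x
    obtain ⟨b, d, hd1, rfl⟩ := h1 y
    refine ⟨⁅a, b⁆, commutator_mem_commutator (mem_top a) (mem_top b), ?_⟩
    rw [Subgroup.mem_center_iff] at hc1 hd1
    simp only [map_commutatorElement]
    simp only [commutatorElement_def, mul_inv_rev]
    symm
    calc φ a * c * (φ b * d) * (c⁻¹ * (φ a)⁻¹) * (d⁻¹ * (φ b)⁻¹)
        = φ a * (c * (φ b * d)) * (c⁻¹ * (φ a)⁻¹) * (d⁻¹ * (φ b)⁻¹) := by group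
      _ = φ a * ((φ b * d) * c) * (c⁻¹ * (φ a)⁻¹) * (d⁻¹ * (φ b)⁻¹) := by rw [hc1 (φ b * d)]
      _ = φ a * φ b * (d * (φ a)⁻¹) * (d⁻¹ * (φ b)⁻¹) := by group
      _ = φ a * φ b * ((φ a)⁻¹ * d) * (d⁻¹ * (φ b)⁻¹) := by rw [hd1 (φ a)⁻¹]
      _ = _ := by group
  obtain ⟨e, he, rfl⟩ := hd hz'
  refine ⟨e, Subgroup.mem_inf.2 ⟨?_, he⟩, rfl⟩
  rw [MonoidHom.mem_ker, ← h]
  exact hz

theorem lift_surjective_of_stem {X : Type v} [Group X] {σ : X →* Q} (hσ : Cfsg.IsStemExtension σ)
    {φ : Univ Q →* X} (h : σ.comp φ = univProj Q) : Function.Surjective φ :=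
  surjective_of_stem hσ (h ▸ univProj_surjective Q)

theorem lift_mult_stem {X : Type v} [Group X] {σ : X →* Q} (hσ : Cfsg.IsStemExtension σ)
    {φ : Univ Q →* X} (h : σ.comp φ = univProj Q) : (mult Q).map φ = σ.ker := by
  rw [lift_mult_eq σ hσ.2.1 φ h, inf_eq_left.2 hσ.2.2]

/-- The map from the multiplier onto the kernel of a stem extension. -/
theorem exists_mult_surj {X : Type v} [Group X] {σ : X →* Q} (hσ : Cfsg.IsStemExtension σ) :
    ∃ π : Mult Q →* σ.ker, Function.Surjective π := by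
  obtain ⟨φ, hφ⟩ := exists_lift σ hσ.1 hσ.2.1
  have hm : ∀ m : Mult Q, φ m ∈ σ.ker := fun m =>
    (lift_mult_stem hσ hφ) ▸ Subgroup.mem_map_of_mem φ m.2
  refine ⟨(φ.comp (mult Q).subtype).codRestrict σ.ker hm, fun z => ?_⟩
  obtain ⟨m, hm', hmz⟩ : (z : X) ∈ (mult Q).map φ := (lift_mult_stem hσ hφ).symm ▸ z.2
  exact ⟨⟨m, hm'⟩, Subtype.ext hmz⟩

variable [Finite Q]

/-- Complements of the multiplier in the kernel, inside the kernel of a given map. -/
theorem exists_complement {X : Type v} [Group X] (ψ : Univ Q →* X)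
    (hψ : (univProj Q).ker.map ψ ≤ (mult Q).map ψ) :
    ∃ S : Subgroup (Univ Q), S ⊓ mult Q = ⊥ ∧ S ⊔ mult Q = (univProj Q).ker ∧ S ≤ ψ.ker := by
  classical
  have := Fintype.ofFinite Q
  open IsMulCommutative in
  let g : Additive (univProj Q).ker →+ (Q →₀ ℤ) :=
    MonoidHom.toAdditiveLeft ((coordHom Q).comp (univProj Q).ker.subtype)
  open IsMulCommutative in
  let gl : Additive (univProj Q).ker →ₗ[ℤ] (Q →₀ ℤ) := g.toIntLinearMap
  let b := Module.Free.chooseBasis ℤ (LinearMap.range gl)
  have hlift : ∀ i, ∃ k : Additive (univProj Q).ker,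
      gl k = (b i : Q →₀ ℤ) ∧ ψ (Additive.toMul k : (univProj Q).ker) = 1 := fun i => by
    obtain ⟨k, hk⟩ := (b i).2
    obtain ⟨m, hm, hmk⟩ := hψ (Subgroup.mem_map_of_mem ψ (Additive.toMul k : (univProj Q).ker).2)
    refine ⟨k + Additive.ofMul ((⟨m, hm.1⟩ : (univProj Q).ker)⁻¹), ?_, ?_⟩
    · have h0 : gl (Additive.ofMul ((⟨m, hm.1⟩ : (univProj Q).ker)⁻¹)) = 0 := by
        show (coordHom Q ((⟨m, hm.1⟩ : (univProj Q).ker)⁻¹ : (univProj Q).ker)).toAdd = 0
        have : coordHom Q m = 1 := by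
          rw [← MonoidHom.mem_ker, coordHom_ker]; exact hm.2
        simp [this]
      rw [map_add, hk, h0, add_zero]
    · show ψ (((Additive.toMul k : (univProj Q).ker) : Univ Q) * m⁻¹) = 1
      simp [hmk]
  choose k hk hkψ using hlift
  open IsMulCommutative in
  let s : LinearMap.range gl →ₗ[ℤ] Additive (univProj Q).ker := b.constr ℤ k
  have hgs : ∀ l, gl (s l) = (l : Q →₀ ℤ) := by
    intro l
    have : gl.comp s = (LinearMap.range gl).subtype := b.ext fun i => by simp [s, hk]
    exact LinearMap.congr_fun this l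
  let s' : Multiplicative (LinearMap.range gl) →* Univ Q :=
    (univProj Q).ker.subtype.comp (AddMonoidHom.toMultiplicativeLeft s.toAddMonoidHom)
  have hs'c : ∀ l, coordHom Q (s' (Multiplicative.ofAdd l)) = Multiplicative.ofAdd (l : Q →₀ ℤ) :=
    fun l => congrArg Multiplicative.ofAdd (hgs l)
  refine ⟨s'.range, ?_, le_antisymm (sup_le ?_ inf_le_left) ?_, ?_⟩
  · rw [eq_bot_iff]
    intro x hxx
    obtain ⟨⟨l, rfl⟩, hxm⟩ := Subgroup.mem_inf.1 hxx
    obtain ⟨-, hx⟩ := Subgroup.mem_inf.1 hxm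
    obtain ⟨l, rfl⟩ := Multiplicative.ofAdd.surjective l
    rw [← coordHom_ker, MonoidHom.mem_ker, hs'c] at hx
    have : l = 0 := Subtype.ext (Multiplicative.ofAdd.injective hx)
    simp [this]
  · rintro _ ⟨l, rfl⟩
    exact (Additive.toMul (s l.toAdd) : (univProj Q).ker).2
  · intro x hx
    let l : LinearMap.range gl := ⟨gl (Additive.ofMul ⟨x, hx⟩), LinearMap.mem_range_self _ _⟩
    have h1 : s' (Multiplicative.ofAdd l) ∈ (univProj Q).ker := (Additive.toMul (s l) : (univProj Q).ker).2
    have h2 : (s' (Multiplicative.ofAdd l))⁻¹ * x ∈ mult Q := by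
      refine ⟨(univProj Q).ker.mul_mem ((univProj Q).ker.inv_mem h1) hx, ?_⟩
      show (s' (Multiplicative.ofAdd l))⁻¹ * x ∈ commutator (Univ Q)
      rw [← coordHom_ker, MonoidHom.mem_ker, map_mul, map_inv, hs'c,
        inv_mul_eq_one]
      rfl
    have h3 : s' (Multiplicative.ofAdd l) ∈ s'.range := ⟨_, rfl⟩
    simpa using Subgroup.mul_mem_sup h3 h2
  · rintro _ ⟨l, rfl⟩
    obtain ⟨l, rfl⟩ := Multiplicative.ofAdd.surjective l
    open IsMulCommutative in
    let ψk : Additive (univProj Q).ker →+ Additive X :=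
      MonoidHom.toAdditive (ψ.comp (univProj Q).ker.subtype)
    let P : Submodule ℤ (LinearMap.range gl) :=
      AddSubgroup.toIntSubmodule ((ψk.comp s.toAddMonoidHom).ker)
    have : ∀ i, b i ∈ P := fun i => by
      show ψk (s (b i)) = 0
      simp only [s, Module.Basis.constr_basis]
      exact congrArg Additive.ofMul (hkψ i)
    have hl : l ∈ P := by
      have hspan : Submodule.span ℤ (Set.range b) ≤ P := by
        rw [Submodule.span_le]; rintro _ ⟨i, rfl⟩; exact this i
      exact hspan (b.span_eq ▸ Submodule.mem_top)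
    exact congrArg Additive.toMul (show ψk (s l) = 0 from hl)

/-- The quotient by a complement of the multiplier is a cover. -/
theorem cover_of_complement (S : Subgroup (Univ Q)) [S.Normal] (h1 : S ⊓ mult Q = ⊥)
    (h2 : S ⊔ mult Q = (univProj Q).ker) :
    ∃ σ : Univ Q ⧸ S →* Q, σ.comp (QuotientGroup.mk' S) = univProj Q ∧ Cfsg.IsStemExtension σ ∧
      Nonempty (σ.ker ≃* Mult Q) ∧ Finite (Univ Q ⧸ S) := by
  let σ := QuotientGroup.lift S (univProj Q) (h2 ▸ le_sup_left)
  have hker : σ.ker = (mult Q).map (QuotientGroup.mk' S) := by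
    rw [QuotientGroup.ker_lift, ← h2, Subgroup.map_sup, QuotientGroup.map_mk'_self, bot_sup_eq]
  have hst : Cfsg.IsStemExtension σ := by
    refine ⟨?_, ?_, ?_⟩
    · intro q
      obtain ⟨e, rfl⟩ := univProj_surjective Q q
      exact ⟨(e : Univ Q ⧸ S), rfl⟩
    · rw [hker]
      rintro _ ⟨m, hm, rfl⟩
      rw [Subgroup.mem_center_iff]
      intro y
      obtain ⟨y, rfl⟩ := QuotientGroup.mk'_surjective S y
      rw [← map_mul, ← map_mul, Subgroup.mem_center_iff.1 (mult_le_center Q hm) y]
    · rw [hker]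
      refine (Subgroup.map_mono inf_le_right).trans ?_
      rw [_root_.commutator_def, map_commutator]
      exact commutator_mono le_top le_top
  have hinj : Function.Injective ((QuotientGroup.mk' S).subgroupMap (mult Q)) := by
    rw [injective_iff_map_eq_one]
    intro m hm
    have : QuotientGroup.mk' S (m : Univ Q) = 1 := congrArg Subtype.val hm
    rw [← MonoidHom.mem_ker, QuotientGroup.ker_mk'] at this
    have : (m : Univ Q) ∈ S ⊓ mult Q := Subgroup.mem_inf.2 ⟨this, m.2⟩
    rw [h1, Subgroup.mem_bot] at this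
    exact Subtype.ext this
  let e : Mult Q ≃* σ.ker :=
    (MulEquiv.ofBijective _ ⟨hinj, MonoidHom.subgroupMap_surjective _ _⟩).trans
      (MulEquiv.subgroupCongr hker.symm)
  refine ⟨σ, rfl, hst, ⟨e.symm⟩, ?_⟩
  have : Finite σ.ker := Finite.of_equiv _ e.toEquiv
  have : Finite ((Univ Q ⧸ S) ⧸ σ.ker) :=
    Finite.of_equiv _ (QuotientGroup.quotientKerEquivOfSurjective σ hst.1).toEquiv.symm
  exact Finite.of_equiv (((Univ Q ⧸ S) ⧸ σ.ker) × σ.ker) Subgroup.groupEquivQuotientProdSubgroup.symm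

theorem normal_of_le_ker {S : Subgroup (Univ Q)} (h : S ≤ (univProj Q).ker) : S.Normal :=
  ⟨fun n hn g => by
    rw [Subgroup.mem_center_iff.1 (univProj_ker_central Q (h hn)) g]; simpa using hn⟩

/-- Schur covers exist. -/
theorem exists_cover :
    ∃ (Γ : Type u) (_ : Group Γ) (_ : Finite Γ) (σ : Γ →* Q),
      Cfsg.IsStemExtension σ ∧ Nonempty (σ.ker ≃* Mult Q) := by
  obtain ⟨S, h1, h2, -⟩ := exists_complement (1 : Univ Q →* Multiplicative ℤ) (by
    rintro _ ⟨x, -, rfl⟩; simp)
  have := normal_of_le_ker (h2 ▸ le_sup_left : S ≤ _)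
  obtain ⟨σ, -, hσ, he, hf⟩ := cover_of_complement S h1 h2
  exact ⟨_, _, hf, σ, hσ, he⟩

theorem mulEquiv_of_surj {A : Type v} {B : Type w} [Group A] [Group B] [Finite A] [Finite B]
    (f : A →* B) (g : B →* A) (hf : Function.Surjective f) (hg : Function.Surjective g) :
    Nonempty (A ≃* B) :=
  ⟨MulEquiv.ofBijective f ((Nat.bijective_iff_surjective_and_card f).2
    ⟨hf, le_antisymm (Nat.card_le_card_of_surjective g hg) (Nat.card_le_card_of_surjective f hf)⟩)⟩

/-- `HasSchurMultiplier` says exactly that `A` is the multiplier. -/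
theorem hasSchurMultiplier_iff {A : Type v} [CommGroup A] :
    Cfsg.HasSchurMultiplier Q A ↔ Nonempty (A ≃* Mult Q) := by
  constructor
  · rintro ⟨⟨Γ, _, _, σ, hσ, ⟨e⟩⟩, h⟩
    have : Finite A := Finite.of_equiv _ e.toEquiv
    obtain ⟨p, hp⟩ := exists_mult_surj hσ
    obtain ⟨Δ, _, _, τ, hτ, ⟨e'⟩⟩ := exists_cover (Q := Q)
    obtain ⟨r, hr⟩ := h Δ τ hτ
    exact mulEquiv_of_surj (e'.toMonoidHom.comp r) (e.toMonoidHom.comp p)
      (e'.surjective.comp hr) (e.surjective.comp hp)
  · rintro ⟨e⟩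
    obtain ⟨Δ, _, hΔ, τ, hτ, ⟨e'⟩⟩ := exists_cover (Q := Q)
    refine ⟨⟨Δ, _, hΔ, τ, hτ, ⟨e'.trans e.symm⟩⟩, fun Γ _ _ σ hσ => ?_⟩
    obtain ⟨p, hp⟩ := exists_mult_surj hσ
    exact ⟨p.comp e.toMonoidHom, hp.comp e.surjective⟩

theorem card_mult_of_has {A : Type v} [CommGroup A] (h : Cfsg.HasSchurMultiplier Q A) :
    Nat.card (Mult Q) = Nat.card A :=
  ((hasSchurMultiplier_iff.1 h).map fun e => Nat.card_congr e.toEquiv.symm).elim id

theorem hasCyclicSchurMultiplier_one_iff :
    Cfsg.HasCyclicSchurMultiplier Q 1 ↔ mult Q = ⊥ := by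
  rw [Cfsg.HasCyclicSchurMultiplier, hasSchurMultiplier_iff]
  constructor
  · rintro ⟨e⟩
    have : Subsingleton (Mult Q) := e.symm.toEquiv.subsingleton
    exact (Subgroup.eq_bot_iff_forall _).2 fun x hx =>
      congrArg Subtype.val (Subsingleton.elim (⟨x, hx⟩ : Mult Q) 1)
  · intro h
    have hu : Unique (Multiplicative (ZMod 1)) := { default := 1, uniq := fun a => Subsingleton.elim _ _ }
    have : Subsingleton (Mult Q) := ⟨fun a b => by
      have ha : (a : Univ Q) ∈ (⊥ : Subgroup _) := h ▸ a.2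
      have hb : (b : Univ Q) ∈ (⊥ : Subgroup _) := h ▸ b.2
      exact Subtype.ext (by rw [Subgroup.mem_bot.1 ha, Subgroup.mem_bot.1 hb])⟩
    have : Unique (Mult Q) := { default := 1, uniq := fun a => Subsingleton.elim _ _ }
    exact ⟨{ Equiv.ofUnique (Multiplicative (ZMod 1)) (Mult Q) with
      map_mul' := fun _ _ => Subsingleton.elim _ _ }⟩

end

end Cfsg.Agent.FGS2
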