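import Cfsg.Agent.FGS2.SchurTools

/-! Powers of multiplier elements by the index of a subgroup; quotients as subgroups. -/

namespace Cfsg.Agent.FGS2

open Subgroup
open scoped commutatorElement

universe u v

/-- A quotient of a finite abelian group is isomorphic to a subgroup of it. -/
theorem exists_subgroup_equiv_of_surj {B C : Type*} [CommGroup B] [Finite B] [CommGroup C]
    (f : B →* C) (hf : Function.Surjective f) : ∃ D : Subgroup B, Nonempty (C ≃* D) := by
  have : Finite C := Finite.of_surjective f hf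
  obtain ⟨eB⟩ := CommGroup.monoidHom_mulEquiv_of_hasEnoughRootsOfUnity B ℂ
  obtain ⟨eC⟩ := CommGroup.monoidHom_mulEquiv_of_hasEnoughRootsOfUnity C ℂ
  let F : C →* B := eB.toMonoidHom.comp
    ((MonoidHom.mk' (fun φ : C →* ℂˣ => φ.comp f) (fun _ _ => rfl)).comp eC.symm.toMonoidHom)
  have hF : Function.Injective F := fun a b h => by
    apply eC.symm.injective
    have h' : (eC.symm a).comp f = (eC.symm b).comp f := eB.injective h
    exact (MonoidHom.cancel_right hf).1 h'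
  exact ⟨F.range, ⟨MonoidHom.ofInjective hF⟩⟩

theorem pow_index_mem_commutator {Γ : Type v} [Group Γ] (H : Subgroup Γ) [H.FiniteIndex] {z : Γ}
    (hz : z ∈ center Γ) (hd : z ∈ commutator Γ) : ∃ h : z ^ H.index ∈ H, (⟨_, h⟩ : H) ∈ commutator H := by
  have key : ∀ (k : ℕ) (g₀ : Γ), g₀⁻¹ * z ^ k * g₀ ∈ H → g₀⁻¹ * z ^ k * g₀ = z ^ k := fun k g₀ _ => by
    rw [mul_assoc, ← mem_center_iff.1 (pow_mem hz k) g₀, inv_mul_cancel_left]
  have h1 := MonoidHom.transfer_eq_pow (Abelianization.of (G := H)) z key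
  have h2 : MonoidHom.transfer (Abelianization.of (G := H)) z = 1 :=
    Abelianization.commutator_subset_ker _ hd
  refine ⟨MonoidHom.transfer_eq_pow_aux z key, ?_⟩
  rw [← Abelianization.ker_of, MonoidHom.mem_ker, ← h1, h2]

theorem pow_index_le_of_stem {Q : Type u} [Group Q] [Finite Q] {Γ : Type v} [Group Γ] [Finite Γ]
    {σ : Γ →* Q} (hσ : Cfsg.IsStemExtension σ) (U : Subgroup Q) :
    ∃ θ : Mult U →* Γ, ∀ z ∈ σ.ker, z ^ U.index ∈ θ.range := by
  let H := U.comap σ
  let τ : H →* U := (σ.comp H.subtype).codRestrict U (fun x => x.2)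
  have hs : Function.Surjective τ := fun u => by
    obtain ⟨x, hx⟩ := hσ.1 u
    exact ⟨⟨x, show σ x ∈ U from hx ▸ u.2⟩, Subtype.ext hx⟩
  have hmem : ∀ x : H, x ∈ τ.ker ↔ (x : Γ) ∈ σ.ker := fun x =>
    ⟨fun h => congrArg Subtype.val h, fun h => Subtype.ext h⟩
  have hc : τ.ker ≤ center H := fun x hx => mem_center_iff.2 fun y =>
    Subtype.ext (mem_center_iff.1 (hσ.2.1 ((hmem x).1 hx)) y)
  obtain ⟨ψ, hψ⟩ := exists_lift τ hs hc
  have hidx : H.index = U.index := U.index_comap_of_surjective hσ.1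
  refine ⟨H.subtype.comp (ψ.comp (mult U).subtype), fun z hz => ?_⟩
  obtain ⟨hH, hcomm⟩ := pow_index_mem_commutator H (hσ.2.1 hz) (hσ.2.2 hz)
  have hk : (⟨z ^ H.index, hH⟩ : H) ∈ τ.ker ⊓ commutator H :=
    Subgroup.mem_inf.2 ⟨(hmem _).2 (pow_mem hz _), hcomm⟩
  rw [← lift_mult_eq τ hc ψ hψ] at hk
  obtain ⟨m, hm, hmz⟩ := hk
  exact ⟨⟨m, hm⟩, by rw [← hidx]; exact congrArg Subtype.val hmz⟩

/-- Powers of the multiplier by the index embed in the multiplier of a subgroup. -/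
theorem pow_index_range_embeds {Q : Type u} [Group Q] [Finite Q] (U : Subgroup Q) {A : Type v}
    [CommGroup A] (hA : Cfsg.HasSchurMultiplier Q A) {B : Type*} [CommGroup B]
    (hB : Cfsg.HasSchurMultiplier U B) :
    ∃ C : Subgroup B, Nonempty ((powMonoidHom U.index : A →* A).range ≃* C) := by
  obtain ⟨⟨Γ, _, _, σ, hσ, ⟨e⟩⟩, -⟩ := hA
  obtain ⟨eB⟩ := hasSchurMultiplier_iff.1 hB
  have : Finite B := Finite.of_equiv _ eB.toEquiv.symm
  obtain ⟨θ, hθ⟩ := pow_index_le_of_stem hσ U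
  let P := (powMonoidHom U.index : A →* A).range
  let g : P →* Γ := σ.ker.subtype.comp (e.symm.toMonoidHom.comp P.subtype)
  have hg : Function.Injective g :=
    σ.ker.subtype_injective.comp (e.symm.injective.comp P.subtype_injective)
  have hgr : g.range ≤ θ.range := by
    rintro _ ⟨⟨_, ⟨a, rfl⟩⟩, rfl⟩
    have : g ⟨a ^ U.index, ⟨a, rfl⟩⟩ = (e.symm a : Γ) ^ U.index := by
      simp [g]
    rw [show g ⟨(powMonoidHom U.index : A →* A) a, ⟨a, rfl⟩⟩ = g ⟨a ^ U.index, ⟨a, rfl⟩⟩ from rfl, this]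
    exact hθ _ (e.symm a).2
  let Θ : B →* Γ := θ.comp eB.toMonoidHom
  let D : Subgroup B := g.range.comap Θ
  let j := MulEquiv.ofBijective g.rangeRestrict
    ⟨g.rangeRestrict_injective_iff.2 hg, g.rangeRestrict_surjective⟩
  let f : D →* P := j.symm.toMonoidHom.comp ((Θ.comp D.subtype).codRestrict g.range (fun x => x.2))
  have hf : Function.Surjective f := by
    refine j.symm.surjective.comp fun y => ?_
    obtain ⟨m, hm⟩ := hgr y.2
    obtain ⟨b, rfl⟩ := eB.surjective m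
    exact ⟨⟨b, show Θ b ∈ g.range from hm ▸ y.2⟩, Subtype.ext hm⟩
  obtain ⟨E, ⟨i⟩⟩ := exists_subgroup_equiv_of_surj f hf
  exact ⟨E.map D.subtype, ⟨i.trans (Subgroup.equivMapOfInjective E D.subtype D.subtype_injective)⟩⟩

end Cfsg.Agent.FGS2
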