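import Mathlib.GroupTheory.Sylow
import Mathlib.GroupTheory.GroupAction.SubMulAction
import Mathlib.GroupTheory.SpecificGroups.Cyclic
import Mathlib.Algebra.Group.Pointwise.Finset.Scalar
import Mathlib.Algebra.Group.Action.Pointwise.Finset

/-! Wielandt's counting of subgroups of prime power order. -/

set_option autoImplicit false

namespace Cfsg.Agent.FGS2

open scoped Pointwise
open Subgroup

/-- An invariant set all of whose orbits have size divisible by `m` has size divisible by `m`. -/
theorem dvd_ncard_of_orbits {G X : Type*} [Group G] [MulAction G X] [Finite X] {m : ℕ} (A : Set X)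
    (hA : ∀ (g : G), ∀ x ∈ A, g • x ∈ A) (h : ∀ x ∈ A, m ∣ Nat.card (MulAction.orbit G x)) :
    m ∣ Nat.card A := by
  classical
  let S : SubMulAction G X := { carrier := A, smul_mem' := fun g x hx => hA g x hx }
  have : Fintype (MulAction.orbitRel.Quotient G S) := Fintype.ofFinite _
  change m ∣ Nat.card S
  rw [Nat.card_congr (MulAction.selfEquivSigmaOrbits G S), Nat.card_sigma]
  refine Finset.dvd_sum fun q _ => ?_
  have e := SubMulAction.val_image_orbit (p := S) q.out
  rw [← Nat.card_image_of_injective Subtype.val_injective (MulAction.orbit G q.out), e]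
  exact h _ q.out.2

variable {G : Type*} [Group G] [Finite G]

theorem card_stabilizer_dvd [DecidableEq G] (S : Finset G) :
    Nat.card (MulAction.stabilizer G S) ∣ S.card := by
  set H := MulAction.stabilizer G S with hH
  rw [← Nat.card_eq_finsetCard]
  refine dvd_ncard_of_orbits (G := H) (X := G) (↑S : Set G) (fun h x hx => ?_) (fun x _ => ?_)
  · have h1 := Finset.smul_mem_smul_finset (a := (h : G)) hx
    rwa [MulAction.mem_stabilizer_iff.1 h.2] at h1
  · rw [Nat.card_congr (MulAction.orbitEquivQuotientStabilizer H x), ← index_eq_card]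
    have : MulAction.stabilizer H x = ⊥ := by
      ext h
      rw [MulAction.mem_stabilizer_iff, mem_bot, Subgroup.smul_def, smul_eq_mul, mul_eq_right]
      exact ⟨fun h => Subtype.ext h, fun h => congrArg Subtype.val h⟩
    rw [this, index_bot]

theorem count_aux (p β k : ℕ) (hp : p.Prime) (hn : Nat.card G = p ^ β * k) :
    ∃ a, (Nat.card G).choose (p ^ β) =
      Nat.card {H : Subgroup G // Nat.card H = p ^ β} * k + k * p * a := by
  classical
  have : Fintype G := Fintype.ofFinite G
  let X : Finset (Finset G) := Finset.univ.powersetCard (p ^ β)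
  have hX : ∀ S : Finset G, S ∈ X ↔ S.card = p ^ β := fun S => by simp [X, Finset.mem_powersetCard]
  let A : Set (Finset G) := {S | S.card = p ^ β ∧ Nat.card (MulAction.stabilizer G S) = p ^ β}
  let B : Set (Finset G) := {S | S.card = p ^ β ∧ ¬ Nat.card (MulAction.stabilizer G S) = p ^ β}
  have htot : (Nat.card G).choose (p ^ β) = Nat.card A + Nat.card B := by
    have h1 : Nat.card X = Nat.card A + Nat.card B := by
      rw [Nat.card_eq_finsetCard, ← Finset.card_filter_add_card_filter_not
        (fun S => Nat.card (MulAction.stabilizer G S) = p ^ β)]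
      congr 1 <;> rw [← Nat.card_eq_finsetCard] <;>
        exact Nat.card_congr (Equiv.subtypeEquivRight fun S => by simp [A, B, hX])
    rw [← h1, Nat.card_eq_finsetCard, Finset.card_powersetCard, Finset.card_univ,
      Nat.card_eq_fintype_card]
  have hpb : 0 < p ^ β := pow_pos hp.pos β
  have hA : Nat.card A = Nat.card {H : Subgroup G // Nat.card H = p ^ β} * k := by
    let co : Subgroup G → G → Finset G := fun H s => Finset.univ.filter fun x => x * s⁻¹ ∈ H
    have hco : ∀ (H : Subgroup G) (s : G), (co H s).card = Nat.card H := fun H s => by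
      rw [← Nat.card_eq_finsetCard]
      exact Nat.card_congr
        ⟨fun x => ⟨x.1 * s⁻¹, (Finset.mem_filter.1 x.2).2⟩, fun h => ⟨h.1 * s, by simp [co]⟩,
          fun x => Subtype.ext (by simp), fun h => Subtype.ext (by simp)⟩
    have hst : ∀ (H : Subgroup G) (s : G), MulAction.stabilizer G (co H s) = H := fun H s => by
      ext g
      rw [MulAction.mem_stabilizer_iff]
      constructor
      · intro hg
        have h1 : g * s ∈ g • co H s := Finset.smul_mem_smul_finset (by simp [co])
        rw [hg] at h1
        simpa [co] using h1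
      · intro hg
        ext x
        rw [← Finset.inv_smul_mem_iff]
        simp only [co, Finset.mem_filter, Finset.mem_univ, true_and, smul_eq_mul, mul_assoc]
        exact H.mul_mem_cancel_left (inv_mem hg)
    let Φ : {H : Subgroup G // Nat.card H = p ^ β} × G → Σ S : A, (S.1 : Finset G) := fun q =>
      ⟨⟨co q.1.1 q.2, by rw [hco, q.1.2], by rw [hst, q.1.2]⟩, ⟨q.2, by simp [co]⟩⟩
    have hinj : Function.Injective Φ := by
      intro q r hqr
      have h1 : co q.1.1 q.2 = co r.1.1 r.2 := congrArg (fun z => z.1.1) hqr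
      have h2 : q.2 = r.2 := congrArg (fun z => (z.2 : G)) hqr
      refine Prod.ext (Subtype.ext ?_) h2
      rw [← hst q.1.1 q.2, h1, hst]
    have hsurj : Function.Surjective Φ := by
      rintro ⟨⟨S, hS, hS'⟩, s, hs⟩
      refine ⟨⟨⟨MulAction.stabilizer G S, hS'⟩, s⟩, ?_⟩
      have he : co (MulAction.stabilizer G S) s = S := by
        refine Finset.eq_of_subset_of_card_le (fun x hx => ?_) (by rw [hco, hS', hS])
        simp only [co, Finset.mem_filter, Finset.mem_univ, true_and, MulAction.mem_stabilizer_iff] at hx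
        have h1 := Finset.smul_mem_smul_finset (a := x * s⁻¹) hs
        rwa [hx, smul_eq_mul, inv_mul_cancel_right] at h1
      simp only [Φ]
      congr 1
      · exact Subtype.ext he
      · rw [Subtype.heq_iff_coe_eq]
        intro x; rw [he]
    have h2 := Nat.card_congr (Equiv.ofBijective Φ ⟨hinj, hsurj⟩)
    rw [Nat.card_prod, Nat.card_sigma, hn] at h2
    have h3 : ∀ S : A, Nat.card (S.1 : Finset G) = p ^ β := fun S => by
      rw [Nat.card_eq_finsetCard]; exact S.2.1
    rw [Finset.sum_congr rfl (fun S _ => h3 S), Finset.sum_const, Finset.card_univ, smul_eq_mul,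
      ← Nat.card_eq_fintype_card] at h2
    apply Nat.eq_of_mul_eq_mul_right hpb
    rw [← h2]; ring
  have hB : k * p ∣ Nat.card B := by
    refine dvd_ncard_of_orbits (G := G) B (fun g S hS => ?_) (fun S hS => ?_)
    · refine ⟨by rw [Finset.card_smul_finset]; exact hS.1, ?_⟩
      rw [MulAction.stabilizer_smul_eq_stabilizer_map_conj, Subgroup.card_map_of_injective]
      · exact hS.2
      · exact (MulAut.conj g).injective
    · obtain ⟨h, hle, hh⟩ := (Nat.dvd_prime_pow hp).1 (hS.1 ▸ card_stabilizer_dvd S)
      have hlt : h < β := lt_of_le_of_ne hle fun e => hS.2 (by rw [hh, e])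
      have h1 := (MulAction.stabilizer G S).card_mul_index
      rw [hn, hh, index_eq_card, ← Nat.card_congr (MulAction.orbitEquivQuotientStabilizer G S),
        ← Nat.sub_add_cancel hle, pow_add, mul_comm (p ^ _) (p ^ h), mul_assoc] at h1
      rw [Nat.eq_of_mul_eq_mul_left (pow_pos hp.pos h) h1,
        show β - h = (β - h - 1) + 1 by omega, pow_succ]
      exact ⟨p ^ (β - h - 1), by ring⟩
  obtain ⟨a, ha⟩ := hB
  exact ⟨a, by rw [htot, hA, ha]⟩

/-- The number of subgroups of order `p ^ β` is congruent to `1` modulo `p`. -/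
theorem card_subgroups_prime_pow (p β : ℕ) (hp : p.Prime) (hdiv : p ^ β ∣ Nat.card G) :
    Nat.card {H : Subgroup G // Nat.card H = p ^ β} ≡ 1 [MOD p] := by
  obtain ⟨k, hk⟩ := hdiv
  have hk0 : 0 < k := Nat.pos_of_ne_zero fun h => by simp [h, Nat.card_pos.ne'] at hk
  obtain ⟨a, ha⟩ := count_aux p β k hp hk
  have : NeZero (Nat.card G) := ⟨Nat.card_pos.ne'⟩
  let Z := Multiplicative (ZMod (Nat.card G))
  have hZ : Nat.card Z = p ^ β * k := by
    rw [Nat.card_congr Multiplicative.toAdd, Nat.card_zmod, hk]
  obtain ⟨b, hb⟩ := count_aux (G := Z) p β k hp hZ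
  have hN : Nat.card {H : Subgroup Z // Nat.card H = p ^ β} = 1 := by
    rw [Nat.card_eq_one_iff_unique]
    obtain ⟨g, hg⟩ := IsCyclic.exists_generator (α := Z)
    have ho : orderOf g = p ^ β * k := by rw [orderOf_eq_card_of_forall_mem_zpowers hg, hZ]
    constructor
    · constructor
      intro H K
      refine Subtype.ext ?_
      have : ∀ L : Subgroup Z, Nat.card L = p ^ β → L = (powMonoidHom (p ^ β) : Z →* Z).ker := by
        intro L hL
        refine eq_of_le_of_card_ge (fun x hx => ?_) ?_
        · have h1 := congrArg Subtype.val (pow_card_eq_one' (G := L) (x := ⟨x, hx⟩))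
          rw [hL] at h1
          exact h1
        · rw [hL]
          have h1 := IsCyclic.card_pow_eq_one_le (α := Z) (n := p ^ β) (pow_pos hp.pos β)
          classical
          refine le_trans (le_of_eq ?_) h1
          rw [← Nat.card_eq_finsetCard]
          exact Nat.card_congr (Equiv.subtypeEquivRight fun x => by simp)
      rw [this H H.2, this K K.2]
    · exact ⟨⟨zpowers (g ^ k), by
        rw [Nat.card_zpowers, orderOf_pow' g hk0.ne', ho, Nat.gcd_mul_left_left, Nat.mul_div_cancel _ hk0]⟩⟩
  rw [hN, hZ, ← hk, ha, one_mul] at hb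
  refine Nat.ModEq.mul_right_cancel' (c := k) hk0.ne' ?_
  rw [one_mul, mul_comm p k]
  unfold Nat.ModEq
  rw [← Nat.add_mul_mod_self_left _ (k * p) a, hb, Nat.add_mul_mod_self_left]

/-- The same for normal subgroups of a `p`-group. -/
theorem card_normal_subgroups_prime_pow (p m s : ℕ) (hp : p.Prime) (hG : Nat.card G = p ^ m) (hs : s ≤ m) :
    Nat.card {H : Subgroup G // H.Normal ∧ Nat.card H = p ^ s} ≡ 1 [MOD p] := by
  classical
  have := Fact.mk hp
  have hP : IsPGroup p (ConjAct G) := (IsPGroup.of_card hG).of_equiv ConjAct.toConjAct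
  let S : SubMulAction (ConjAct G) (Subgroup G) :=
    { carrier := {H | Nat.card H = p ^ s}
      smul_mem' := fun g H hH => (Nat.card_congr (equivSMul g H).toEquiv).symm.trans hH }
  refine Nat.ModEq.trans ?_ (card_subgroups_prime_pow (G := G) p s hp (hG ▸ pow_dvd_pow p hs))
  change _ ≡ Nat.card S [MOD p]
  refine Nat.ModEq.trans ?_ (hP.card_modEq_card_fixedPoints S).symm
  show _ % p = _ % p
  congr 1
  refine Nat.card_congr ⟨fun H => ⟨⟨H.1, H.2.2⟩, fun g => Subtype.ext ?_⟩,
    fun H => ⟨H.1.1, ?_, H.1.2⟩, fun _ => rfl, fun _ => rfl⟩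
  · have := H.2.1
    exact Subgroup.Normal.conjAct this g
  · refine ⟨fun n hn g => ?_⟩
    have h1 := congrArg Subtype.val (H.2 (ConjAct.toConjAct g))
    have h2 : ConjAct.toConjAct g • n ∈ ConjAct.toConjAct g • H.1.1 := smul_mem_pointwise_smul _ _ _ hn
    rw [SubMulAction.val_smul] at h1
    rw [h1, ConjAct.toConjAct_smul] at h2
    exact h2

end Cfsg.Agent.FGS2
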