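import Cfsg.Agent.OddLocal.UniqueSubgroup
import Cfsg.Agent.FGS2.Wielandt
import Cfsg.Agent.FGS2.UniquePow
import Cfsg.Agent.Core.Hall
import Mathlib.Tactic

/-! `p`-groups, `p` odd, with self-centralizing non-cyclic subgroups. -/

set_option autoImplicit false

namespace Cfsg.Agent.FGS2

open Subgroup

universe u

variable {G : Type u} [Group G] [Finite G] {p : ℕ} [hp : Fact p.Prime]

theorem isCyclic_or_exponent_of_card_sq (H : Subgroup G) (hH : Nat.card H = p ^ 2) :
    IsCyclic H ∨ ∀ y ∈ H, y ^ p = 1 := by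
  by_contra hh
  push Not at hh
  obtain ⟨hnc, y, hy, hyp⟩ := hh
  obtain ⟨i, hi, hyo⟩ := (Nat.dvd_prime_pow hp.out).1 (hH ▸ orderOf_dvd_natCard H hy)
  have hi2 : i = 2 := by
    by_contra hne
    exact hyp (orderOf_dvd_iff_pow_eq_one.1 (hyo ▸ (pow_dvd_pow p (show i ≤ 1 by omega)).trans (dvd_of_eq (pow_one p))))
  exact hnc (isCyclic_of_orderOf_eq_card ⟨y, hy⟩ (by rw [orderOf_mk, hyo, hi2, hH]))

theorem card_le_of_selfCentralizing (hG : IsPGroup p G) (hp2 : p ≠ 2) (hna : ¬ IsMulCommutative G)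
    (h : ∀ H : Subgroup G, ¬ IsCyclic H → centralizer (H : Set G) ≤ H) : Nat.card G = p ^ 3 := by
  classical
  have hpp : p.Prime := hp.out
  obtain ⟨m, hm⟩ := IsPGroup.iff_card.1 hG
  have h3 : 3 ≤ m := by
    by_contra hm3
    apply hna
    have : m = 0 ∨ m = 1 ∨ m = 2 := by omega
    rcases this with rfl | rfl | rfl
    · have := (Nat.card_eq_one_iff_unique.1 (hm.trans (pow_zero p))).1
      exact ⟨⟨fun a b => Subsingleton.elim _ _⟩⟩
    · have := isCyclic_of_prime_card (hm.trans (pow_one p))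
      exact IsCyclic.isMulCommutative
    · exact ⟨⟨IsPGroup.commutative_of_card_eq_prime_sq hm⟩⟩
  refine hm.trans ?_
  congr 1
  by_contra hne
  have h4 : 4 ≤ m := by omega
  have hnt : Nontrivial G := Finite.one_lt_card_iff_nontrivial.1 (hm ▸ Nat.one_lt_pow (by omega) hpp.one_lt)
  have := hG.center_nontrivial
  obtain ⟨⟨z, hzc⟩, hz⟩ := exists_prime_orderOf_dvd_card' (G := center G) p (by
    obtain ⟨k, hk, hk'⟩ := (hG.to_subgroup (center G)).nontrivial_iff_card.1 this
    rw [hk']; exact dvd_pow_self p hk.ne')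
  rw [orderOf_mk] at hz
  have hz1 : z ≠ 1 := fun e => hpp.ne_one (by rw [← hz, e, orderOf_one])
  have hzcomm : ∀ a : G, Commute a z := fun a => mem_center_iff.1 hzc a
  -- noncyclic subgroups of order p^2 are self-centralizing
  have hE : ∀ H : Subgroup G, Nat.card H = p ^ 2 → (∀ y ∈ H, y ^ p = 1) → centralizer (H : Set G) ≤ H := by
    intro H hH he
    refine h H fun hc => ?_
    obtain ⟨⟨g, hg⟩, hgen⟩ := hc.exists_generator
    have h1 := orderOf_eq_card_of_forall_mem_zpowers hgen
    rw [orderOf_mk, hH] at h1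
    have h2 := orderOf_dvd_of_pow_eq_one (he g hg)
    rw [h1] at h2
    have := Nat.le_of_dvd hpp.pos h2
    nlinarith [hpp.two_le]
  -- the closure of `z` and another element of order p commuting with it
  have hpair : ∀ y : G, y ^ p = 1 → y ∉ zpowers z → ∀ a : G, Commute a y → a ^ p = 1 := by
    intro y hy hyz a hay
    have hy1 : y ≠ 1 := fun e => hyz (e ▸ one_mem _)
    set H := zpowers z ⊔ zpowers y
    have hzn : (zpowers z).Normal := ⟨fun v hv w => by
      obtain ⟨i, rfl⟩ := mem_zpowers_iff.1 hv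
      rw [((hzcomm w).zpow_right i).eq, mul_inv_cancel_right]; exact hv⟩
    have hn : zpowers y ≤ normalizer ((zpowers z : Subgroup G) : Set G) := by
      rw [normalizer_eq_top_iff.2 hzn]; exact le_top
    have hel : ∀ v ∈ H, v ^ p = 1 := by
      intro v hv
      rw [← SetLike.mem_coe, coe_mul_of_right_le_normalizer_left _ _ hn] at hv
      obtain ⟨_, ⟨i, rfl⟩, _, ⟨j, rfl⟩, rfl⟩ := hv
      have hc : Commute (z ^ i) (y ^ j) := ((hzcomm y).symm.zpow_zpow i j)
      rw [hc.mul_pow, ← zpow_natCast, ← zpow_natCast, ← zpow_mul, ← zpow_mul, mul_comm i, mul_comm j, zpow_mul,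
        zpow_mul, zpow_natCast, zpow_natCast, hy, ← hz, pow_orderOf_eq_one, one_zpow, one_zpow, one_mul]
    have hH : Nat.card H = p ^ 2 := by
      have hoy := orderOf_eq_prime hy hy1
      have h1 : Nat.card (zpowers y ⊔ zpowers z : Subgroup G) ∣ p ^ 2 := by
        refine (Core.card_sup_dvd_mul (zpowers y) (zpowers z)).trans (dvd_of_eq ?_)
        rw [Nat.card_zpowers, Nat.card_zpowers, hz, hoy, pow_two]
      obtain ⟨j, hj, hjc⟩ := (Nat.dvd_prime_pow hpp).1 (sup_comm (zpowers y) (zpowers z) ▸ h1)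
      have hj2 : j = 2 := by
        by_contra hne
        have e : zpowers z = H := eq_of_le_of_card_ge le_sup_left (by
          show Nat.card H ≤ _
          rw [hjc, Nat.card_zpowers, hz]
          exact (Nat.pow_le_pow_right hpp.pos (show j ≤ 1 by omega)).trans (pow_one p).le)
        exact hyz (e.ge (mem_sup_right (mem_zpowers y)))
      rw [hjc, hj2]
    refine hel a (hE H hH hel (mem_centralizer_iff.2 fun v hv => ?_))
    rw [SetLike.mem_coe] at hv
    exact mem_centralizer_singleton_iff.1 ((sup_le (zpowers_le.2 (mem_centralizer_singleton_iff.2 (hzcomm a).symm.eq))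
      (zpowers_le.2 (mem_centralizer_singleton_iff.2 hay.symm.eq))) hv)
  -- some element of order p outside `⟨z⟩`
  obtain ⟨x, hxp, hxz⟩ : ∃ x : G, x ^ p = 1 ∧ x ∉ zpowers z := by
    by_contra hh
    push Not at hh
    have hu : OddLocal.UniqueOrderP p G := fun a b ha hb ha1 => by
      have h1 : zpowers a = zpowers z := eq_of_le_of_card_ge (zpowers_le.2 (hh a ha))
        (by rw [Nat.card_zpowers, Nat.card_zpowers, hz, orderOf_eq_prime ha ha1])
      exact h1 ▸ hh b hb
    have := OddLocal.isCyclic_of_uniqueOrderP _ hG hu (Or.inl hp2) le_rfl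
    exact hna IsCyclic.isMulCommutative
  -- a normal subgroup of order p^2
  obtain ⟨W, hWn, hW⟩ : ∃ W : Subgroup G, W.Normal ∧ Nat.card W = p ^ 2 := by
    have h1 := card_normal_subgroups_prime_pow (G := G) p m 2 hpp hm (by omega)
    by_contra hh
    push Not at hh
    have : IsEmpty {H : Subgroup G // H.Normal ∧ Nat.card H = p ^ 2} := ⟨fun H => hh H.1 H.2.1 H.2.2⟩
    rw [Nat.card_of_isEmpty] at h1
    have := Nat.ModEq.eq_of_lt_of_lt h1 hpp.pos hpp.one_lt
    omega
  -- the centralizer of `W` has index at most p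
  set M := centralizer (W : Set G) with hMdef
  have hWcomm : ∀ a ∈ W, ∀ b ∈ W, a * b = b * a := fun a ha b hb =>
    congrArg Subtype.val (IsPGroup.commutative_of_card_eq_prime_sq hW ⟨a, ha⟩ ⟨b, hb⟩)
  -- every element of `W` has order dividing p^2, and M is cyclic
  have hWexp : ¬ ∀ w ∈ W, w ^ p = 1 := by
    intro hall
    have hC := hE W hW hall
    have hMn : M.Normal := normal_centralizer
    have hzW : z ∈ W := hC (mem_centralizer_iff.2 fun v _ => (hzcomm v).eq)
    obtain ⟨w, hwW, hwz⟩ : ∃ w ∈ W, w ∉ zpowers z := by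
      by_contra hh
      push Not at hh
      have := card_le_of_le (K := zpowers z) hh
      rw [hW, Nat.card_zpowers, hz] at this
      nlinarith [hpp.two_le]
    -- conjugates of w lie in w⟨z⟩
    let Zs : Subgroup G := zpowers z
    have hsub : centralizer ({w} : Set G) ≤ W := fun a ha => by
      refine hC (mem_centralizer_iff.2 fun v hv => ?_)
      have hgen : zpowers z ⊔ zpowers w = W := by
        refine eq_of_le_of_card_ge (sup_le (zpowers_le.2 hzW) (zpowers_le.2 hwW)) ?_
        rw [hW]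
        by_contra hlt
        push Not at hlt
        obtain ⟨j, -, hj⟩ := (Nat.dvd_prime_pow hpp).1
          (hW ▸ card_dvd_of_le (sup_le (zpowers_le.2 hzW) (zpowers_le.2 hwW)))
        rw [hj] at hlt
        have hj1 : j ≤ 1 := Nat.lt_succ_iff.1 ((Nat.pow_lt_pow_iff_right hpp.one_lt).1 hlt)
        have h1 : zpowers z = zpowers z ⊔ zpowers w := eq_of_le_of_card_ge le_sup_left (by
          rw [Nat.card_zpowers, hz, hj]
          exact (Nat.pow_le_pow_right hpp.pos hj1).trans (pow_one p).le)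
        exact hwz (h1.ge (mem_sup_right (mem_zpowers w)))
      rw [SetLike.mem_coe, ← hgen] at hv
      exact mem_centralizer_singleton_iff.1 ((sup_le (zpowers_le.2 (mem_centralizer_singleton_iff.2 (hzcomm a).symm.eq))
        (zpowers_le.2 (mem_centralizer_singleton_iff.2 (mem_centralizer_singleton_iff.1 ha).symm))) hv)
    have hw1 : w ≠ 1 := fun e => hwz (e ▸ one_mem _)
    let f : G → {v : W // v ≠ 1} := fun g => ⟨⟨g * w * g⁻¹, hWn.conj_mem w hwW g⟩, fun e => hw1
      (conj_eq_one_iff.1 (congrArg Subtype.val e : _))⟩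
    have hker : (centralizer ({w} : Set G)).index ≤ Nat.card {v : W // v ≠ 1} := by
      rw [index_eq_card]
      refine Nat.card_le_card_of_injective (Quotient.lift f fun a b hab => ?_) ?_
      · have hab' : a⁻¹ * b ∈ centralizer ({w} : Set G) := QuotientGroup.leftRel_apply.1 hab
        refine Subtype.ext (Subtype.ext ?_)
        show a * w * a⁻¹ = b * w * b⁻¹
        have h1 := mem_centralizer_singleton_iff.1 hab'
        calc a * w * a⁻¹ = a * (w * (a⁻¹ * b)) * b⁻¹ := by group
          _ = a * ((a⁻¹ * b) * w) * b⁻¹ := by rw [h1]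
          _ = b * w * b⁻¹ := by group
      · rintro ⟨a⟩ ⟨b⟩ hab
        have h1 : a * w * a⁻¹ = b * w * b⁻¹ := congrArg (fun v : {v : W // v ≠ 1} => ((v.1 : W) : G)) hab
        refine Quotient.sound (QuotientGroup.leftRel_apply.2 (mem_centralizer_singleton_iff.2 ?_))
        calc a⁻¹ * b * w = a⁻¹ * (b * w * b⁻¹) * b := by group
          _ = a⁻¹ * (a * w * a⁻¹) * b := by rw [h1]
          _ = w * (a⁻¹ * b) := by group
    have h1 := (centralizer ({w} : Set G)).card_mul_index
    have h2 : Nat.card (centralizer ({w} : Set G)) ≤ p ^ 2 := hW ▸ card_le_of_le hsub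
    have h5 : (centralizer ({w} : Set G)).index < p ^ 2 := by
      refine lt_of_le_of_lt hker ?_
      rw [← hW]
      exact Finite.card_subtype_lt (p := fun v : W => v ≠ 1) (x := 1) (by simp)
    obtain ⟨i, -, hi⟩ := (Nat.dvd_prime_pow hpp).1 (hm ▸ Subgroup.index_dvd_card (centralizer ({w} : Set G)))
    rw [hi] at h5
    have hi1 : i ≤ 1 := Nat.lt_succ_iff.1 ((Nat.pow_lt_pow_iff_right hpp.one_lt).1 h5)
    rw [hm, hi] at h1
    have h6 : p ^ m ≤ p ^ 2 * p ^ 1 :=
      h1 ▸ Nat.mul_le_mul h2 (Nat.pow_le_pow_right hpp.pos hi1)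
    rw [← pow_add, Nat.pow_le_pow_iff_right hpp.one_lt] at h6
    omega
  push Not at hWexp
  obtain ⟨w, hwW, hwp⟩ := hWexp
  have hwo : orderOf w = p ^ 2 := by
    obtain ⟨i, hi, hwo⟩ := (Nat.dvd_prime_pow hpp).1 (hW ▸ orderOf_dvd_natCard W hwW)
    have : i = 2 := by
      by_contra hne
      exact hwp (orderOf_dvd_iff_pow_eq_one.1 (hwo ▸ (pow_dvd_pow p (show i ≤ 1 by omega)).trans (dvd_of_eq (pow_one p))))
    rw [hwo, this]
  have hMp : ∀ y ∈ M, y ^ p = 1 → y ∈ zpowers z := by
    intro y hy hyp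
    by_contra hyz
    exact hwp (hpair y hyp hyz w (mem_centralizer_iff.1 hy w hwW))
  have hMcyc : IsCyclic M := by
    refine OddLocal.isCyclic_of_uniqueOrderP _ (hG.to_subgroup M) ?_ (Or.inl hp2) le_rfl
    intro a b ha hb ha1
    have ha' := hMp a a.2 (congrArg Subtype.val ha)
    have hb' := hMp b b.2 (congrArg Subtype.val hb)
    have h1 : zpowers (a : G) = zpowers z := eq_of_le_of_card_ge (zpowers_le.2 ha')
      (by rw [Nat.card_zpowers, Nat.card_zpowers, hz,
        orderOf_eq_prime (congrArg Subtype.val ha) (fun e => ha1 (Subtype.ext e))])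
    obtain ⟨i, hi⟩ := mem_zpowers_iff.1 (h1 ▸ hb')
    exact mem_zpowers_iff.2 ⟨i, Subtype.ext hi⟩
  obtain ⟨⟨u, hu⟩, hgen⟩ := hMcyc.exists_generator
  have hMu : ∀ a ∈ M, ∃ i : ℤ, u ^ i = a := fun a ha => by
    obtain ⟨i, hi⟩ := mem_zpowers_iff.1 (hgen ⟨a, ha⟩)
    exact ⟨i, congrArg Subtype.val hi⟩
  have hMcomm : ∀ a ∈ M, ∀ b ∈ M, Commute a b := fun a ha b hb => by
    obtain ⟨i, rfl⟩ := hMu a ha
    obtain ⟨j, rfl⟩ := hMu b hb
    exact (Commute.refl u).zpow_zpow i j
  have hMn : M.Normal := normal_centralizer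
  -- x commutes with all p-th powers in M
  have hstep : ∀ j : ℕ, ∀ b ∈ M, (b ^ p) ^ p ^ j = 1 → Commute x (b ^ p) := by
    intro j
    induction j with
    | zero =>
      intro b hb hbj
      rw [pow_zero, pow_one] at hbj
      have h0 : b ^ p = 1 ∨ True := Or.inr trivial
      rw [hbj]; exact Commute.one_right x
    | succ j ih =>
      intro b hb hbj
      set d := b⁻¹ * (x * b * x⁻¹) with hd
      have hdM : d ∈ M := mul_mem (inv_mem hb) (hMn.conj_mem b hb x)
      have hxb : x * b * x⁻¹ = b * d := by rw [hd]; group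
      have h1 := ih (b ^ p) (pow_mem hb p) (by rw [← pow_mul, ← pow_succ', hbj])
      -- d ^ p is central
      have hdp : (d ^ p) ^ p = 1 := by
        have hbd : Commute b d := hMcomm b hb d hdM
        have e1 : x * (b ^ p) * x⁻¹ = b ^ p * d ^ p := by rw [← conj_pow, hxb, hbd.mul_pow]
        have e2 : x * (b ^ p) ^ p * x⁻¹ = (b ^ p) ^ p * (d ^ p) ^ p := by
          rw [← conj_pow, e1, (hbd.pow_pow p p).mul_pow]
        rw [h1.eq, mul_inv_cancel_right] at e2
        exact mul_eq_left.1 e2.symm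
      have hdpz : d ^ p ∈ zpowers z := hMp _ (pow_mem hdM p) hdp
      set f := d⁻¹ * (x * d * x⁻¹) with hf
      have hfM : f ∈ M := mul_mem (inv_mem hdM) (hMn.conj_mem d hdM x)
      have hxd : x * d * x⁻¹ = d * f := by rw [hf]; group
      have hfp : f ^ p = 1 := by
        have hdf : Commute d f := hMcomm d hdM f hfM
        have e1 : x * d ^ p * x⁻¹ = d ^ p * f ^ p := by rw [← conj_pow, hxd, hdf.mul_pow]
        obtain ⟨i, hi⟩ := mem_zpowers_iff.1 hdpz
        rw [← hi, ((hzcomm x).zpow_right i).eq, mul_inv_cancel_right] at e1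
        exact mul_eq_left.1 e1.symm
      obtain ⟨i, hfi⟩ := mem_zpowers_iff.1 (hMp f hfM hfp)
      have hfc : ∀ a : G, Commute a f := fun a => hfi ▸ (hzcomm a).zpow_right i
      have key : ∀ k : ℕ, x ^ k * b * (x ^ k)⁻¹ = b * d ^ k * f ^ (k.choose 2) := by
        intro k
        induction k with
        | zero => simp
        | succ k ihk =>
          calc x ^ (k + 1) * b * (x ^ (k + 1))⁻¹ = x * (x ^ k * b * (x ^ k)⁻¹) * x⁻¹ := by
                rw [pow_succ']; group
            _ = (x * b * x⁻¹) * (x * d * x⁻¹) ^ k * (x * f * x⁻¹) ^ (k.choose 2) := by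
                rw [ihk, conj_pow, conj_pow]; group
            _ = (b * d) * (d * f) ^ k * f ^ (k.choose 2) := by
                rw [hxb, hxd, (hfc x).eq, mul_inv_cancel_right]
            _ = b * d ^ (k + 1) * f ^ ((k + 1).choose 2) := by
                rw [(hMcomm d hdM f hfM).mul_pow, Nat.choose_succ_succ, Nat.choose_one_right, pow_add f k, pow_succ' d]
                simp only [mul_assoc]
      have h2 := key p
      rw [hxp, one_mul, inv_one, mul_one] at h2
      obtain ⟨e, he⟩ : p ∣ p.choose 2 :=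
        hpp.dvd_choose_self (by norm_num) (lt_of_le_of_ne hpp.two_le (Ne.symm hp2))
      rw [he, pow_mul, hfp, one_pow, mul_one] at h2
      have hdp1 : d ^ p = 1 := mul_eq_left.1 h2.symm
      show x * b ^ p = b ^ p * x
      have : x * b ^ p * x⁻¹ = b ^ p := by
        rw [← conj_pow, hxb, (hMcomm b hb d hdM).mul_pow, hdp1, mul_one]
      exact mul_inv_eq_iff_eq_mul.1 this
  obtain ⟨e, he⟩ := IsPGroup.iff_orderOf.1 hG u
  have hup : Commute x (u ^ p) := hstep e u hu (by
    rw [← pow_mul, mul_comm, pow_mul, ← he, pow_orderOf_eq_one, one_pow])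
  have hup2 : (u ^ p) ^ p = 1 := hpair x hxp hxz (u ^ p) hup.symm
  have hMcard : Nat.card M ≤ p ^ 2 := by
    have h1 := orderOf_eq_card_of_forall_mem_zpowers hgen
    rw [orderOf_mk] at h1
    rw [← h1]
    exact Nat.le_of_dvd (pow_pos hpp.pos 2) (orderOf_dvd_of_pow_eq_one (by rw [pow_two, pow_mul, hup2]))
  -- M = W has index at most p
  have hMidx : M.index ≤ p := by
    have hWz : zpowers w = W := eq_of_le_of_card_ge (zpowers_le.2 hwW) (by rw [Nat.card_zpowers, hwo, hW])
    have hcomap : M = centralizer ({w} : Set G) := by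
      refine le_antisymm (fun a ha => mem_centralizer_singleton_iff.2 (mem_centralizer_iff.1 ha w hwW).symm) fun a ha => ?_
      refine mem_centralizer_iff.2 fun v hv => ?_
      rw [SetLike.mem_coe, ← hWz] at hv
      obtain ⟨i, rfl⟩ := mem_zpowers_iff.1 hv
      exact ((mem_centralizer_singleton_iff.1 ha : a * w = w * a) |> fun h => (Commute.zpow_right (h : Commute a w) i).symm.eq)
    let ψ := W.normalizerMonoidHom
    have htop : normalizer (W : Set G) = ⊤ := normalizer_eq_top_iff.2 hWn
    let χ : G →* MulAut W := ψ.comp ((MonoidHom.id G).codRestrict _ fun g => htop ▸ mem_top g)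
    have hker : χ.ker ≤ M := fun g hg => mem_centralizer_iff.2 fun v hv => by
      have := congrArg Subtype.val (DFunLike.congr_fun (MonoidHom.mem_ker.1 hg) (⟨v, hv⟩ : W))
      exact (mul_inv_eq_iff_eq_mul.1 this).symm
    have : IsCyclic W := isCyclic_of_orderOf_eq_card ⟨w, hwW⟩ (by rw [orderOf_mk, hwo, hW])
    have h2 : Nat.card (MulAut W) = p * (p - 1) := by
      rw [IsCyclic.card_mulAut, hW, Nat.totient_prime_pow hpp (by norm_num), pow_one]
    obtain ⟨i, -, hi⟩ := (Nat.dvd_prime_pow hpp).1 (hm ▸ Subgroup.index_dvd_card χ.ker)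
    have h3 : χ.ker.index ∣ p * (p - 1) := by
      rw [index_ker, ← h2]; exact card_subgroup_dvd_card _
    rw [hi] at h3
    have hi1 : i ≤ 1 := by
      by_contra hh
      push Not at hh
      have h4 := (pow_dvd_pow p hh).trans h3
      rw [pow_succ', pow_one, Nat.mul_dvd_mul_iff_left hpp.pos] at h4
      have := Nat.le_of_dvd (by have := hpp.two_le; omega) h4
      have := hpp.two_le
      omega
    have h5 := Nat.le_of_dvd (by rw [hi]; exact pow_pos hpp.pos i) (index_dvd_of_le hker)
    exact h5.trans (hi.le.trans ((Nat.pow_le_pow_right hpp.pos hi1).trans (pow_one p).le))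
  have h1 := M.card_mul_index
  rw [hm] at h1
  have h6 : p ^ m ≤ p ^ 2 * p ^ 1 := h1 ▸ Nat.mul_le_mul hMcard (hMidx.trans (pow_one p).ge)
  rw [← pow_add, Nat.pow_le_pow_iff_right hpp.one_lt] at h6
  omega

theorem selfCentralizing_of_card (hna : ¬ IsMulCommutative G) (h3 : Nat.card G = p ^ 3) (H : Subgroup G)
    (hH : ¬ IsCyclic H) : centralizer (H : Set G) ≤ H := by
  have hpp : p.Prime := hp.out
  obtain ⟨i, hi, hic⟩ := (Nat.dvd_prime_pow hpp).1 (h3 ▸ H.card_subgroup_dvd_card)
  have hi2 : 2 ≤ i := by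
    by_contra hh
    apply hH
    have : i = 0 ∨ i = 1 := by omega
    rcases this with rfl | rfl
    · have := (Nat.card_eq_one_iff_unique.1 (hic.trans (pow_zero p))).1
      infer_instance
    · exact isCyclic_of_prime_card (hic.trans (pow_one p))
  rcases (show i = 3 ∨ i = 2 by omega) with rfl | rfl
  · rw [eq_top_of_card_eq H (hic.trans h3.symm)]; exact le_top
  intro a ha
  by_contra haH
  have hlt : H < H ⊔ zpowers a :=
    lt_of_le_of_ne le_sup_left fun e => haH (e.ge (mem_sup_right (mem_zpowers a)))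
  have htop : H ⊔ zpowers a = ⊤ := by
    obtain ⟨j, hj, hjc⟩ := (Nat.dvd_prime_pow hpp).1 (h3 ▸ (H ⊔ zpowers a).card_subgroup_dvd_card)
    have h2 : j = 3 := by
      by_contra hne
      exact hlt.ne (eq_of_le_of_card_ge le_sup_left (by
        rw [hjc, hic]; exact Nat.pow_le_pow_right hpp.pos (by omega)))
    exact eq_top_of_card_eq _ (by rw [hjc, h2, h3])
  have hHc : ∀ b ∈ H, ∀ c ∈ H, b * c = c * b := fun b hb c hc =>
    congrArg Subtype.val (IsPGroup.commutative_of_card_eq_prime_sq hic ⟨b, hb⟩ ⟨c, hc⟩)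
  -- H is central
  have hcen : ∀ b ∈ H, ∀ g : G, Commute b g := fun b hb g => by
    have hle : H ⊔ zpowers a ≤ centralizer ({b} : Set G) := sup_le
      (fun c hc => mem_centralizer_singleton_iff.2 (hHc c hc b hb))
      (zpowers_le.2 (mem_centralizer_singleton_iff.2 (mem_centralizer_iff.1 ha b hb).symm))
    exact (mem_centralizer_singleton_iff.1 (hle (htop ▸ mem_top g))).symm
  apply hna
  refine ⟨⟨fun g g' => ?_⟩⟩
  have hle : H ⊔ zpowers a ≤ centralizer ({g} : Set G) := by
    refine sup_le (fun c hc => mem_centralizer_singleton_iff.2 (hcen c hc g).eq) (zpowers_le.2 ?_)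
    have hle' : H ⊔ zpowers a ≤ centralizer ({a} : Set G) := sup_le
      (fun c hc => mem_centralizer_singleton_iff.2 (hcen c hc a).eq)
      (zpowers_le.2 (mem_centralizer_singleton_iff.2 rfl))
    exact mem_centralizer_singleton_iff.2 (mem_centralizer_singleton_iff.1 (hle' (htop ▸ mem_top g))).symm
  exact (mem_centralizer_singleton_iff.1 (hle (htop ▸ mem_top g'))).symm

end Cfsg.Agent.FGS2
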