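import Cfsg.Agent.FGS2.Basic
import Cfsg.Agent.OddLocal.FPF
import Cfsg.Agent.OddLocal.UniqueSubgroup
import Cfsg.Agent.Core.BurnsidePQ
import Cfsg.Agent.S3779
import Mathlib.GroupTheory.SpecificGroups.Quaternion
import Mathlib.GroupTheory.GroupAction.Quotient
import Mathlib.Tactic.Group

/-! Finite groups whose set of element orders is `{1, 2, 3, 4}`. -/

set_option autoImplicit false
set_option linter.style.haveILetI false
set_option linter.unusedSectionVars false

namespace Cfsg.Agent.FGS2.SpectrumFour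

open Cfsg Subgroup
open scoped commutatorElement

variable {G : Type*} [Group G] [Finite G]

theorem orderOf_cases (hle : ∀ g : G, orderOf g ≤ 4) (g : G) :
    orderOf g = 1 ∨ orderOf g = 2 ∨ orderOf g = 3 ∨ orderOf g = 4 := by
  have := orderOf_pos g
  have := hle g
  omega

/-- An element of order `3` commutes with no nontrivial element of `2`-power order. -/
theorem eq_one_of_commute (hle : ∀ g : G, orderOf g ≤ 4) {a b : G} (ha : orderOf a = 3)
    (hb : ∃ k, orderOf b = 2 ^ k) (hc : Commute a b) : b = 1 := by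
  obtain ⟨k, hk⟩ := hb
  have hco : (orderOf a).Coprime (orderOf b) := by
    rw [ha, hk]; exact Nat.Coprime.pow_right k (by norm_num)
  have h := hle (a * b)
  rw [hc.orderOf_mul_eq_mul_orderOf_of_coprime hco, ha] at h
  have := orderOf_pos b
  rw [← orderOf_eq_one_iff]
  omega

theorem orderOf_eq_three (hle : ∀ g : G, orderOf g ≤ 4) {g : G} (h : 3 ∣ orderOf g) : orderOf g = 3 := by
  have := Nat.le_of_dvd (orderOf_pos g) h
  have := hle g
  omega

theorem two_pow_of_not_three (hle : ∀ g : G, orderOf g ≤ 4) {g : G} (h : ¬ 3 ∣ orderOf g) :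
    ∃ k, orderOf g = 2 ^ k := by
  rcases orderOf_cases hle g with e | e | e | e
  · exact ⟨0, e⟩
  · exact ⟨1, e⟩
  · exact absurd (e ▸ dvd_rfl) h
  · exact ⟨2, e⟩

/-- The commutator of a fixed-point-free element covers a normal subgroup. -/
theorem exists_conj_eq {M : Subgroup G} [hM : M.Normal] {t : G}
    (hfix : ∀ m ∈ M, m * t = t * m → m = 1) {m : G} (hm : m ∈ M) : ∃ n ∈ M, n * t * n⁻¹ = m * t := by
  let ψ : M → M := fun n => ⟨(n : G) * t * (n : G)⁻¹ * t⁻¹, by
    rw [show (n : G) * t * (n : G)⁻¹ * t⁻¹ = (n : G) * (t * (n : G)⁻¹ * t⁻¹) by group]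
    exact M.mul_mem n.2 (hM.conj_mem _ (M.inv_mem n.2) t)⟩
  have hinj : Function.Injective ψ := by
    intro x y hxy
    have h1 : (x : G) * t * (x : G)⁻¹ * t⁻¹ = (y : G) * t * (y : G)⁻¹ * t⁻¹ := congrArg Subtype.val hxy
    have h2 := mul_right_cancel h1
    have h3 := hfix ((y : G)⁻¹ * x) (M.mul_mem (M.inv_mem y.2) x.2) (by
      calc (y : G)⁻¹ * x * t = (y : G)⁻¹ * ((x : G) * t * (x : G)⁻¹) * x := by group
        _ = (y : G)⁻¹ * ((y : G) * t * (y : G)⁻¹) * x := by rw [h2]
        _ = t * ((y : G)⁻¹ * x) := by group)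
    exact Subtype.ext (inv_mul_eq_one.1 h3).symm
  obtain ⟨n, hn⟩ := (Finite.injective_iff_surjective.1 hinj) ⟨m, hm⟩
  have hn' : (n : G) * t * (n : G)⁻¹ * t⁻¹ = m := congrArg Subtype.val hn
  exact ⟨n, n.2, by rw [← hn', inv_mul_cancel_right]⟩

/-- Centralizing `t` modulo `M` lifts to centralizing `t`. -/
theorem exists_lift_commute {M : Subgroup G} [hM : M.Normal] {t g : G}
    (hfix : ∀ m ∈ M, m * t = t * m → m = 1) (hg : g * t * g⁻¹ * t⁻¹ ∈ M) :
    ∃ g', g⁻¹ * g' ∈ M ∧ Commute g' t := by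
  obtain ⟨n, hn, hnt⟩ := exists_conj_eq hfix hg
  rw [inv_mul_cancel_right] at hnt
  refine ⟨n⁻¹ * g, ?_, ?_⟩
  · have := hM.conj_mem _ (M.inv_mem hn) g⁻¹
    rwa [inv_inv, mul_assoc] at this
  · show n⁻¹ * g * t = t * (n⁻¹ * g)
    calc n⁻¹ * g * t = n⁻¹ * (g * t * g⁻¹) * g := by group
      _ = n⁻¹ * (n * t * n⁻¹) * g := by rw [hnt]
      _ = t * (n⁻¹ * g) := by group

variable {M : Subgroup G} [M.Normal]

theorem exists_normal_prime_group {H : Type*} [Group H] [Finite H] [Group.IsSolvable H]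
    (h : ∀ p : ℕ, p.Prime → p ∣ Nat.card H → p = 2 ∨ p = 3) (hne : Nontrivial H) :
    ∃ p, (p = 2 ∨ p = 3) ∧ ∃ R : Subgroup H, R.Normal ∧ R ≠ ⊥ ∧ IsPGroup p R ∧
      ∀ K : Subgroup H, K.Normal → IsPGroup p K → K ≤ R := by
  obtain ⟨V, hV, hVmin⟩ := (Set.toFinite {V : Subgroup H | V.Normal ∧ V ≠ ⊥}).exists_minimal
    ⟨⊤, inferInstance, top_ne_bot⟩
  obtain ⟨hVn, hVb⟩ := hV
  haveI := hVn
  obtain ⟨q, hq, hqd⟩ := Nat.exists_prime_and_dvd ((one_lt_card_iff_ne_bot V).2 hVb).ne'
  haveI : Fact q.Prime := ⟨hq⟩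
  -- a minimal normal subgroup of a solvable group is abelian
  have hVab : IsMulCommutative V := by
    have h1 : ⁅V, V⁆ ≠ V := fun e => by
      have hlt := Group.IsSolvable.commutator_lt_of_ne_bot hVb
      exact hlt.ne e
    have h2 : ⁅V, V⁆ = ⊥ := by
      by_contra hb
      exact h1 (le_antisymm (commutator_le_self V)
        (hVmin ⟨inferInstance, hb⟩ (commutator_le_self V)))
    exact ⟨⟨fun a b => Subtype.ext ((mem_centralizer_iff.1
      (commutator_eq_bot_iff_le_centralizer.1 h2 a.2) b b.2).symm)⟩⟩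
  let Q : Sylow q V := default
  haveI : (Q : Subgroup V).Normal := normal_of_comm _
  haveI : (Q : Subgroup V).Characteristic := Q.characteristic_of_normal inferInstance
  have hQn : ((Q : Subgroup V).map V.subtype).Normal := ConjAct.normal_of_characteristic_of_normal
  have hQb : (Q : Subgroup V).map V.subtype ≠ ⊥ := by
    rw [Ne, map_eq_bot_iff_of_injective _ V.subtype_injective]
    exact Q.ne_bot_of_dvd_card hqd
  have hqc := h q hq (hqd.trans (card_subgroup_dvd_card V))
  obtain ⟨R, hR, hmax⟩ := Set.Finite.exists_maximalFor (fun R : Subgroup H => Nat.card R)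
    {R | R.Normal ∧ IsPGroup q R} (Set.toFinite _) ⟨_, hQn, Q.isPGroup'.map _⟩
  obtain ⟨hRn, hRp⟩ := hR
  haveI := hRn
  have hle : ∀ K : Subgroup H, K.Normal → IsPGroup q K → K ≤ R := by
    intro K hK hKp
    haveI := hK
    have h1 : Nat.card (R ⊔ K : Subgroup H) ≤ Nat.card R := by
      rcases le_total (Nat.card (R ⊔ K : Subgroup H)) (Nat.card R) with h | h
      · exact h
      · exact hmax ⟨inferInstance, hRp.to_sup_of_normal_right hKp⟩ h
    exact le_sup_right.trans (eq_of_le_of_card_ge le_sup_left h1).ge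
  refine ⟨q, hqc, R, hRn, fun e => hQb ?_, hRp, hle⟩
  exact le_bot_iff.1 (e ▸ hle _ hQn (Q.isPGroup'.map _))

/-- A `2`-group with a unique involution and exponent at most `4` is cyclic of order `≤ 4` or
quaternion of order `8`. -/
theorem small_of_unique {S : Type*} [Group S] [Finite S] (hS : IsPGroup 2 S)
    (hu : OddLocal.UniqueOrderP 2 S) (h4 : ∀ s : S, orderOf s ≤ 4) :
    IsCyclic S ∨ Nonempty (S ≃* QuaternionGroup 2) := by
  rcases OddLocal.isCyclic_or_quaternion hS hu with h | ⟨-, n, ⟨e⟩⟩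
  · exact Or.inl h
  haveI : NeZero (2 ^ n) := ⟨by positivity⟩
  have h1 := h4 (e.symm (QuaternionGroup.a 1))
  rw [MulEquiv.orderOf_eq, QuaternionGroup.orderOf_a_one] at h1
  rcases n with _ | _ | n
  · refine Or.inl ?_
    haveI : IsCyclic (QuaternionGroup (2 ^ 0)) := QuaternionGroup.quaternionGroup_one_isCyclic
    exact isCyclic_of_surjective e.symm e.symm.surjective
  · exact Or.inr ⟨e⟩
  · have : 2 ^ (n + 1 + 1) ≥ 4 := by
      calc 2 ^ (n + 1 + 1) = 2 ^ n * 4 := by ring
        _ ≥ 1 * 4 := Nat.mul_le_mul_right _ Nat.one_le_two_pow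
    omega

theorem not_three_dvd_of_mem {N : Subgroup G} (hN : IsPGroup 2 N) {n : G} (hn : n ∈ N) :
    ∃ k, orderOf n = 2 ^ k := by
  obtain ⟨k, hk⟩ := IsPGroup.iff_orderOf.1 hN ⟨n, hn⟩
  exact ⟨k, by rwa [orderOf_mk] at hk⟩

theorem three_pow_of_mem (hle : ∀ g : G, orderOf g ≤ 4) {N : Subgroup G} (hN : IsPGroup 3 N) {n : G}
    (hn : n ∈ N) (h1 : n ≠ 1) : orderOf n = 3 := by
  obtain ⟨k, hk⟩ := IsPGroup.iff_orderOf.1 hN ⟨n, hn⟩
  rw [orderOf_mk] at hk
  refine orderOf_eq_three hle (hk ▸ dvd_pow_self 3 ?_)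
  rintro rfl
  exact h1 (orderOf_eq_one_iff.1 hk)

theorem map_eq_one_iff' (N : Subgroup G) [N.Normal] (g : G) : QuotientGroup.mk' N g = 1 ↔ g ∈ N :=
  QuotientGroup.eq_one_iff g

theorem three_case (hle : ∀ g : G, orderOf g ≤ 4) {g₄ : G} (hg₄ : orderOf g₄ = 4)
    (hprime : ∀ p : ℕ, p.Prime → p ∣ Nat.card G → p = 2 ∨ p = 3)
    [Group.IsSolvable G] (N : Subgroup G) [hNn : N.Normal] (hN : IsPGroup 3 N) (hNb : N ≠ ⊥)
    (hmax : ∀ K : Subgroup G, K.Normal → IsPGroup 3 K → K ≤ N) :
    IsElementaryAbelian 3 N ∧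
      ((IsCyclic (G ⧸ N) ∧ N.index = 4) ∨ Nonempty (G ⧸ N ≃* QuaternionGroup 2)) := by
  haveI : Fact (Nat.Prime 3) := ⟨Nat.prime_three⟩
  haveI : Fact (Nat.Prime 2) := ⟨Nat.prime_two⟩
  obtain ⟨S, hS⟩ := (IsPGroup.of_card (n := 2) (G := zpowers g₄)
    (by rw [Nat.card_zpowers, hg₄]; norm_num) : IsPGroup 2 (zpowers g₄)).exists_le_sylow
  have hfpf : OddLocal.FPF N (S : Subgroup G) := by
    intro h hh hh1 k hk hc
    by_contra hk1
    exact hh1 (eq_one_of_commute hle (three_pow_of_mem hle hN hk hk1)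
      (not_three_dvd_of_mem S.isPGroup' hh) hc.symm)
  have hu : OddLocal.UniqueOrderP 2 (S : Subgroup G) :=
    hfpf.uniqueOrderP hNb (normalizer_eq_top_iff.2 hNn ▸ le_top) _ le_rfl S.isPGroup'
  set π := QuotientGroup.mk' N
  have hπinj : Set.InjOn π (S : Subgroup G) := by
    intro x hx y hy hxy
    have h1 : x⁻¹ * y ∈ N := QuotientGroup.eq.1 hxy
    have h2 : x⁻¹ * y ∈ (S : Subgroup G) := mul_mem (inv_mem hx) hy
    by_contra hne
    have h3 := three_pow_of_mem hle hN h1 (fun e => hne (inv_mul_eq_one.1 e))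
    obtain ⟨k, hk⟩ := not_three_dvd_of_mem S.isPGroup' h2
    rw [h3] at hk
    rcases k with _ | k
    · norm_num at hk
    · rw [pow_succ] at hk; omega
  let S' : Sylow 2 (G ⧸ N) := S.mapSurjective (QuotientGroup.mk'_surjective N)
  have hS' : (S' : Subgroup (G ⧸ N)) = (S : Subgroup G).map π := Sylow.coe_mapSurjective _ _
  haveI hnt : Nontrivial (G ⧸ N) := by
    refine ⟨⟨π g₄, 1, fun e => ?_⟩⟩
    have h1 : g₄ = 1 := hπinj (hS (mem_zpowers g₄)) (one_mem _) (by rw [e, map_one])
    rw [h1, orderOf_one] at hg₄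
    norm_num at hg₄
  -- the normal `2`-subgroup of the quotient
  obtain ⟨p, hp, R, hRn, hRb, hRp, -⟩ := exists_normal_prime_group (H := G ⧸ N)
    (fun p hp hd => hprime p hp (hd.trans (card_quotient_dvd_card N))) hnt
  haveI := hRn
  have hp2 : p = 2 := by
    rcases hp with rfl | rfl
    · rfl
    exfalso
    have hK : IsPGroup 3 (R.comap π) := hRp.comap_of_ker_isPGroup π (by rw [QuotientGroup.ker_mk']; exact hN)
    have hKN := hmax _ (Normal.comap hRn π) hK
    refine hRb (eq_bot_iff_forall _ |>.2 fun v hv => ?_)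
    obtain ⟨g, rfl⟩ := QuotientGroup.mk'_surjective N v
    exact (map_eq_one_iff' N g).2 (hKN hv)
  subst hp2
  have hRS : R ≤ (S : Subgroup G).map π := by
    obtain ⟨T, hT⟩ := hRp.exists_le_sylow
    obtain ⟨g, rfl⟩ := MulAction.exists_smul_eq (G ⧸ N) S' T
    rw [← hS']
    intro v hv
    have h1 : g * v * g⁻¹ ∈ R := hRn.conj_mem v hv g
    have h2 := hT h1
    rw [Sylow.coe_subgroup_smul, mem_pointwise_smul_iff_inv_smul_mem, ← map_inv] at h2
    have h3 : g⁻¹ * (g * v * g⁻¹) * g⁻¹⁻¹ ∈ (S' : Subgroup (G ⧸ N)) := h2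
    rwa [show g⁻¹ * (g * v * g⁻¹) * g⁻¹⁻¹ = v by group] at h3
  haveI : Nontrivial R := (nontrivial_iff_ne_bot R).2 hRb
  obtain ⟨k, hk, hck⟩ := hRp.nontrivial_iff_card.1 inferInstance
  obtain ⟨z, hz⟩ := exists_prime_orderOf_dvd_card' 2 (G := R) (hck ▸ dvd_pow_self 2 hk.ne')
  rw [← orderOf_coe] at hz
  obtain ⟨t, htS, htz⟩ := hRS z.2
  have ht1 : t ≠ 1 := fun e => by
    rw [← htz, e, map_one, orderOf_one] at hz
    norm_num at hz
  have ht2 : t * t = 1 := hπinj (mul_mem htS htS) (one_mem _) (by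
    rw [map_mul, htz, map_one, ← sq, ← hz, pow_orderOf_eq_one])
  have htord : ∃ k, orderOf t = 2 ^ k := ⟨1, by rw [pow_one]; exact orderOf_eq_prime (by rw [sq, ht2]) ht1⟩
  have hfix : ∀ m ∈ N, m * t = t * m → m = 1 := fun m hm hc => hfpf t htS ht1 m hm hc.symm
  -- the involution of `R` is central
  have hcentral : ∀ v : G ⧸ N, v * π t * v⁻¹ = π t := by
    intro v
    rw [htz]
    obtain ⟨s, hsS, hsv⟩ := hRS (hRn.conj_mem _ z.2 v)
    have hs2 : s * s = 1 := hπinj (mul_mem hsS hsS) (one_mem _) (by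
      rw [map_mul, hsv, map_one, show v * (z : G ⧸ N) * v⁻¹ * (v * z * v⁻¹) = v * (z * z : G ⧸ N) * v⁻¹ by group,
        ← sq, ← hz, pow_orderOf_eq_one, mul_one, mul_inv_cancel])
    have h1 := hu ⟨t, htS⟩ ⟨s, hsS⟩ (Subtype.ext (by simpa [sq] using ht2))
      (Subtype.ext (by simpa [sq] using hs2)) (fun e => ht1 (congrArg Subtype.val e))
    obtain ⟨i, hi⟩ := mem_zpowers_iff.1 h1
    have hi' : t ^ i = s := by simpa using congrArg Subtype.val hi
    have hs1 : s ≠ 1 := fun e => by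
      rw [e, map_one] at hsv
      rw [(conj_eq_one_iff).1 hsv.symm, orderOf_one] at hz
      norm_num at hz
    have hst : s = t := by
      have ht2' : t ^ (2 : ℤ) = 1 := by rw [zpow_two, ht2]
      rcases Int.even_or_odd' i with ⟨j, rfl | rfl⟩
      · exact absurd (by rw [← hi', zpow_mul, ht2', one_zpow]) hs1
      · rw [← hi', zpow_add_one, zpow_mul, ht2', one_zpow, one_mul]
    rw [← hsv, hst, htz]
  -- so the quotient has no element of order three
  have hQ2 : IsPGroup 2 (G ⧸ N) := by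
    rw [IsPGroup.iff_orderOf]
    intro v
    obtain ⟨g, rfl⟩ := QuotientGroup.mk'_surjective N v
    have hd : orderOf (π g) ∣ orderOf g := orderOf_map_dvd π g
    by_cases h3 : 3 ∣ orderOf g
    swap
    · obtain ⟨k, hk⟩ := two_pow_of_not_three hle h3
      obtain ⟨j, -, hj⟩ := (Nat.dvd_prime_pow Nat.prime_two).1 (hk ▸ hd)
      exact ⟨j, hj⟩
    refine ⟨0, orderOf_eq_one_iff.2 ((map_eq_one_iff' N g).2 ?_)⟩
    by_contra hgN
    obtain ⟨g', hg', hgc⟩ := exists_lift_commute (M := N) hfix (g := g) (by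
      rw [← map_eq_one_iff' N, map_mul, map_mul, map_mul, map_inv, map_inv, hcentral, mul_inv_cancel])
    have hπg : π g = π g' := QuotientGroup.eq.2 hg'
    have hg3 : orderOf (π g) = 3 := by
      rcases (Nat.dvd_prime Nat.prime_three).1 (orderOf_eq_three hle h3 ▸ hd) with e | e
      · exact absurd ((map_eq_one_iff' N g).1 (orderOf_eq_one_iff.1 e)) hgN
      · exact e
    have h4 : orderOf g' = 3 := orderOf_eq_three hle (hg3 ▸ hπg ▸ orderOf_map_dvd π g')
    exact ht1 (eq_one_of_commute hle h4 htord hgc)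
  have hS'top : (S' : Subgroup (G ⧸ N)) = ⊤ := by
    exact (S'.is_maximal' (hQ2.to_subgroup ⊤) le_top).symm
  have htop : (S : Subgroup G).map π = ⊤ := hS' ▸ hS'top
  have hbij : Function.Bijective (π.comp (S : Subgroup G).subtype) := by
    refine ⟨fun x y hxy => Subtype.ext (hπinj x.2 y.2 hxy), fun v => ?_⟩
    obtain ⟨s, hs, rfl⟩ := htop.symm ▸ mem_top v
    exact ⟨⟨s, hs⟩, rfl⟩
  let e : (S : Subgroup G) ≃* G ⧸ N := MulEquiv.ofBijective _ hbij
  refine ⟨⟨?_, fun a ha => ?_⟩, ?_⟩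
  · -- inverted by `t`
    have hinv : ∀ m ∈ N, t * m * t = m⁻¹ := by
      intro m hm
      obtain ⟨n, -, hn⟩ := exists_conj_eq hfix hm
      have ht' : t⁻¹ = t := inv_eq_of_mul_eq_one_left ht2
      have hm' : m = n * t * n⁻¹ * t := by rw [hn, mul_assoc, ht2, mul_one]
      rw [hm', mul_inv_rev, mul_inv_rev, mul_inv_rev, inv_inv, ht']
      simp only [mul_assoc, ht2, mul_one]
    refine ⟨⟨fun a b => Subtype.ext ?_⟩⟩
    have h := hinv _ (mul_mem (inv_mem a.2) (inv_mem b.2))
    rw [mul_inv_rev, inv_inv, inv_inv] at h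
    calc (a : G) * b = (t * (a : G)⁻¹ * t) * (t * (b : G)⁻¹ * t) := by
          rw [hinv _ (inv_mem a.2), hinv _ (inv_mem b.2), inv_inv, inv_inv]
      _ = t * (a : G)⁻¹ * (t * t) * (b : G)⁻¹ * t := by group
      _ = t * ((a : G)⁻¹ * (b : G)⁻¹) * t := by rw [ht2]; group
      _ = (b : G) * a := h
  · by_cases h1 : a = 1
    · rw [h1, one_pow]
    · rw [← three_pow_of_mem hle hN ha h1]; exact pow_orderOf_eq_one a
  rcases small_of_unique S.isPGroup' hu (fun s => by rw [← orderOf_coe]; exact hle s) with hc | hq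
  · left
    haveI := hc
    refine ⟨isCyclic_of_surjective e e.surjective, ?_⟩
    obtain ⟨s, hs⟩ := IsCyclic.exists_ofOrder_eq_natCard (α := (S : Subgroup G))
    rw [index_eq_card, ← Nat.card_congr e.toEquiv]
    have h1 := hle (s : G)
    rw [orderOf_coe, hs] at h1
    have h2 := Nat.le_of_dvd Nat.card_pos (orderOf_dvd_natCard (⟨g₄, hS (mem_zpowers g₄)⟩ : (S : Subgroup G)))
    rw [orderOf_mk, hg₄] at h2
    omega
  · exact Or.inr (hq.map fun q => e.symm.trans q)

/-- With a complementary symmetric group the `2`-group is elementary abelian. -/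
theorem elementary_two (hle : ∀ g : G, orderOf g ≤ 4) (N : Subgroup G) [hNn : N.Normal]
    (hN : IsPGroup 2 N) {a u : G} (ha : orderOf a = 3) (hu : u * u = 1) (hua : u * a * u = a⁻¹)
    (hu2 : ∀ n ∈ N, n * u ∉ N)
    (hcomm : ∀ x ∈ N, ∀ y ∈ N, ∀ n ∈ N, n * (x * y * x⁻¹ * y⁻¹) = x * y * x⁻¹ * y⁻¹ * n)
    (hgen : ∀ g : G, g ∈ N ⊔ closure {a, u}) :
    IsElementaryAbelian 2 N := by
  have ha3 : a ^ 3 = 1 := ha ▸ pow_orderOf_eq_one a
  have hu' : u⁻¹ = u := inv_eq_of_mul_eq_one_left hu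
  set α : MulAut G := MulAut.conj a with hα
  set τ : MulAut G := MulAut.conj u with hτ
  have hαN : ∀ x ∈ N, α x ∈ N := fun x hx => hNn.conj_mem x hx a
  have hτN : ∀ x ∈ N, τ x ∈ N := fun x hx => hNn.conj_mem x hx u
  have hα3 : ∀ x, α (α (α x)) = x := fun x => by
    show a * (a * (a * x * a⁻¹) * a⁻¹) * a⁻¹ = x
    calc a * (a * (a * x * a⁻¹) * a⁻¹) * a⁻¹ = (a * a * a) * x * (a * a * a)⁻¹ := by group
      _ = x := by rw [show a * a * a = a ^ 3 by rw [pow_succ, pow_two], ha3]; group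
  have hττ : ∀ x, τ (τ x) = x := fun x => by
    show u * (u * x * u⁻¹) * u⁻¹ = x
    calc u * (u * x * u⁻¹) * u⁻¹ = (u * u) * x * (u * u)⁻¹ := by group
      _ = x := by rw [hu]; group
  have hτα : ∀ x, τ (α x) = α (α (τ x)) := fun x => by
    show u * (a * x * a⁻¹) * u⁻¹ = a * (a * (u * x * u⁻¹) * a⁻¹) * a⁻¹
    have ha2 : u * a * u = a * a := by
      rw [hua]; apply inv_eq_of_mul_eq_one_left
      rw [← pow_two, ← pow_succ]; exact ha3
    calc u * (a * x * a⁻¹) * u⁻¹ = (u * a * u) * (u⁻¹ * x * u⁻¹⁻¹) * (u * a * u)⁻¹ := by group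
      _ = (a * a) * (u * x * u⁻¹) * (a * a)⁻¹ := by rw [ha2]; simp only [hu', inv_inv]
      _ = _ := by group
  -- fixed-point freeness and the norm identity
  have hfp : ∀ x ∈ N, α x = x → x = 1 := fun x hx h =>
    eq_one_of_commute hle ha (not_three_dvd_of_mem hN hx) (mul_inv_eq_iff_eq_mul.1 h)
  have hid : ∀ x ∈ N, x * α x * α (α x) = 1 := by
    intro x hx
    have hxa : (x * a) ^ 3 = x * α x * α (α x) := by
      show _ = x * (a * x * a⁻¹) * (a * (a * x * a⁻¹) * a⁻¹)
      calc (x * a) ^ 3 = x * (a * x * a⁻¹) * (a * (a * x * a⁻¹) * a⁻¹) * a ^ 3 := by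
            rw [pow_succ, pow_two]; group
        _ = _ := by rw [ha3, mul_one]
    have h3 : 3 ∣ orderOf (x * a) := by
      have h1 : orderOf (QuotientGroup.mk' N (x * a)) = 3 := by
        rw [map_mul, (map_eq_one_iff' N x).2 hx, one_mul]
        refine orderOf_eq_prime (by rw [← map_pow, ha3, map_one]) fun e => ?_
        obtain ⟨k, hk⟩ := not_three_dvd_of_mem hN ((map_eq_one_iff' N a).1 e)
        rw [ha] at hk
        rcases k with _ | k
        · norm_num at hk
        · rw [pow_succ] at hk; omega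
      exact h1 ▸ orderOf_map_dvd _ _
    rw [← hxa, ← orderOf_eq_three hle h3]
    exact pow_orderOf_eq_one _
  have hid' : ∀ x ∈ N, x * α (α x) * α x = 1 := fun x hx => by
    have h1 := hid (τ x) (hτN x hx)
    have h2 := congrArg τ h1
    rwa [map_mul, map_mul, map_one, hττ, hτα, hττ, hτα, hτα, hττ, hα3] at h2
  have hxc : ∀ x ∈ N, Commute x (α x) := by
    intro x hx
    have h1 : α (x * α (α x) * α x) = 1 := by rw [hid' x hx, map_one]
    rw [map_mul, map_mul, hα3] at h1
    have h2 : α x * x = x * α x := by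
      have e1 := eq_inv_of_mul_eq_one_left h1
      have e2 := eq_inv_of_mul_eq_one_left (hid x hx)
      rw [e1, e2]
    exact h2.symm
  -- squares
  have hsq : ∀ n ∈ N, (n * τ n) * (n * τ n) = 1 := by
    intro n hn
    have h1 : (n * u) ^ 2 = n * τ n := by
      show _ = n * (u * n * u⁻¹)
      rw [pow_two, hu']
      group
    have h2 : 2 ∣ orderOf (n * u) := by
      have h1' : orderOf (QuotientGroup.mk' N (n * u)) = 2 := by
        rw [map_mul, (map_eq_one_iff' N n).2 hn, one_mul]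
        refine orderOf_eq_prime (by rw [← map_pow, pow_two, hu, map_one]) fun e => ?_
        exact hu2 n hn (mul_mem hn ((map_eq_one_iff' N u).1 e))
      exact h1' ▸ orderOf_map_dvd _ _
    have h3 : (n * u) ^ 4 = 1 := by
      refine orderOf_dvd_iff_pow_eq_one.1 ?_
      rcases orderOf_cases hle (n * u) with e | e | e | e <;> rw [e] at h2 ⊢ <;> omega
    rw [← h1, ← pow_add]
    exact h3
  let C : Subgroup G :=
    { carrier := {r | r ∈ N ∧ τ r = r}
      mul_mem' := fun {x y} hx hy => ⟨mul_mem hx.1 hy.1, by rw [map_mul, hx.2, hy.2]⟩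
      one_mem' := ⟨one_mem _, map_one _⟩
      inv_mem' := fun {x} hx => ⟨inv_mem hx.1, by rw [map_inv, hx.2]⟩ }
  have hC2 : ∀ r ∈ C, r * r = 1 := by
    intro r hr
    have h1 := hsq (α r) (hαN r hr.1)
    rw [hτα, hr.2] at h1
    have h2 : α r * α (α r) = r⁻¹ := eq_inv_of_mul_eq_one_right (by rw [← mul_assoc]; exact hid r hr.1)
    rw [h2, ← mul_inv_rev, inv_eq_one] at h1
    exact h1
  have hCc : ∀ r ∈ C, ∀ s ∈ C, r * s = s * r := by
    intro r hr s hs
    have hi : ∀ w ∈ C, w⁻¹ = w := fun w hw => inv_eq_of_mul_eq_one_left (hC2 w hw)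
    calc r * s = (r * s)⁻¹ := (hi _ (mul_mem hr hs)).symm
      _ = s * r := by rw [mul_inv_rev, hi r hr, hi s hs]
  have hz : ∀ x ∈ N, ∀ y ∈ N, ∀ n ∈ N, Commute n (x * y * x⁻¹ * y⁻¹) := hcomm
  have hCA : ∀ r ∈ C, ∀ s ∈ C, r * α s = α s * r := by
    intro r hr s hs
    set c := r * α s * r⁻¹ * (α s)⁻¹ with hc
    have hrN := hr.1
    have hsN := hs.1
    have hcN : c ∈ N := mul_mem (mul_mem (mul_mem hrN (hαN s hsN)) (inv_mem hrN)) (inv_mem (hαN s hsN))
    have hcz : ∀ n ∈ N, n * c = c * n := fun n hn => hz r hrN (α s) (hαN s hsN) n hn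
    -- `c` is the commutator of `α r` and `s`
    have h1 : α r * s = c * (s * α r) := by
      have hrs := (hxc (r * s) (mul_mem hrN hsN)).eq
      rw [map_mul] at hrs
      have hrαr := (hxc r hrN).eq
      have hsαs := (hxc s hsN).eq
      have hswap : r * α s = c * (α s * r) := by rw [hc]; group
      set d := α r * s * (α r)⁻¹ * s⁻¹ with hd
      have hdN : d ∈ N := mul_mem (mul_mem (mul_mem (hαN r hrN) hsN) (inv_mem (hαN r hrN))) (inv_mem hsN)
      have hdz : ∀ n ∈ N, n * d = d * n := fun n hn => hz (α r) (hαN r hrN) s hsN n hn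
      have hds : α r * s = d * (s * α r) := by rw [hd]; group
      -- compare the two orders of the product
      have e1 : r * s * (α r * α s) = d⁻¹ * (c * (α r * (α s * (r * s)))) := by
        calc r * s * (α r * α s) = r * (d⁻¹ * (α r * s)) * α s := by rw [hds]; group
          _ = d⁻¹ * (r * α r) * (s * α s) := by rw [← mul_assoc r, (hdz r hrN |> fun e =>
                (Commute.inv_right (show Commute r d from e)).eq)]; group
          _ = d⁻¹ * (α r * (r * α s) * s) := by rw [hrαr, hsαs]; group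
          _ = d⁻¹ * ((α r * c) * (α s * (r * s))) := by rw [hswap]; group
          _ = _ := by rw [hcz _ (hαN r hrN)]; group
      rw [hrs] at e1
      have e2 : d⁻¹ * c = 1 := by
        have e3 : 1 * (α r * α s * (r * s)) = (d⁻¹ * c) * (α r * α s * (r * s)) := by
          rw [one_mul]; exact e1.trans (by group)
        exact (mul_right_cancel e3).symm
      rw [inv_mul_eq_one] at e2
      rw [hds, e2]
    have h2 : α (α s) = (s * α s)⁻¹ := eq_inv_of_mul_eq_one_right (hid s hsN)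
    have h3 : α c = α r * α (α s) * (α r)⁻¹ * (α (α s))⁻¹ := by simp only [hc, map_mul, map_inv]
    have h4 : α c = c⁻¹ := by
      rw [h3, h2]
      have h5 : α r * (s * α s) = c * (s * α s * α r) := by
        have hc1 : Commute (α r) (α s) := by
          have := hCc r hr s hs
          show α r * α s = α s * α r
          rw [← map_mul, ← map_mul, this]
        calc α r * (s * α s) = α r * s * α s := (mul_assoc _ _ _).symm
          _ = c * (s * (α r * α s)) := by rw [h1]; group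
          _ = _ := by rw [hc1.eq]; group
      calc α r * (s * α s)⁻¹ * (α r)⁻¹ * (s * α s)⁻¹⁻¹
          = (α r * (s * α s) * (α r)⁻¹)⁻¹ * (s * α s) := by group
        _ = (s * α s)⁻¹ * c⁻¹ * (s * α s) := by rw [h5]; group
        _ = c⁻¹ := by
          rw [(Commute.inv_inv (show Commute (s * α s) c from hcz _ (mul_mem hsN (hαN s hsN)))).eq]
          group
    have h6 : α (α c) = c := by rw [h4, map_inv, h4, inv_inv]
    have h7 : α c = c := by
      have := congrArg α h6
      rwa [hα3, eq_comm] at this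
    have hc1 := hfp c hcN h7
    rw [hc, mul_inv_eq_one, mul_inv_eq_iff_eq_mul] at hc1
    exact hc1
  have hrw : ∀ r ∈ C, α (α r) = r * α r := by
    intro r hr
    have h1 : α (α r) = (r * α r)⁻¹ := eq_inv_of_mul_eq_one_right (hid r hr.1)
    rw [h1, mul_inv_rev, ← map_inv, inv_eq_of_mul_eq_one_left (hC2 r hr)]
    exact (hxc r hr.1).symm.eq
  let A : Subgroup G :=
    { carrier := {w | ∃ r ∈ C, ∃ s ∈ C, w = r * α s}
      mul_mem' := by
        rintro _ _ ⟨r, hr, s, hs, rfl⟩ ⟨r', hr', s', hs', rfl⟩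
        refine ⟨r * r', mul_mem hr hr', s * s', mul_mem hs hs', ?_⟩
        calc r * α s * (r' * α s') = r * (α s * r') * α s' := by group
          _ = r * r' * α (s * s') := by rw [← hCA r' hr' s hs, map_mul]; group
      one_mem' := ⟨1, one_mem C, 1, one_mem C, by simp⟩
      inv_mem' := by
        rintro _ ⟨r, hr, s, hs, rfl⟩
        refine ⟨r⁻¹, inv_mem hr, s⁻¹, inv_mem hs, ?_⟩
        rw [mul_inv_rev, map_inv]
        exact ((Commute.inv_inv (show Commute r (α s) from hCA r hr s hs)).eq).symm }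
  have hAN : A ≤ N := by
    rintro _ ⟨r, hr, s, hs, rfl⟩
    exact mul_mem hr.1 (hαN s hs.1)
  have hAα : ∀ w ∈ A, α w ∈ A := by
    rintro _ ⟨r, hr, s, hs, rfl⟩
    refine ⟨s, hs, r * s, mul_mem hr hs, ?_⟩
    have h1 : α r * s = s * α r := (hCA s hs r hr).symm
    rw [map_mul, hrw s hs, map_mul, ← mul_assoc, h1]
    group
  have hAτ : ∀ w ∈ A, τ w ∈ A := by
    rintro _ ⟨r, hr, s, hs, rfl⟩
    refine ⟨r * s, mul_mem hr hs, s, hs, ?_⟩
    rw [map_mul, hr.2, hτα, hs.2, hrw s hs, mul_assoc]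
  have hCleA : ∀ r ∈ C, r ∈ A := fun r hr => ⟨r, hr, 1, one_mem C, by simp⟩
  -- central elements lie in `A`
  have hZA : ∀ z ∈ N, (∀ n ∈ N, n * z = z * n) → z ∈ A := by
    intro z hzN hzc
    have hfixed : ∀ w ∈ N, (∀ n ∈ N, n * w = w * n) → w * τ w ∈ A := by
      intro w hw hwc
      refine hCleA _ ⟨mul_mem hw (hτN w hw), ?_⟩
      rw [map_mul, hττ]
      exact hwc _ (hτN w hw)
    have hcα : ∀ w, (∀ n ∈ N, n * w = w * n) → ∀ n ∈ N, n * α w = α w * n := by
      intro w hwc n hn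
      have hn' : α (α n) ∈ N := hαN _ (hαN n hn)
      have := congrArg α (hwc _ hn')
      rwa [map_mul, map_mul, hα3] at this
    have h1 : α z * α (α (τ z)) ∈ A := hτα z ▸ hfixed _ (hαN z hzN) (hcα z hzc)
    have h2 : α (α z) * α (α (τ z)) ∈ A := by
      rw [← map_mul, ← map_mul]
      exact hAα _ (hAα _ (hfixed z hzN hzc))
    have h3 : α z * (α (α z))⁻¹ ∈ A := by
      have := mul_mem h1 (inv_mem h2)
      rwa [mul_inv_rev, mul_assoc, mul_inv_cancel_left] at this
    have h4 := hAα _ h3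
    rw [map_mul, map_inv, hα3] at h4
    have h5 := hAα _ h4
    rw [map_mul, map_inv, hα3] at h5
    -- `h4 : α (α z) * z⁻¹`, `h5 : z * (α z)⁻¹`
    have hc1 : Commute z (α z) := hxc z hzN
    have hc2 : ∀ n ∈ N, Commute z n := fun n hn => (hzc n hn).symm
    have h6 : z ^ 3 ∈ A := by
      have h7 := mul_mem h5 (inv_mem h4)
      have h8 : z * (α z)⁻¹ * (α (α z) * z⁻¹)⁻¹ = z ^ 3 * (z * α z * α (α z))⁻¹ := by
        have h9 : Commute (α (α z)) (α z) := ((hxc z hzN).map α.toMonoidHom).symm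
        calc z * (α z)⁻¹ * (α (α z) * z⁻¹)⁻¹ = z * ((α z)⁻¹ * z) * (α (α z))⁻¹ := by group
          _ = z * (z * (α z)⁻¹) * (α (α z))⁻¹ := by rw [hc1.inv_right.eq]
          _ = z * z * ((α z)⁻¹ * (α (α z))⁻¹) := by group
          _ = z * z * ((α (α z))⁻¹ * (α z)⁻¹) := by rw [(h9.inv_inv).eq]
          _ = z * z * (z * ((α (α z))⁻¹ * (α z)⁻¹ * z⁻¹)) := by
            rw [← ((hc2 _ (mul_mem (inv_mem (hαN _ (hαN z hzN))) (inv_mem (hαN z hzN)))).inv_left).eq,
              mul_inv_cancel_left]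
          _ = _ := by rw [pow_succ, pow_two]; group
      rw [h8, hid z hzN, inv_one, mul_one] at h7
      exact h7
    have h4' : z ^ 4 = 1 := by
      obtain ⟨k, hk⟩ := not_three_dvd_of_mem hN hzN
      refine orderOf_dvd_iff_pow_eq_one.1 ?_
      rcases orderOf_cases hle z with e | e | e | e <;> rw [e] <;> try norm_num
      exfalso
      rw [e] at hk
      rcases k with _ | k
      · norm_num at hk
      · rw [pow_succ] at hk; omega
    have : z = (z ^ 3)⁻¹ := eq_inv_of_mul_eq_one_left (by rw [← pow_succ']; exact h4')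
    rw [this]
    exact inv_mem h6
  -- every element times its image lies in `A`
  have hnτ : ∀ n ∈ N, n * τ n ∈ A := by
    intro n hn
    have hτn := hτN n hn
    set c := (n * τ n)⁻¹ * (τ n * n) with hc
    have hcN : c ∈ N := mul_mem (inv_mem (mul_mem hn hτn)) (mul_mem hτn hn)
    have hcz : ∀ m ∈ N, m * c = c * m := by
      intro m hm
      have h1 : c = (τ n)⁻¹ * n⁻¹ * (τ n)⁻¹⁻¹ * n⁻¹⁻¹ := by rw [hc]; group
      rw [h1]
      exact hz _ (inv_mem hτn) _ (inv_mem hn) m hm
    obtain ⟨r, hr, s, hs, hrs⟩ := hZA c hcN hcz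
    have hcτ : τ c = c := by
      have h1 : τ c = c⁻¹ := by
        simp only [hc, map_mul, map_inv, hττ]
        group
      have h2 : (c : G) * c = 1 := by
        rw [hrs]
        calc r * α s * (r * α s) = r * (α s * r) * α s := by group
          _ = (r * r) * (α s * α s) := by rw [← hCA r hr s hs]; group
          _ = 1 := by rw [hC2 r hr, ← map_mul, hC2 s hs, map_one, one_mul]
      rw [h1]
      exact inv_eq_of_mul_eq_one_left h2
    have hs1 : s = 1 := by
      rw [hrs, map_mul, hr.2, hτα, hs.2, hrw s hs] at hcτ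
      have h3 : s * α s = α s := mul_left_cancel hcτ
      exact mul_eq_right.1 h3
    rw [hs1, map_one, mul_one] at hrs
    set w := α r
    have hw : τ w = w * r := by
      show τ (α r) = α r * r
      rw [hτα, hr.2, hrw r hr]
      exact (hxc r hr.1).eq
    have hmw : n * τ n * w ∈ C := by
      refine ⟨mul_mem (mul_mem hn hτn) (hαN r hr.1), ?_⟩
      have h1 : τ n * n = n * τ n * r := by rw [← hrs, hc, mul_inv_cancel_left]
      rw [map_mul, map_mul, hττ, h1, hw]
      calc n * τ n * r * (w * r) = n * τ n * (r * w) * r := by group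
        _ = n * τ n * w * (r * r) := by rw [(show Commute r w from hxc r hr.1).eq]; group
        _ = _ := by rw [hC2 r hr, mul_one]
    have hwA : w ∈ A := hAα _ (hCleA r hr)
    have := mul_mem (hCleA _ hmw) (inv_mem hwA)
    rwa [mul_inv_cancel_right] at this
  -- `A` is normal
  haveI hAn : A.Normal := by
    have key : ∀ g : G, g ∈ N ⊔ closure {a, u} → g ∈ normalizer (A : Set G) := by
      refine fun g hg => (sup_le ?_ ((closure_le _).2 ?_) : N ⊔ closure {a, u} ≤ _) hg
      · intro n hn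
        have h1 : ∀ n ∈ N, ∀ w ∈ A, n * w * n⁻¹ ∈ A := by
          intro n hn w hw
          rw [show n * w * n⁻¹ = (n * w * n⁻¹ * w⁻¹) * w by group]
          refine mul_mem (hZA _ ?_ fun m hm => hz n hn w (hAN hw) m hm) hw
          exact mul_mem (mul_mem (mul_mem hn (hAN hw)) (inv_mem hn)) (inv_mem (hAN hw))
        refine mem_normalizer_iff.2 fun w => ⟨h1 n hn w, fun hw => ?_⟩
        have := h1 n⁻¹ (inv_mem hn) _ hw
        simpa [mul_assoc] using this
      · rintro g (rfl | rfl)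
        · refine mem_normalizer_iff.2 fun w => ⟨hAα w, fun hw => ?_⟩
          have := hAα _ (hAα _ hw)
          rwa [show α (α (g * w * g⁻¹)) = w from hα3 w] at this
        · refine mem_normalizer_iff.2 fun w => ⟨hAτ w, fun hw => ?_⟩
          have := hAτ _ hw
          rwa [show τ (g * w * g⁻¹) = w from hττ w] at this
    exact normalizer_eq_top_iff.1 (eq_top_iff.2 fun g _ => key g (hgen g))
  -- hence everything is in `A`
  have hNA : N ≤ A := by
    intro n hn
    set π := QuotientGroup.mk' A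
    have hinv : ∀ m ∈ N, π u * π m * (π u)⁻¹ = (π m)⁻¹ := fun m hm =>
      eq_inv_of_mul_eq_one_right (by
        rw [← map_inv, ← map_mul, ← map_mul, ← map_mul]
        exact (map_eq_one_iff' A _).2 (hnτ m hm))
    have h1 := hinv _ (hαN n hn)
    have h2 : π u * π (α n) * (π u)⁻¹ = π (α (α (τ n))) := by
      rw [← hτα, ← map_inv, ← map_mul, ← map_mul]
      rfl
    have h3 : π (τ n) = (π n)⁻¹ := by
      rw [← hinv n hn, ← map_inv, ← map_mul, ← map_mul]
      rfl
    have h4 : π (α (α (τ n))) = (π (α (α n)))⁻¹ := by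
      show π (a * (a * τ n * a⁻¹) * a⁻¹) = (π (a * (a * n * a⁻¹) * a⁻¹))⁻¹
      simp only [map_mul, map_inv, h3, mul_inv_rev, inv_inv, mul_assoc]
    rw [h2, h4, inv_inj] at h1
    have h5 : π (α n) = π n := by
      have h6 := congrArg (fun v => π a * v * (π a)⁻¹) h1
      have h7 : π a * π (α (α n)) * (π a)⁻¹ = π n := by
        conv_rhs => rw [← hα3 n]
        rw [← map_inv, ← map_mul, ← map_mul]
        rfl
      have h8 : π a * π (α n) * (π a)⁻¹ = π (α (α n)) := by
        rw [← map_inv, ← map_mul, ← map_mul]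
        rfl
      rw [h7, h8] at h6
      rw [← h1, ← h6]
    have h9 : π n * π (α n) * π (α (α n)) = 1 := by
      rw [← map_mul, ← map_mul, hid n hn, map_one]
    rw [h1, h5] at h9
    have h10 : π n ^ 3 = 1 := by rw [pow_succ, pow_two]; exact h9
    obtain ⟨k, hk⟩ := not_three_dvd_of_mem hN hn
    refine (map_eq_one_iff' A n).1 (orderOf_eq_one_iff.1 ?_)
    exact Nat.eq_one_of_dvd_coprimes (Nat.Coprime.pow_right k (by norm_num : Nat.Coprime 3 2))
      (orderOf_dvd_of_pow_eq_one h10) (hk ▸ orderOf_map_dvd π n)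
  refine ⟨⟨⟨fun x y => Subtype.ext ?_⟩⟩, fun x hx => ?_⟩
  · obtain ⟨r, hr, s, hs, hx'⟩ := hNA x.2
    obtain ⟨r', hr', s', hs', hy'⟩ := hNA y.2
    show (x : G) * y = (y : G) * x
    rw [hx', hy']
    have c1 : Commute r r' := hCc r hr r' hr'
    have c2 : Commute r (α s') := hCA r hr s' hs'
    have c3 : Commute (α s) r' := (show Commute r' (α s) from hCA r' hr' s hs).symm
    have c4 : Commute (α s) (α s') := (show Commute s s' from hCc s hs s' hs').map α.toMonoidHom
    exact ((c1.mul_right c2).mul_left (c3.mul_right c4)).eq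
  · obtain ⟨r, hr, s, hs, hx'⟩ := hNA hx
    rw [hx', pow_two]
    calc r * α s * (r * α s) = r * (α s * r) * α s := by group
      _ = (r * r) * (α s * α s) := by rw [← hCA r hr s hs]; group
      _ = 1 := by rw [hC2 r hr, ← map_mul, hC2 s hs, map_one, one_mul]

/-- A noncommutative group of order six is symmetric. -/
theorem equiv_perm {Q : Type*} [Group Q] [Finite Q] (hQ : Nat.card Q = 6) {s c : Q} (hs : orderOf s = 2)
    (hsc : ¬ Commute s c) : Nonempty (Q ≃* Equiv.Perm (Fin 3)) := by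
  set K := zpowers s
  have hidx : Nat.card (Q ⧸ K) = 3 := by
    have h1 := K.index_mul_card
    rw [Nat.card_zpowers, hs, hQ] at h1
    rw [← index_eq_card]
    omega
  haveI : Fintype (Q ⧸ K) := Fintype.ofFinite _
  let e : Q ⧸ K ≃ Fin 3 := (Fintype.equivFinOfCardEq (by rw [← Nat.card_eq_fintype_card, hidx]))
  let f := MulAction.toPermHom Q (Q ⧸ K)
  have hinj : Function.Injective f := by
    rw [← MonoidHom.ker_eq_bot_iff, ← normalCore_eq_ker]
    by_contra hne
    have hle := normalCore_le K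
    have heq : K.normalCore = K := by
      refine eq_of_le_of_card_ge hle ?_
      have h1 : Nat.card K.normalCore ∣ 2 := by
        have := card_dvd_of_le hle
        rwa [Nat.card_zpowers, hs] at this
      rw [Nat.card_zpowers, hs]
      rcases (Nat.dvd_prime Nat.prime_two).1 h1 with h | h
      · exact absurd (card_eq_one.1 h) hne
      · omega
    have hKn : K.Normal := heq ▸ inferInstance
    obtain ⟨i, hi⟩ := mem_zpowers_iff.1 (hKn.conj_mem s (mem_zpowers s) c)
    refine hsc ?_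
    have hs2 : s ^ (2 : ℤ) = 1 := by rw [zpow_two, ← sq, ← hs, pow_orderOf_eq_one]
    rcases Int.even_or_odd' i with ⟨j, rfl | rfl⟩
    · rw [zpow_mul, hs2, one_zpow, eq_comm, conj_eq_one_iff] at hi
      rw [hi, orderOf_one] at hs
      norm_num at hs
    · rw [zpow_add_one, zpow_mul, hs2, one_zpow, one_mul] at hi
      exact (show Commute c s from mul_inv_eq_iff_eq_mul.1 hi.symm).symm
  have hbij : Function.Bijective f := by
    rw [Function.Bijective]
    refine ⟨hinj, ?_⟩
    refine ((Nat.bijective_iff_injective_and_card f).2 ⟨hinj, ?_⟩).2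
    rw [hQ, Nat.card_perm, hidx]
    rfl
  exact ⟨(MulEquiv.ofBijective f hbij).trans e.permCongrHom⟩

theorem two_case (hle : ∀ g : G, orderOf g ≤ 4) {g₃ g₄ : G} (hg₃ : orderOf g₃ = 3) (hg₄ : orderOf g₄ = 4)
    (hprime : ∀ p : ℕ, p.Prime → p ∣ Nat.card G → p = 2 ∨ p = 3)
    [Group.IsSolvable G] (N : Subgroup G) [hNn : N.Normal] (hN : IsPGroup 2 N) (hNb : N ≠ ⊥)
    (hmax : ∀ K : Subgroup G, K.Normal → IsPGroup 2 K → K ≤ N) :
    (IsPGroup 2 ↥N ∧ Monoid.exponent ↥N = 4 ∧ Group.nilpotencyClass ↥N ≤ 2 ∧ N.index = 3) ∨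
      (IsElementaryAbelian 2 N ∧ Nonempty (G ⧸ N ≃* Equiv.Perm (Fin 3))) := by
  haveI : Fact (Nat.Prime 3) := ⟨Nat.prime_three⟩
  haveI : Fact (Nat.Prime 2) := ⟨Nat.prime_two⟩
  have hfix : ∀ a : G, orderOf a = 3 → ∀ m ∈ N, m * a = a * m → m = 1 := fun a ha m hm hc =>
    eq_one_of_commute hle ha (not_three_dvd_of_mem hN hm) hc.symm
  obtain ⟨P, hP⟩ := (IsPGroup.of_card (n := 1) (G := zpowers g₃)
    (by rw [Nat.card_zpowers, hg₃]; norm_num) : IsPGroup 3 (zpowers g₃)).exists_le_sylow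
  have hfpf : OddLocal.FPF N (P : Subgroup G) := fun h hh hh1 k hk hc =>
    hfix h (three_pow_of_mem hle P.isPGroup' hh hh1) k hk hc.symm
  have hu : OddLocal.UniqueOrderP 3 (P : Subgroup G) :=
    hfpf.uniqueOrderP hNb (normalizer_eq_top_iff.2 hNn ▸ le_top) _ le_rfl P.isPGroup'
  haveI hPc : IsCyclic (P : Subgroup G) :=
    OddLocal.isCyclic_of_uniqueOrderP _ P.isPGroup' hu (Or.inl (by norm_num)) le_rfl
  have hPcard : Nat.card (P : Subgroup G) = 3 := by
    obtain ⟨s, hs⟩ := IsCyclic.exists_ofOrder_eq_natCard (α := (P : Subgroup G))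
    rw [← hs, ← orderOf_coe]
    refine three_pow_of_mem hle P.isPGroup' s.2 fun e => ?_
    have h2 := Nat.le_of_dvd Nat.card_pos (orderOf_dvd_natCard (⟨g₃, hP (mem_zpowers g₃)⟩ : (P : Subgroup G)))
    rw [orderOf_mk, hg₃, ← hs, ← orderOf_coe, e, orderOf_one] at h2
    omega
  set π := QuotientGroup.mk' N
  let P' : Sylow 3 (G ⧸ N) := P.mapSurjective (QuotientGroup.mk'_surjective N)
  have hP' : (P' : Subgroup (G ⧸ N)) = (P : Subgroup G).map π := Sylow.coe_mapSurjective _ _
  have hg₃N : π g₃ ≠ 1 := fun e => by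
    obtain ⟨k, hk⟩ := not_three_dvd_of_mem hN ((map_eq_one_iff' N g₃).1 e)
    rw [hg₃] at hk
    rcases k with _ | k
    · norm_num at hk
    · rw [pow_succ] at hk; omega
  haveI hnt : Nontrivial (G ⧸ N) := ⟨⟨π g₃, 1, hg₃N⟩⟩
  obtain ⟨p, hp, R, hRn, hRb, hRp, -⟩ := exists_normal_prime_group (H := G ⧸ N)
    (fun p hp hd => hprime p hp (hd.trans (card_quotient_dvd_card N))) hnt
  haveI := hRn
  have hp3 : p = 3 := by
    rcases hp with rfl | rfl
    swap
    · rfl
    exfalso
    have hK : IsPGroup 2 (R.comap π) := hRp.comap_of_ker_isPGroup π (by rw [QuotientGroup.ker_mk']; exact hN)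
    have hKN := hmax _ (Normal.comap hRn π) hK
    refine hRb (eq_bot_iff_forall _ |>.2 fun v hv => ?_)
    obtain ⟨g, rfl⟩ := QuotientGroup.mk'_surjective N v
    exact (map_eq_one_iff' N g).2 (hKN hv)
  subst hp3
  have hRcard : Nat.card R = 3 := by
    obtain ⟨T, hT⟩ := hRp.exists_le_sylow
    have h1 : Nat.card R ∣ Nat.card (P : Subgroup G) := by
      refine (card_dvd_of_le hT).trans ?_
      rw [Sylow.card_eq_multiplicity T, ← Sylow.card_eq_multiplicity P', hP']
      exact card_map_dvd _ _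
    rw [hPcard] at h1
    rcases (Nat.dvd_prime Nat.prime_three).1 h1 with h | h
    · exact absurd (card_eq_one.1 h) hRb
    · exact h
  haveI : IsCyclic R := isCyclic_of_prime_card hRcard
  obtain ⟨⟨z, hzR⟩, hzgen⟩ := IsCyclic.exists_generator (α := R)
  obtain ⟨a₀, rfl⟩ := QuotientGroup.mk'_surjective N z
  have hzord : orderOf (π a₀) = 3 := by
    rw [← hRcard, ← orderOf_eq_card_of_forall_mem_zpowers hzgen, orderOf_mk]
  have ha : orderOf a₀ = 3 := orderOf_eq_three hle (hzord ▸ orderOf_map_dvd π a₀)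
  have hconj : ∀ v : G ⧸ N, v * π a₀ * v⁻¹ = π a₀ ∨ v * π a₀ * v⁻¹ = (π a₀)⁻¹ := by
    intro v
    obtain ⟨i, hi⟩ := mem_zpowers_iff.1 (hzgen ⟨_, hRn.conj_mem _ hzR v⟩)
    have hi' : π a₀ ^ i = v * π a₀ * v⁻¹ := congrArg Subtype.val hi
    rw [← hi']
    have h3 : π a₀ ^ (3 : ℤ) = 1 := by
      rw [show (3 : ℤ) = ((3 : ℕ) : ℤ) from rfl, zpow_natCast, ← hzord, pow_orderOf_eq_one]
    have hr : i % 3 = 0 ∨ i % 3 = 1 ∨ i % 3 = 2 := by omega
    have hz : π a₀ ^ i = π a₀ ^ (i % 3) := by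
      conv_lhs => rw [← Int.emod_add_mul_ediv i 3, zpow_add, zpow_mul, h3, one_zpow, mul_one]
    rcases hr with e | e | e <;> rw [hz, e]
    · exfalso
      rw [hz, e, zpow_zero, eq_comm, conj_eq_one_iff] at hi'
      rw [hi', orderOf_one] at hzord
      norm_num at hzord
    · exact Or.inl (zpow_one _)
    · right
      rw [eq_inv_iff_mul_eq_one, ← zpow_add_one]
      exact h3
  -- centralizing elements
  have hcent : ∀ g : G, π g * π a₀ * (π g)⁻¹ = π a₀ → ∃ i : ℤ, π g = π a₀ ^ i := by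
    intro g hg
    obtain ⟨g', hg', hgc⟩ := exists_lift_commute (M := N) (hfix a₀ ha) (g := g) (by
      rw [← map_eq_one_iff' N, map_mul, map_mul, map_mul, map_inv, map_inv, hg, mul_inv_cancel])
    have hπg : π g = π g' := QuotientGroup.eq.2 hg'
    by_cases h3 : 3 ∣ orderOf g'
    · -- then it lies in the Sylow subgroup containing `a₀`
      have hg3 := orderOf_eq_three hle h3
      have hpg : IsPGroup 3 (closure {a₀, g'}) := by
        haveI : IsMulCommutative (closure ({a₀, g'} : Set G)) := isMulCommutative_closure (by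
          rintro x (rfl | rfl) y (rfl | rfl)
          · rfl
          · exact hgc.symm.eq
          · exact hgc.eq
          · rfl)
        intro x
        refine ⟨1, ?_⟩
        have hx : (x : G) ^ 3 = 1 := by
          refine closure_induction (p := fun y _ => y ^ 3 = 1) ?_ (one_pow 3) ?_ ?_ x.2
          · rintro y (rfl | rfl)
            · rw [← ha]; exact pow_orderOf_eq_one _
            · rw [← hg3]; exact pow_orderOf_eq_one _
          · intro y w hy hw hy3 hw3
            rw [(show Commute y w from congrArg Subtype.val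
              (mul_comm' (⟨y, hy⟩ : closure ({a₀, g'} : Set G)) ⟨w, hw⟩)).mul_pow, hy3, hw3, one_mul]
          · intro y _ hy3
            rw [inv_pow, hy3, inv_one]
        exact Subtype.ext (by simpa using hx)
      obtain ⟨T, hT⟩ := hpg.exists_le_sylow
      have hTc : Nat.card (T : Subgroup G) = 3 := by
        rw [Sylow.card_eq_multiplicity T, ← Sylow.card_eq_multiplicity P, hPcard]
      have hza : zpowers a₀ = (T : Subgroup G) :=
        eq_of_le_of_card_ge (zpowers_le.2 (hT (subset_closure (Set.mem_insert _ _))))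
          (by rw [hTc, Nat.card_zpowers, ha])
      obtain ⟨i, hi⟩ := mem_zpowers_iff.1 (hza.symm ▸ hT (subset_closure (Set.mem_insert_of_mem _ rfl)))
      exact ⟨i, by rw [hπg, ← hi, map_zpow]⟩
    · have h1 : g' = 1 := eq_one_of_commute hle ha (two_pow_of_not_three hle h3) hgc.symm
      exact ⟨0, by rw [hπg, h1, map_one, zpow_zero]⟩
  have hex4 : Monoid.exponent N ∣ 4 := Monoid.exponent_dvd_of_forall_pow_eq_one fun n => by
    refine Subtype.ext ?_
    obtain ⟨k, hk⟩ := not_three_dvd_of_mem hN n.2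
    push_cast
    refine orderOf_dvd_iff_pow_eq_one.1 ?_
    rcases orderOf_cases hle (n : G) with e | e | e | e <;> rw [e] <;> try norm_num
    exfalso
    rw [e] at hk
    rcases k with _ | k
    · norm_num at hk
    · rw [pow_succ] at hk; omega
  -- class at most two
  have hclass : Group.nilpotencyClass N ≤ 2 ∧ (⊤ : Subgroup N).lowerCentralSeries 2 = ⊥ := by
    haveI : Group.IsNilpotent N := hN.isNilpotent
    let α : MulAut N := MulAut.conjNormal a₀
    have hfp : ∀ n : N, α n = n → n = 1 := fun n hn => by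
      refine Subtype.ext (hfix a₀ ha n n.2 ?_)
      have h1 := congrArg Subtype.val hn
      rw [MulAut.conjNormal_apply] at h1
      exact (mul_inv_eq_iff_eq_mul.1 h1).symm
    have hα1 : α ≠ 1 := fun e => hNb ((eq_bot_iff_forall N).2 fun m hm =>
      congrArg Subtype.val (hfp ⟨m, hm⟩ (by rw [e]; rfl)))
    have hαo : orderOf α = 3 := orderOf_eq_prime (by
      rw [← map_pow, ← ha, pow_orderOf_eq_one, map_one]) hα1
    have h2 := (Cfsg.Agent.S3779.result Nat.prime_three α hαo hfp).2.1 rfl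
    exact ⟨Subgroup.lowerCentralSeries_eq_bot_iff_nilpotencyClass_le.1 h2, h2⟩
  by_cases hall : ∀ v : G ⧸ N, v * π a₀ * v⁻¹ = π a₀
  · left
    have htop : zpowers (π a₀) = ⊤ := eq_top_iff.2 fun v _ => by
      obtain ⟨g, rfl⟩ := QuotientGroup.mk'_surjective N v
      obtain ⟨i, hi⟩ := hcent g (hall _)
      exact mem_zpowers_iff.2 ⟨i, hi.symm⟩
    have hidx : N.index = 3 := by
      rw [index_eq_card, ← Subgroup.card_top, ← htop, Nat.card_zpowers, hzord]
    refine ⟨hN, ?_, hclass.1, hidx⟩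
    have h4N : g₄ ∈ N := by
      refine (map_eq_one_iff' N g₄).1 (orderOf_eq_one_iff.1 ?_)
      refine Nat.eq_one_of_dvd_coprimes (show Nat.Coprime 3 4 by norm_num) ?_ (hg₄ ▸ orderOf_map_dvd π g₄)
      rw [← hidx, index_eq_card]
      exact orderOf_dvd_natCard _
    refine Nat.dvd_antisymm hex4 ?_
    rw [← hg₄, ← orderOf_mk g₄ h4N]
    exact Monoid.order_dvd_exponent _
  · right
    push Not at hall
    obtain ⟨v, hv⟩ := hall
    obtain ⟨g, rfl⟩ := QuotientGroup.mk'_surjective N v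
    have hginv := (hconj (π g)).resolve_left hv
    obtain ⟨n, hnN, hn⟩ := exists_conj_eq (M := N) (t := a₀⁻¹)
      (fun m hm hc => hfix a₀ ha m hm (Commute.inv_right_iff.1 hc).eq)
      (m := g * a₀ * g⁻¹ * a₀) (by
        rw [← map_eq_one_iff' N, map_mul, map_mul, map_mul, map_inv, hginv, inv_mul_cancel])
    rw [mul_inv_cancel_right] at hn
    set u := n⁻¹ * g with hudef
    have hua0 : u * a₀ * u⁻¹ = a₀⁻¹ := by
      calc u * a₀ * u⁻¹ = n⁻¹ * (g * a₀ * g⁻¹) * n := by rw [hudef]; group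
        _ = n⁻¹ * (n * a₀⁻¹ * n⁻¹) * n := by rw [hn]
        _ = a₀⁻¹ := by group
    have hπu : π u = π g := by
      rw [hudef, map_mul, map_inv, (map_eq_one_iff' N n).2 hnN, inv_one, one_mul]
    have hu3 : ¬ 3 ∣ orderOf u := fun h3 => by
      have h := orderOf_eq_three hle h3
      have hcu : Commute (u * u) a₀ := by
        show u * u * a₀ = a₀ * (u * u)
        calc u * u * a₀ = u * (u * a₀ * u⁻¹) * u := by group
          _ = u * a₀⁻¹ * u := by rw [hua0]
          _ = (u * a₀ * u⁻¹)⁻¹ * (u * u) := by group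
          _ = _ := by rw [hua0, inv_inv]
      have h33 : u * u * (u * u) = u := by
        calc u * u * (u * u) = u ^ 3 * u := by rw [pow_succ, pow_two]; group
          _ = u := by rw [← h, pow_orderOf_eq_one, one_mul]
      have h5 : Commute u a₀ := by rw [← h33]; exact hcu.mul_left hcu
      rw [h5.eq, mul_inv_cancel_right] at hua0
      have h6 : orderOf a₀ ∣ 2 := orderOf_dvd_of_pow_eq_one (by
        rw [pow_two]
        calc a₀ * a₀ = a₀ * a₀⁻¹ := by conv_lhs => arg 2; rw [hua0]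
          _ = 1 := mul_inv_cancel _)
      rw [ha] at h6
      norm_num at h6
    obtain ⟨k, hk⟩ := two_pow_of_not_three hle hu3
    have hu1 : u * u = 1 := by
      have hcu : Commute a₀ (u * u) := by
        show a₀ * (u * u) = u * u * a₀
        symm
        calc u * u * a₀ = u * (u * a₀ * u⁻¹) * u := by group
          _ = u * a₀⁻¹ * u := by rw [hua0]
          _ = (u * a₀ * u⁻¹)⁻¹ * (u * u) := by group
          _ = _ := by rw [hua0, inv_inv]
      refine eq_one_of_commute hle ha ?_ hcu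
      obtain ⟨j, -, hj⟩ := (Nat.dvd_prime_pow Nat.prime_two).1
        (hk ▸ (orderOf_pow_dvd 2 : orderOf (u ^ 2) ∣ orderOf u))
      exact ⟨j, by rw [← pow_two]; exact hj⟩
    have hu' : u⁻¹ = u := inv_eq_of_mul_eq_one_left hu1
    have hnot : ∀ m ∈ N, m * u ∉ N := fun m hm hmu => hv (by
      have huN : π g = 1 := by
        rw [← hπu]
        refine (map_eq_one_iff' N u).2 ?_
        have := mul_mem (inv_mem hm) hmu
        rwa [inv_mul_cancel_left] at this
      rw [huN, one_mul, inv_one, mul_one])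
    have hgen : ∀ x : G, x ∈ N ⊔ closure {a₀, u} := by
      intro x
      set L := N ⊔ closure {a₀, u}
      have key : ∀ y : G, (∃ i : ℤ, π y = π a₀ ^ i) → y ∈ L := by
        rintro y ⟨i, hi⟩
        have h1 : (a₀ ^ i)⁻¹ * y ∈ N := QuotientGroup.eq.1 (by
          rw [← map_zpow] at hi; exact hi.symm)
        rw [show y = a₀ ^ i * ((a₀ ^ i)⁻¹ * y) by group]
        exact mul_mem (mem_sup_right (zpow_mem (subset_closure (Set.mem_insert _ _)) i)) (mem_sup_left h1)
      rcases hconj (π x) with e | e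
      · exact key x (hcent x e)
      · have h1 := key (u * x) (hcent _ (by
          rw [map_mul, mul_inv_rev]
          calc π u * π x * π a₀ * ((π x)⁻¹ * (π u)⁻¹)
              = π u * (π x * π a₀ * (π x)⁻¹) * (π u)⁻¹ := by group
            _ = (π g * π a₀ * (π g)⁻¹)⁻¹ := by rw [e, hπu]; group
            _ = π a₀ := by rw [hginv, inv_inv]))
        have h2 := mul_mem (mem_sup_right (subset_closure (Set.mem_insert_of_mem _ rfl)) : u ∈ L) h1
        rwa [← mul_assoc, hu1, one_mul] at h2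
    have hcomm : ∀ x ∈ N, ∀ y ∈ N, ∀ m ∈ N, m * (x * y * x⁻¹ * y⁻¹) = x * y * x⁻¹ * y⁻¹ * m := by
      intro x hx y hy m hm
      have h1 : ⁅(⟨x, hx⟩ : N), (⟨y, hy⟩ : N)⁆ ∈ (⊤ : Subgroup N).lowerCentralSeries 1 :=
        commutator_mem_commutator (mem_top _) (mem_top _)
      have h2 : ⁅⁅(⟨x, hx⟩ : N), (⟨y, hy⟩ : N)⁆, (⟨m, hm⟩ : N)⁆ ∈ (⊤ : Subgroup N).lowerCentralSeries 2 :=
        commutator_mem_commutator h1 (mem_top _)
      rw [hclass.2, mem_bot, commutatorElement_eq_one_iff_mul_comm] at h2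
      exact (congrArg Subtype.val h2).symm
    refine ⟨elementary_two hle N hN ha hu1 (by conv_lhs => arg 2; rw [← hu']
                                               exact hua0) hnot hcomm hgen, ?_⟩
    have hQ : Nat.card (G ⧸ N) = 6 := by
      have h1 := (zpowers (π a₀)).index_mul_card
      have h2 : (zpowers (π a₀)).index = 2 := by
        refine index_eq_two_iff.2 ⟨π g, fun b => ?_⟩
        obtain ⟨y, rfl⟩ := QuotientGroup.mk'_surjective N b
        have hmem : ∀ y : G, π y ∈ zpowers (π a₀) ↔ π y * π a₀ * (π y)⁻¹ = π a₀ := by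
          intro y
          constructor
          · intro hy
            obtain ⟨i, hi⟩ := mem_zpowers_iff.1 hy
            rw [← hi, ((Commute.refl (π a₀)).zpow_left i).eq, mul_inv_cancel_right]
          · intro hy
            obtain ⟨i, hi⟩ := hcent y hy
            exact mem_zpowers_iff.2 ⟨i, hi.symm⟩
        rw [← map_mul, hmem, hmem, map_mul, mul_inv_rev]
        have h3 : π y * π g * π a₀ * ((π g)⁻¹ * (π y)⁻¹) = (π y * π a₀ * (π y)⁻¹)⁻¹ := by
          rw [show π y * π g * π a₀ * ((π g)⁻¹ * (π y)⁻¹) = π y * (π g * π a₀ * (π g)⁻¹) * (π y)⁻¹ by group,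
            hginv]
          group
        rw [h3]
        have hne : (π a₀)⁻¹ ≠ π a₀ := fun e => hv (hginv.trans e)
        rcases hconj (π y) with e | e <;> rw [e]
        · exact Or.inr ⟨rfl, hne⟩
        · exact Or.inl ⟨inv_inv _, hne⟩
      rw [h2, Nat.card_zpowers, hzord] at h1
      exact h1.symm
    refine equiv_perm hQ (s := π u) (c := π a₀) ?_ ?_
    · refine orderOf_eq_prime (by rw [← map_pow, pow_two, hu1, map_one]) ?_
      intro e
      exact hnot 1 N.one_mem (by rw [one_mul]; exact (map_eq_one_iff' N u).1 e)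
    · intro hc
      exact hv (by rw [← hπu, hc.eq, mul_inv_cancel_right])

theorem main (h : Set.range (orderOf : G → ℕ) = {k : ℕ | 1 ≤ k ∧ k ≤ 4}) :
    ∃ (N : Subgroup G) (_ : N.Normal),
      (IsPGroup 2 ↥N ∧ Monoid.exponent ↥N = 4 ∧ Group.nilpotencyClass ↥N ≤ 2 ∧ N.index = 3) ∨
      (IsElementaryAbelian 2 N ∧ Nonempty (G ⧸ N ≃* Equiv.Perm (Fin 3))) ∨
      (IsElementaryAbelian 3 N ∧ ((IsCyclic (G ⧸ N) ∧ N.index = 4) ∨ Nonempty (G ⧸ N ≃* QuaternionGroup 2))) := by
  have hle : ∀ g : G, orderOf g ≤ 4 := fun g => by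
    have : orderOf g ∈ Set.range (orderOf : G → ℕ) := ⟨g, rfl⟩
    rw [h] at this
    exact this.2
  obtain ⟨g₃, hg₃⟩ : (3 : ℕ) ∈ Set.range (orderOf : G → ℕ) := by rw [h]; exact ⟨by norm_num, by norm_num⟩
  obtain ⟨g₄, hg₄⟩ : (4 : ℕ) ∈ Set.range (orderOf : G → ℕ) := by rw [h]; exact ⟨by norm_num, le_rfl⟩
  have hprime : ∀ p : ℕ, p.Prime → p ∣ Nat.card G → p = 2 ∨ p = 3 := by
    intro p hp hd
    haveI := Fact.mk hp
    obtain ⟨g, hg⟩ := exists_prime_orderOf_dvd_card' p hd
    have h4 := hle g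
    rw [hg] at h4
    have h2 := hp.two_le
    interval_cases p
    · exact Or.inl rfl
    · exact Or.inr rfl
    · norm_num at hp
  haveI : Group.IsSolvable G := Core.isSolvable_of_primeFactors_card_le_two (by
    refine (Finset.card_le_card (s := (Nat.card G).primeFactors) (t := {2, 3}) fun p hp => ?_).trans
      (by simp)
    rw [Nat.mem_primeFactors] at hp
    simp only [Finset.mem_insert, Finset.mem_singleton]
    exact hprime p hp.1 hp.2.1)
  haveI : Nontrivial G := ⟨⟨g₃, 1, fun e => by rw [e, orderOf_one] at hg₃; norm_num at hg₃⟩⟩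
  obtain ⟨p, hp, N, hNn, hNb, hNp, hmax⟩ := exists_normal_prime_group hprime inferInstance
  haveI := hNn
  refine ⟨N, hNn, ?_⟩
  rcases hp with rfl | rfl
  · exact (two_case hle hg₃ hg₄ hprime N hNp hNb hmax).imp id Or.inl
  · exact Or.inr (Or.inr (three_case hle hg₄ hprime N hNp hNb hmax))

end Cfsg.Agent.FGS2.SpectrumFour
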