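import Cfsg.Agent.Core.ThompsonFPF
import Cfsg.Agent.Core.BurnsidePQ
import Cfsg.Agent.Core.MinimalNormal
import Cfsg.Agent.Core.Fitting

/-!
# Splitting automorphisms of prime order (Kegel)
-/

set_option autoImplicit false
set_option linter.style.haveILetI false

namespace Cfsg.Agent.FGS2.Splitting

open Cfsg
open Cfsg.Agent.Core

variable {G : Type*} [Group G]

/-- `x * φ x * φ² x * ⋯` with `k` factors. -/
def tw (φ : MulAut G) (x : G) : ℕ → G
  | 0 => 1
  | k + 1 => tw φ x k * (φ ^ k) x

/-- `φ` is splitting of exponent `p`. -/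
def Split (p : ℕ) (φ : MulAut G) : Prop := φ ^ p = 1 ∧ ∀ x, tw φ x p = 1

theorem tw_eq_list (φ : MulAut G) (x : G) (k : ℕ) :
    tw φ x k = ((List.range k).map (fun i : ℕ => (φ ^ i) x)).prod := by
  induction k with
  | zero => rfl
  | succ k ih => rw [tw, ih, List.range_succ, List.map_append, List.prod_append, List.map_singleton,
      List.prod_singleton]

theorem tw_of_fixed (φ : MulAut G) {x : G} (hx : φ x = x) : ∀ k, tw φ x k = x ^ k
  | 0 => (pow_zero x).symm
  | k + 1 => by
    have h : ∀ i : ℕ, (φ ^ i) x = x := fun i => by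
      induction i with
      | zero => rfl
      | succ i ih => rw [pow_succ, MulAut.mul_apply, hx, ih]
    rw [tw, tw_of_fixed φ hx k, h, pow_succ]

theorem pow_intertwine {H : Type*} [Group H] (f : G →* H) {φ : MulAut G} {ψ : MulAut H}
    (hf : ∀ x, f (φ x) = ψ (f x)) : ∀ (k : ℕ) (x : G), f ((φ ^ k) x) = (ψ ^ k) (f x)
  | 0, x => rfl
  | k + 1, x => by
    rw [pow_succ, MulAut.mul_apply, pow_intertwine f hf k, hf, pow_succ, MulAut.mul_apply]

theorem tw_intertwine {H : Type*} [Group H] (f : G →* H) {φ : MulAut G} {ψ : MulAut H}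
    (hf : ∀ x, f (φ x) = ψ (f x)) (x : G) : ∀ k, f (tw φ x k) = tw ψ (f x) k
  | 0 => map_one f
  | k + 1 => by rw [tw, tw, map_mul, tw_intertwine f hf x k, pow_intertwine f hf]

theorem split_of_injective {H : Type*} [Group H] (f : G →* H) (hinj : Function.Injective f)
    {φ : MulAut G} {ψ : MulAut H} (hf : ∀ x, f (φ x) = ψ (f x)) {p : ℕ} (h : Split p ψ) :
    Split p φ := by
  refine ⟨MulEquiv.ext fun x => hinj ?_, fun x => hinj ?_⟩
  · rw [pow_intertwine f hf, h.1]; rfl
  · rw [tw_intertwine f hf, h.2, map_one]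

theorem split_of_surjective {H : Type*} [Group H] (f : G →* H) (hsurj : Function.Surjective f)
    {φ : MulAut G} {ψ : MulAut H} (hf : ∀ x, f (φ x) = ψ (f x)) {p : ℕ} (h : Split p φ) :
    Split p ψ := by
  refine ⟨MulEquiv.ext fun y => ?_, fun y => ?_⟩ <;> obtain ⟨x, rfl⟩ := hsurj y
  · rw [← pow_intertwine f hf, h.1]; rfl
  · rw [← tw_intertwine f hf, h.2, map_one]

theorem twist (φ : MulAut G) (g : G) : ∀ k : ℕ,
    (∀ y, ((MulAut.conj g * φ) ^ k) y = tw φ g k * (φ ^ k) y * (tw φ g k)⁻¹) ∧
      ∀ x, tw φ (x * g) k = tw (MulAut.conj g * φ) x k * tw φ g k := by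
  intro k
  induction k with
  | zero => exact ⟨fun y => by simp [tw], fun x => by simp [tw]⟩
  | succ k ih =>
    refine ⟨fun y => ?_, fun x => ?_⟩
    · rw [pow_succ, MulAut.mul_apply, ih.1]
      rw [tw, pow_succ φ, MulAut.mul_apply, MulAut.mul_apply, MulAut.conj_apply, map_mul, map_mul,
        map_inv]
      group
    · rw [tw, tw, tw, ih.2, ih.1, map_mul]
      group

theorem Split.twist {p : ℕ} {φ : MulAut G} (h : Split p φ) (g : G) :
    Split p (MulAut.conj g * φ) := by
  refine ⟨MulEquiv.ext fun y => ?_, fun x => ?_⟩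
  · rw [(Splitting.twist φ g p).1, h.1, h.2 g]; simp
  · have := (Splitting.twist φ g p).2 x
    rw [h.2, h.2 g, mul_one] at this
    exact this.symm

theorem prod_range_mul_pow {M N : Type*} [Monoid M] [CommMonoid N] {p : ℕ} (hp : p.Prime) {a : M}
    (ha : a ^ p = 1) {i : ℕ} (hi : ¬ p ∣ i) (f : M → N) :
    ∏ j ∈ Finset.range p, f (a ^ (i * j)) = ∏ j ∈ Finset.range p, f (a ^ j) := by
  have hmod : ∀ m : ℕ, a ^ m = a ^ (m % p) := fun m => pow_eq_pow_mod m ha
  refine Finset.prod_nbij (fun j => i * j % p) ?_ ?_ ?_ ?_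
  · intro j _; exact Finset.mem_range.mpr (Nat.mod_lt _ hp.pos)
  · intro j hj k hk hjk
    simp only [Finset.coe_range, Set.mem_Iio] at hj hk
    have h1 : j ≡ k [MOD p] :=
      Nat.ModEq.cancel_left_of_coprime (hp.coprime_iff_not_dvd.mpr hi) (hjk : i * j ≡ i * k [MOD p])
    exact Nat.ModEq.eq_of_lt_of_lt h1 hj hk
  · intro k hk
    simp only [Finset.coe_range, Set.mem_Iio] at hk
    obtain ⟨m, hm⟩ := Nat.exists_mul_mod_eq_one_of_coprime (hp.coprime_iff_not_dvd.mpr hi).symm
      hp.one_lt
    refine ⟨m * k % p, by simpa using Nat.mod_lt _ hp.pos, ?_⟩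
    show i * (m * k % p) % p = k
    rw [Nat.mul_mod_mod, ← mul_assoc, Nat.mul_mod, hm.2, one_mul, Nat.mod_mod, Nat.mod_eq_of_lt hk]
  · intro j _; rw [← hmod]

variable [Finite G]

theorem map_pResidual_eq (q : ℕ) (φ : MulAut G) :
    (pResidual q G).map φ.toMonoidHom = pResidual q G :=
  Subgroup.characteristic_iff_map_eq.mp inferInstance φ

/-- The core step: `G = R S`. -/
theorem core {p r s : ℕ} [Fact p.Prime] [Fact r.Prime] [Fact s.Prime] (hrs : r ≠ s) {φ : MulAut G}
    (h : Split p φ) (hps : p ∣ Nat.card G)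
    {R : Subgroup G} [R.Normal] (hR : IsPGroup r R) (hRc : IsMulCommutative R) (hRne : R ≠ ⊥)
    (hRφ : R.map φ.toMonoidHom = R)
    (S : Sylow s G) (hSne : (S : Subgroup G) ≠ ⊥)
    (hSφ : (S : Subgroup G).map φ.toMonoidHom = (S : Subgroup G))
    (hsup : R ⊔ (S : Subgroup G) = ⊤) (hz : Subgroup.center G = ⊥) : False := by
  classical
  have hp := (Fact.out : p.Prime)
  letI : CommGroup R := { (inferInstance : Group R) with mul_comm := hRc.1.1 }
  set B : MulAut R := ThompsonFPF.restrict φ R hRφ with hB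
  have hBv : ∀ (i : ℕ) (v : R), (((B ^ i) v : R) : G) = (φ ^ i) (v : G) := fun i v =>
    pow_intertwine R.subtype (φ := B) (ψ := φ) (fun _ => rfl) i v
  let c : G →* MulAut R := MulAut.conjNormal
  have hc : ∀ (y : G) (v : R), ((c y v : R) : G) = y * v * y⁻¹ := fun y v => MulAut.conjNormal_apply y v
  have hN : ∀ v : R, ∏ i ∈ Finset.range p, (B ^ i) v = 1 := by
    intro v
    apply Subtype.ext
    have hk : ∀ k, ((∏ i ∈ Finset.range k, (B ^ i) v : R) : G) = tw φ (v : G) k := by
      intro k
      induction k with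
      | zero => rfl
      | succ k ih => rw [Finset.prod_range_succ, Subgroup.coe_mul, ih, hBv]; rfl
    rw [hk, h.2]; rfl
  have hfix : ∀ x : G, φ x = x → x ^ p = 1 := fun x hx => (tw_of_fixed φ hx p).symm.trans (h.2 x)
  -- elements of `R` centralized by `S` are trivial
  have hcent : ∀ w : R, (∀ y ∈ (S : Subgroup G), c y w = w) → w = 1 := by
    intro w hw
    have : (w : G) ∈ Subgroup.center G := by
      rw [Subgroup.mem_center_iff]
      intro g
      have hle : R ⊔ (S : Subgroup G) ≤ Subgroup.centralizer ({(w : G)} : Set G) := by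
        refine sup_le (fun x hx => ?_) (fun y hy => ?_)
        · exact Subgroup.mem_centralizer_singleton_iff.mpr
            (congrArg Subtype.val (mul_comm (⟨x, hx⟩ : R) w))
        · refine Subgroup.mem_centralizer_singleton_iff.mpr ?_
          have h1 := congrArg Subtype.val (hw y hy)
          rw [hc, mul_inv_eq_iff_eq_mul] at h1
          exact h1
      exact Subgroup.mem_centralizer_singleton_iff.mp (hle (hsup ▸ Subgroup.mem_top g))
    rw [hz, Subgroup.mem_bot] at this
    exact Subtype.ext this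
  by_cases hsp : s = p
  · subst hsp
    -- a fixed central element of `S` of order `p`
    set C : Subgroup G := (S : Subgroup G) ⊓ Subgroup.centralizer ((S : Subgroup G) : Set G) with hC
    have hCφ : C.map φ.toMonoidHom = C := by
      rw [hC, ThompsonComplement.centre_map _ φ.injective.injOn, hSφ]
    have : Nontrivial (S : Subgroup G) := (Subgroup.nontrivial_iff_ne_bot _).mpr hSne
    have := S.isPGroup'.center_nontrivial
    obtain ⟨⟨⟨z₀, hz₀⟩, hz₀c⟩, hz₀1⟩ := exists_ne (1 : Subgroup.center (S : Subgroup G))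
    have hCne : C ≠ ⊥ := by
      intro hb
      have hz₀C : z₀ ∈ C := ⟨hz₀, Subgroup.mem_centralizer_iff.mpr fun y hy =>
        congrArg Subtype.val (Subgroup.mem_center_iff.mp hz₀c ⟨y, hy⟩)⟩
      rw [hb, Subgroup.mem_bot] at hz₀C
      exact hz₀1 (Subtype.ext (Subtype.ext hz₀C))
    haveI := Fintype.ofFinite C
    have hpC : s ∣ Fintype.card C := by
      rw [← Nat.card_eq_fintype_card]
      have hCs : IsPGroup s C := S.isPGroup'.to_le inf_le_left
      obtain ⟨k, hk⟩ := IsPGroup.iff_card.mp hCs
      rcases k with _ | k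
      · exact absurd (Subgroup.eq_bot_of_card_eq C (by rw [hk, pow_zero])) hCne
      · rw [hk]; exact dvd_pow_self s (Nat.succ_ne_zero k)
    let σ : MulAut C := ThompsonFPF.restrict φ C hCφ
    have hσ : σ ^ s = 1 := (split_of_injective C.subtype C.subtype_injective
      (φ := σ) (ψ := φ) (fun _ => rfl) h).1
    have hperm : ((MulAut.toPerm C σ) : Equiv.Perm C) ^ s ^ 1 = 1 := by
      rw [pow_one, ← map_pow, hσ, map_one]
    obtain ⟨⟨z, hzS, hzC⟩, hzfix, hz1⟩ := Equiv.Perm.exists_fixed_point_of_prime' hpC hperm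
      (a := 1) (map_one σ)
    have hzφ : φ z = z := congrArg Subtype.val hzfix
    have hzp : z ^ s = 1 := hfix z hzφ
    set A : MulAut R := c z with hA
    have hAp : A ^ s = 1 := by rw [hA, ← map_pow, hzp, map_one]
    have key : ∀ v : R, A v = v := by
      intro v
      let N : R → R := fun w => ∏ j ∈ Finset.range s, (A ^ j) w
      have hNmul : ∀ a b : R, N (a * b) = N a * N b := fun a b => by
        simp only [N, map_mul, Finset.prod_mul_distrib]
      have h1 : ∀ j : ℕ, ∏ i ∈ Finset.range s, (A ^ (i * j)) ((B ^ i) v) = 1 := by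
        intro j
        apply Subtype.ext
        have hsp' : Split s (MulAut.conj (z ^ j) * φ) := h.twist (z ^ j)
        have hk : ∀ k, ((∏ i ∈ Finset.range k, (A ^ (i * j)) ((B ^ i) v) : R) : G) =
            tw (MulAut.conj (z ^ j) * φ) (v : G) k := by
          intro k
          induction k with
          | zero => rfl
          | succ k ih =>
            rw [Finset.prod_range_succ, Subgroup.coe_mul, ih, tw, hA, ← map_pow, hc, hBv,
              (twist φ (z ^ j) k).1, tw_of_fixed φ (by rw [map_pow, hzφ]) k, ← pow_mul, mul_comm k j]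
        rw [hk, hsp'.2]; rfl
      have h2 : ∏ i ∈ Finset.range s, ∏ j ∈ Finset.range s, (A ^ (i * j)) ((B ^ i) v) = 1 := by
        rw [Finset.prod_comm]
        exact Finset.prod_eq_one fun j _ => h1 j
      have h3 : ∏ i ∈ Finset.range s, N ((B ^ i) v) = 1 := by
        have hN1 : N 1 = 1 := Finset.prod_eq_one fun j _ => map_one _
        rw [← hN1, ← hN v]
        exact (map_prod (MonoidHom.mk' N hNmul) (fun i => (B ^ i) v) (Finset.range s)).symm
      obtain ⟨s', hs'⟩ : ∃ s', s = s' + 1 := ⟨s - 1, by have := hp.pos; omega⟩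
      have h4 : v ^ s = N v := by
        have e : ∀ i ∈ Finset.range s', ∏ j ∈ Finset.range s, (A ^ ((i + 1) * j)) ((B ^ (i + 1)) v) =
            N ((B ^ (i + 1)) v) := fun i hi => by
          have hi' := Finset.mem_range.mp hi
          exact prod_range_mul_pow hp hAp
            (fun hd => absurd (Nat.le_of_dvd (Nat.succ_pos i) hd) (by omega))
            (fun a : MulAut R => a ((B ^ (i + 1)) v))
        conv at h2 => lhs; arg 1; rw [hs']
        conv at h3 => lhs; arg 1; rw [hs']
        rw [Finset.prod_range_succ', Finset.prod_congr rfl e] at h2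
        rw [Finset.prod_range_succ'] at h3
        have e0 : ∏ j ∈ Finset.range s, (A ^ (0 * j)) ((B ^ 0) v) = v ^ s := by
          simp
        rw [e0] at h2
        rw [pow_zero, MulAut.one_apply] at h3
        exact mul_left_cancel (h2.trans h3.symm)
      have h5 : A (v ^ s) = v ^ s := by
        have e1 := Finset.prod_range_succ' (fun j => (A ^ j) v) s
        have e2 := Finset.prod_range_succ (fun j => (A ^ j) v) s
        rw [e2, hAp, pow_zero, MulAut.one_apply] at e1
        rw [h4]
        show A (∏ j ∈ Finset.range s, (A ^ j) v) = _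
        rw [map_prod]
        refine ((mul_right_cancel e1).trans (Finset.prod_congr rfl fun i _ => ?_)).symm
        rw [pow_succ', MulAut.mul_apply]
      rw [map_pow] at h5
      have hco : (Nat.card R).Coprime s := by
        obtain ⟨k, hk⟩ := IsPGroup.iff_card.mp hR
        rw [hk]
        exact Nat.Coprime.pow_left k ((Nat.coprime_primes Fact.out Fact.out).mpr hrs)
      exact (powCoprime hco).injective h5
    have hzG : z ∈ Subgroup.center G := by
      rw [Subgroup.mem_center_iff]
      intro g
      have hle : R ⊔ (S : Subgroup G) ≤ Subgroup.centralizer ({z} : Set G) := by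
        refine sup_le (fun x hx => ?_) (fun y hy => ?_)
        · refine Subgroup.mem_centralizer_singleton_iff.mpr ?_
          have h1 := congrArg Subtype.val (key ⟨x, hx⟩)
          rw [hc, mul_inv_eq_iff_eq_mul] at h1
          exact h1.symm
        · exact Subgroup.mem_centralizer_singleton_iff.mpr (Subgroup.mem_centralizer_iff.mp hzC y hy)
      exact Subgroup.mem_centralizer_singleton_iff.mp (hle (hsup ▸ Subgroup.mem_top g))
    rw [hz, Subgroup.mem_bot] at hzG
    exact hz1 (Subtype.ext hzG)
  · -- `φ` is fixed-point-free on `S`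
    haveI := Fintype.ofFinite (S : Subgroup G)
    set φS : MulAut (S : Subgroup G) := ThompsonFPF.restrict φ _ hSφ with hφS
    have hφSi : ∀ (i : ℕ) (y : (S : Subgroup G)), (((φS ^ i) y : (S : Subgroup G)) : G) = (φ ^ i) (y : G) :=
      fun i y => pow_intertwine (S : Subgroup G).subtype (φ := φS) (ψ := φ) (fun _ => rfl) i y
    let b : ℕ → ↥(↑S : Subgroup G) → ↥(↑S : Subgroup G) := fun i y => y * ((φS ^ i) y)⁻¹
    have hbij : ∀ i, ¬ p ∣ i → Function.Bijective (b i) := by
      intro i hi
      rw [← Finite.injective_iff_bijective]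
      intro y z hyz
      simp only [b] at hyz
      have h1 : z⁻¹ * y = (φS ^ i) (z⁻¹ * y) := by
        rw [map_mul, map_inv]
        calc z⁻¹ * y = z⁻¹ * (y * ((φS ^ i) y)⁻¹) * (φS ^ i) y := by group
          _ = _ := by rw [hyz]; group
      have h2 : (φ ^ i) ((z⁻¹ * y : (S : Subgroup G)) : G) = ((z⁻¹ * y : (S : Subgroup G)) : G) := by
        rw [← hφSi, ← h1]
      obtain ⟨j, hj⟩ := Nat.exists_mul_mod_eq_one_of_coprime
        ((hp.coprime_iff_not_dvd.mpr hi).symm) hp.one_lt
      set w := ((z⁻¹ * y : (S : Subgroup G)) : G) with hw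
      have e : ∀ m : ℕ, (φ ^ (i * m)) w = w := by
        intro m
        induction m with
        | zero => simp
        | succ m ih => rw [mul_add_one, pow_add, MulAut.mul_apply, h2, ih]
      have h3 : φ w = w := by
        have := e j
        rwa [pow_eq_pow_mod _ h.1, hj.2, pow_one] at this
      have h4 := hfix w h3
      obtain ⟨k, hk⟩ := IsPGroup.iff_orderOf.mp S.isPGroup' (z⁻¹ * y)
      rw [← Subgroup.orderOf_coe, ← hw] at hk
      have h5 : orderOf w = 1 := Nat.eq_one_of_dvd_coprimes
        (Nat.Coprime.pow_left k ((Nat.coprime_primes Fact.out Fact.out).mpr hsp))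
        hk.dvd (orderOf_dvd_of_pow_eq_one h4)
      exact (inv_mul_eq_one.mp (Subtype.ext (orderOf_eq_one_iff.mp h5) : z⁻¹ * y = 1)).symm
    have hall : ∀ v : R, v = 1 := by
      intro v
      have h1 : ∀ t : (S : Subgroup G), ∏ i ∈ Finset.range p, c (b i t : G) ((B ^ i) v) = 1 := by
        intro t
        have e : ∀ i, c (b i t : G) ((B ^ i) v) = c (t : G) ((B ^ i) (c ((t : G)⁻¹) v)) := by
          intro i
          apply Subtype.ext
          rw [hc, hc, hBv, hBv, hc]
          simp only [b, Subgroup.coe_mul, Subgroup.coe_inv, hφSi, map_mul, map_inv, inv_inv]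
          group
        simp only [e]
        rw [← map_prod, hN, map_one]
      obtain ⟨p', hp'⟩ : ∃ p', p = p' + 1 := ⟨p - 1, by have := hp.pos; omega⟩
      have h2 : ∏ i ∈ Finset.range p, ∏ t : (S : Subgroup G), c (b i t : G) ((B ^ i) v) = 1 := by
        rw [Finset.prod_comm]
        exact Finset.prod_eq_one fun t _ => h1 t
      conv at h2 => lhs; arg 1; rw [hp']
      rw [Finset.prod_range_succ'] at h2
      rw [Finset.prod_eq_one (fun i hi => ?_), one_mul] at h2
      · have e0 : ∏ t : (S : Subgroup G), c (b 0 t : G) ((B ^ 0) v) = v ^ Fintype.card (S : Subgroup G) := by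
          simp [b, c]
        rw [e0, ← Nat.card_eq_fintype_card] at h2
        obtain ⟨k, hk⟩ := IsPGroup.iff_card.mp hR
        obtain ⟨m, hm⟩ := IsPGroup.iff_card.mp S.isPGroup'
        have h6 : orderOf v = 1 := Nat.eq_one_of_dvd_coprimes
          (Nat.Coprime.pow k m ((Nat.coprime_primes Fact.out Fact.out).mpr hrs))
          (hk ▸ orderOf_dvd_natCard v) (hm ▸ orderOf_dvd_of_pow_eq_one h2)
        exact orderOf_eq_one_iff.mp h6
      · have hi' := Finset.mem_range.mp hi
        have hnd : ¬ p ∣ i + 1 := fun hd => absurd (Nat.le_of_dvd (Nat.succ_pos i) hd) (by omega)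
        rw [(hbij _ hnd).prod_comp (fun y : (S : Subgroup G) => c (y : G) ((B ^ (i + 1)) v))]
        refine hcent _ fun y hy => ?_
        rw [map_prod]
        refine Fintype.prod_equiv (Equiv.mulLeft (⟨y, hy⟩ : (S : Subgroup G))) _ _ fun t => ?_
        simp only [Equiv.coe_mulLeft, Subgroup.coe_mul, map_mul, MulAut.mul_apply]
    obtain ⟨x, hx, hx1⟩ := R.bot_or_exists_ne_one.resolve_left hRne
    exact hx1 (congrArg Subtype.val (hall ⟨x, hx⟩))

theorem aux (n : ℕ) : ∀ {G : Type*} [Group G] [Finite G], Nat.card G = n →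
    ∀ {p : ℕ} [Fact p.Prime] (φ : MulAut G), Split p φ → Group.IsNilpotent G := by
  induction n using Nat.strong_induction_on with
  | _ n ih =>
  intro G _ _ hn p _ φ h
  classical
  have hp := (Fact.out : p.Prime)
  by_contra hnn
  -- proper invariant subgroups and quotients are nilpotent
  have hsub : ∀ (ψ : MulAut G), Split p ψ → ∀ H : Subgroup G, H.map ψ.toMonoidHom = H → H ≠ ⊤ →
      Group.IsNilpotent H := fun ψ hψ H hH hHt =>
    ih (Nat.card H) (hn ▸ lt_of_le_of_ne (Subgroup.card_le_card_group H)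
      (fun e => hHt ((Subgroup.card_eq_iff_eq_top H).mp e))) rfl (ThompsonFPF.restrict ψ H hH)
      (split_of_injective H.subtype H.subtype_injective (fun _ => rfl) hψ)
  have hquot : ∀ N : Subgroup G, ∀ [N.Normal], N.map φ.toMonoidHom = N → N ≠ ⊥ →
      Group.IsNilpotent (G ⧸ N) := by
    intro N _ hN hNb
    refine ih (Nat.card (G ⧸ N)) (hn ▸ ?_) rfl (QuotientGroup.congr N N φ hN)
      (split_of_surjective (QuotientGroup.mk' N) (QuotientGroup.mk'_surjective N) (fun _ => rfl) h)
    rw [← Subgroup.index_mul_card N, ← Subgroup.index_eq_card]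
    have : 1 < Nat.card N := N.one_lt_card_iff_ne_bot.mpr hNb
    exact lt_mul_of_one_lt_right (Nat.pos_of_ne_zero Subgroup.index_ne_zero_of_finite) this
  have hfix : ∀ x : G, φ x = x → x ^ p = 1 := fun x hx => (tw_of_fixed φ hx p).symm.trans (h.2 x)
  have hpd : p ∣ Nat.card G := by
    by_contra hpd
    refine hnn (ThompsonFPF.isNilpotent_of_fpf hp φ (fun x hx => ?_) fun x => ?_)
    · exact orderOf_eq_one_iff.mp (Nat.eq_one_of_dvd_coprimes (hp.coprime_iff_not_dvd.mpr hpd)
        (orderOf_dvd_of_pow_eq_one (hfix x hx)) (orderOf_dvd_natCard x))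
    · rw [ThompsonFPF.iterate_eq_pow, h.1]; rfl
  have hz : Subgroup.center G = ⊥ := by
    by_contra hz
    exact hnn (Group.of_quotient_center_nilpotent
      (hquot _ (Subgroup.characteristic_iff_map_eq.mp inferInstance φ) hz))
  have hback : ∀ (g : G) (N : Subgroup G), N.Normal → N.map (MulAut.conj g * φ).toMonoidHom = N →
      N.map φ.toMonoidHom = N := by
    intro g N hN hgN
    refine ThompsonFPF.map_eq_of_le ?_
    rintro _ ⟨x, hx, rfl⟩
    have h1 : (MulAut.conj g * φ) x ∈ N := hgN ▸ Subgroup.mem_map_of_mem _ hx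
    simpa [mul_assoc] using hN.conj_mem _ h1 g⁻¹
  have hinvS : ∀ (s : ℕ) [Fact s.Prime], ∃ (g : G) (S : Sylow s G),
      (S : Subgroup G).map (MulAut.conj g * φ).toMonoidHom = (S : Subgroup G) := by
    intro s _
    obtain ⟨S⟩ : Nonempty (Sylow s G) := inferInstance
    obtain ⟨g, hg⟩ := MulAction.exists_smul_eq G (S.mapSurjective (f := φ.toMonoidHom) φ.surjective) S
    refine ⟨g, S, ?_⟩
    conv_rhs => rw [← hg]
    rw [Sylow.coe_subgroup_smul]
    exact (Subgroup.map_map _ (MulAut.conj g).toMonoidHom φ.toMonoidHom).symm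
  -- solvability
  have hsolv : Group.IsSolvable G := by
    by_contra hns
    have hnorm : ∀ N : Subgroup G, N.Normal → N.map φ.toMonoidHom = N → N = ⊥ ∨ N = ⊤ := by
      intro N hN hNφ
      by_contra hc
      rw [not_or] at hc
      have := hsub φ h N hNφ hc.2
      have := hquot N hNφ hc.1
      exact hns (Group.isSolvable_of_ker_le_range N.subtype (QuotientGroup.mk' N)
        (by rw [QuotientGroup.ker_mk', Subgroup.range_subtype]))
    have hodd : ∀ q : ℕ, q.Prime → q ≠ p → q ∣ Nat.card G → q = 2 := by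
      intro q hq hqp hqd
      by_contra hq2
      haveI := Fact.mk hq
      obtain ⟨g, Q, hQ⟩ := hinvS q
      set β := MulAut.conj g * φ with hβ
      have hQp := Q.isPGroup'
      have hQne := Q.ne_bot_of_dvd_card hqd
      have hQnt : (Q : Subgroup G) ≠ ⊤ := fun ht => by
        rw [ht] at hQp
        exact hnn (hQp.of_equiv Subgroup.topEquiv).isNilpotent
      have hJ : HasNormalPComplement q
          (Subgroup.normalizer (thompsonSubgroupOf q (Q : Subgroup G) : Set G)) := by
        set J := thompsonSubgroupOf q (Q : Subgroup G) with hJd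
        have hJm : J.map β.toMonoidHom = J := by
          rw [hJd, ThompsonComplement.thompsonSubgroupOf_map _ β.injective.injOn, hQ]
        by_cases ht : Subgroup.normalizer (J : Set G) = ⊤
        · exfalso
          have hJn : J.Normal := Subgroup.normalizer_eq_top_iff.mp ht
          rcases hnorm J hJn (hback g J hJn hJm) with h1 | h1
          · exact ThompsonComplement.thompsonSubgroupOf_ne_bot hQp hQne h1
          · exact hQnt (top_le_iff.mp (h1 ▸ ThompsonComplement.thompsonSubgroupOf_le_self q _))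
        · have := hsub β (h.twist g) _
            (by rw [Subgroup.map_equiv_normalizer_eq J β, hJm]) ht
          exact ThompsonFPF.hasNormalPComplement_of_isNilpotent
      have hZ : HasNormalPComplement q (Subgroup.centralizer
          (((Q : Subgroup G) ⊓ Subgroup.centralizer (Q : Set G) : Subgroup G) : Set G)) := by
        set Z := (Q : Subgroup G) ⊓ Subgroup.centralizer ((Q : Subgroup G) : Set G) with hZd
        have hZm : Z.map β.toMonoidHom = Z := by
          rw [hZd, ThompsonComplement.centre_map _ β.injective.injOn, hQ]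
        by_cases ht : Subgroup.centralizer (Z : Set G) = ⊤
        · exfalso
          have hZc : Z ≤ Subgroup.center G := fun x hx => Subgroup.mem_center_iff.mpr fun y =>
            (Subgroup.mem_centralizer_iff.mp (ht ▸ Subgroup.mem_top y) x hx).symm
          rw [hz, le_bot_iff] at hZc
          have : Nontrivial (Q : Subgroup G) := (Subgroup.nontrivial_iff_ne_bot _).mpr hQne
          have := hQp.center_nontrivial
          obtain ⟨⟨⟨z₀, hz₀⟩, hz₀c⟩, hz₀1⟩ := exists_ne (1 : Subgroup.center (Q : Subgroup G))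
          have hz₀Z : z₀ ∈ Z := ⟨hz₀, Subgroup.mem_centralizer_iff.mpr fun y hy =>
            congrArg Subtype.val (Subgroup.mem_center_iff.mp hz₀c ⟨y, hy⟩)⟩
          rw [hZc, Subgroup.mem_bot] at hz₀Z
          exact hz₀1 (Subtype.ext (Subtype.ext hz₀Z))
        · refine @ThompsonFPF.hasNormalPComplement_of_isNilpotent _ _ _ q _
            (hsub β (h.twist g) _ ?_ ht)
          refine ThompsonFPF.map_eq_of_le ?_
          rintro _ ⟨x, hx, rfl⟩
          refine Subgroup.mem_centralizer_iff.mpr fun y hy => ?_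
          obtain ⟨w, hw, rfl⟩ : y ∈ Z.map β.toMonoidHom := hZm.symm ▸ hy
          rw [← map_mul, ← map_mul, Subgroup.mem_centralizer_iff.mp hx w hw]
      have hcomp := ThompsonComplement.hasNormalPComplement_of_thompson hq2 Q hJ hZ
      have hc' := Transfer.isComplement'_pResidual Q hcomp
      rcases hnorm (pResidual q G) inferInstance (map_pResidual_eq q φ) with h1 | h1
      · rw [h1, Subgroup.isComplement'_bot_left] at hc'
        exact hQnt hc'
      · rw [h1, Subgroup.isComplement'_top_left] at hc'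
        exact hQne hc'
    refine hns (isSolvable_of_primeFactors_card_le_two ?_)
    refine (Finset.card_le_card (?_ : _ ⊆ ({2, p} : Finset ℕ))).trans Finset.card_le_two
    intro q hq
    rw [Nat.mem_primeFactors] at hq
    by_cases hqp : q = p
    · simp [hqp]
    · simp [hodd q hq.1 hqp hq.2.1]
  -- the nilpotent-by-nilpotent case
  haveI : Nontrivial G := by
    by_contra hc
    rw [not_nontrivial_iff_subsingleton] at hc
    exact hnn inferInstance
  obtain ⟨M, hM⟩ := exists_isMinNormal (G := G)
  obtain ⟨-, r, hr, -, hMr⟩ := hM.elementaryAbelian_of_isSolvable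
  haveI := Fact.mk hr
  set R := pCore r G with hRdef
  have hRp : IsPGroup r R := isPGroup_pCore r G
  have hRne : R ≠ ⊥ := fun hb => hM.2.1 (le_bot_iff.mp (hb ▸ le_pCore hM.1 hMr))
  have hRφ : R.map φ.toMonoidHom = R := pCore_map_equiv φ
  have hRn : Group.IsNilpotent (G ⧸ R) := hquot R hRφ hRne
  have hRsyl : ∀ P : Sylow r G, (P : Subgroup G) = R := by
    intro P
    refine le_antisymm ?_ (pCore_le_sylow P)
    have hP : ((P : Subgroup G).map (QuotientGroup.mk' R)).Normal :=
      isNilpotent_iff_forall_sylow_normal.mp hRn r inferInstance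
        (P.mapSurjective (QuotientGroup.mk'_surjective R))
    have h2 := hP.comap (QuotientGroup.mk' R)
    rw [Subgroup.comap_map_eq, QuotientGroup.ker_mk', sup_eq_left.mpr (pCore_le_sylow P)] at h2
    exact le_pCore h2 P.isPGroup'
  obtain ⟨s, hsF, S₀, hS₀⟩ : ∃ (s : ℕ) (_ : Fact s.Prime) (S : Sylow s G), ¬ (S : Subgroup G).Normal := by
    by_contra hc
    push Not at hc
    exact hnn (isNilpotent_of_sylow_normal hc)
  have hrs : r ≠ s := by
    rintro rfl
    exact hS₀ (by rw [hRsyl S₀]; infer_instance)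
  obtain ⟨g, S, hS⟩ := hinvS s
  set β := MulAut.conj g * φ with hβ
  have hSn : ¬ (S : Subgroup G).Normal := by
    intro hn'
    have : Subsingleton (Sylow s G) := (Sylow.unique_of_normal S hn').instSubsingleton
    exact hS₀ (Subsingleton.elim S S₀ ▸ hn')
  have hRβ : R.map β.toMonoidHom = R := pCore_map_equiv β
  have hU : ∀ V : Subgroup G, V.Normal → V ≤ R → V.map β.toMonoidHom = V → V ≠ ⊥ →
      V ⊔ (S : Subgroup G) = ⊤ := by
    intro V hV hVR hVβ hVne
    haveI := hV
    have hVn : Group.IsNilpotent (G ⧸ V) := hquot V (hback g V hV hVβ) hVne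
    have hSm : ((S : Subgroup G).map (QuotientGroup.mk' V)).Normal :=
      isNilpotent_iff_forall_sylow_normal.mp hVn s hsF
        (S.mapSurjective (QuotientGroup.mk'_surjective V))
    have hVS := hSm.comap (QuotientGroup.mk' V)
    rw [Subgroup.comap_map_eq, QuotientGroup.ker_mk', sup_comm] at hVS
    by_contra hne
    have hnil := hsub β (h.twist g) (V ⊔ S) (by rw [Subgroup.map_sup, hVβ, hS]) hne
    let S' : Sylow s ↥(V ⊔ (S : Subgroup G)) := S.subtype le_sup_right
    have hS'n : (S' : Subgroup ↥(V ⊔ (S : Subgroup G))).Normal :=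
      isNilpotent_iff_forall_sylow_normal.mp hnil s hsF S'
    haveI : (S' : Subgroup ↥(V ⊔ (S : Subgroup G))).Characteristic :=
      Sylow.characteristic_of_normal S' hS'n
    haveI := hVS
    have h2 : ((S' : Subgroup ↥(V ⊔ (S : Subgroup G))).map (V ⊔ (S : Subgroup G)).subtype).Normal :=
      inferInstance
    refine hSn ?_
    rwa [Sylow.coe_subtype, Subgroup.map_subgroupOf_eq_of_le le_sup_right] at h2
  set V := R ⊓ Subgroup.centralizer (R : Set G) with hVdef
  have hVn : V.Normal := inferInstance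
  have hVne : V ≠ ⊥ := by
    intro hb
    have : Nontrivial R := (Subgroup.nontrivial_iff_ne_bot _).mpr hRne
    have := hRp.center_nontrivial
    obtain ⟨⟨⟨z₀, hz₀⟩, hz₀c⟩, hz₀1⟩ := exists_ne (1 : Subgroup.center R)
    have hz₀V : z₀ ∈ V := ⟨hz₀, Subgroup.mem_centralizer_iff.mpr fun y hy =>
      congrArg Subtype.val (Subgroup.mem_center_iff.mp hz₀c ⟨y, hy⟩)⟩
    rw [hb, Subgroup.mem_bot] at hz₀V
    exact hz₀1 (Subtype.ext (Subtype.ext hz₀V))
  have hVS := hU V hVn inf_le_left
    (by rw [hVdef, ThompsonComplement.centre_map _ β.injective.injOn, hRβ]) hVne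
  have hRV : R ≤ V := by
    intro x hx
    have hx' : x ∈ V ⊔ (S : Subgroup G) := hVS ▸ Subgroup.mem_top x
    obtain ⟨a, ha, b, hb, rfl⟩ := Subgroup.mem_sup_of_normal_left.mp hx'
    have hbR : b ∈ R := by simpa using R.mul_mem (R.inv_mem ha.1) hx
    have hb1 : b = 1 := by
      have := (IsPGroup.disjoint_of_ne r s hrs _ _ hRp S.isPGroup').eq_bot ▸
        (Subgroup.mem_inf.mpr ⟨hbR, hb⟩ : b ∈ R ⊓ (S : Subgroup G))
      simpa using this
    rw [hb1, mul_one]; exact ha
  have hRc : IsMulCommutative R := ⟨⟨fun a b => Subtype.ext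
    (Subgroup.mem_centralizer_iff.mp (hRV b.2).2 a a.2)⟩⟩
  have hSne : (S : Subgroup G) ≠ ⊥ := fun hb => hSn (by rw [hb]; infer_instance)
  exact core hrs (h.twist g) hpd hRp hRc hRne hRβ S hSne hS
    (top_le_iff.mp (hVS ▸ sup_le_sup_right inf_le_left _)) hz

/-- A finite group with a splitting automorphism of prime exponent is nilpotent. -/
theorem isNilpotent_of_split {p : ℕ} [Fact p.Prime] {φ : MulAut G} (h : Split p φ) :
    Group.IsNilpotent G := aux _ rfl φ h

end Cfsg.Agent.FGS2.Splitting
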