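import Cfsg.Agent.Components.BaerSuzuki
import Cfsg.Agent.FGS2.CoprimeLift
import Cfsg.Agent.Core.Fitting
import Mathlib.Tactic

/-! A criterion for a normal Sylow 2-subgroup: no element of odd prime order is inverted. -/

set_option autoImplicit false

namespace Cfsg.Agent.FGS2

open Subgroup
open scoped Pointwise

variable {G : Type*} [Group G] [Finite G]

theorem isPGroup_two_sup {Q : Type*} [Group Q] [Finite Q] (s t : Q) (hs : s * s = 1) (ht : t * t = 1)
    (h : IsPGroup 2 (zpowers (s * t))) : IsPGroup 2 (zpowers s ⊔ zpowers t : Subgroup Q) := by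
  have hsinv : s⁻¹ = s := inv_eq_of_mul_eq_one_right hs
  have hconj : ∀ z ∈ zpowers (s * t), s * z * s⁻¹ ∈ zpowers (s * t) := by
    intro z hz
    obtain ⟨i, rfl⟩ := mem_zpowers_iff.1 hz
    rw [← conj_zpow, hsinv]
    refine zpow_mem ?_ i
    have e : s * (s * t) * s = (s * t)⁻¹ := by
      rw [mul_inv_rev, inv_eq_of_mul_eq_one_right ht, hsinv, ← mul_assoc, hs, one_mul]
    rw [e]; exact inv_mem (mem_zpowers _)
  have hnorm : zpowers s ≤ normalizer ((zpowers (s * t) : Subgroup Q) : Set Q) := by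
    rw [zpowers_le, mem_normalizer_iff]
    intro z
    refine ⟨hconj z, fun hz => ?_⟩
    have h2 := hconj _ hz
    rw [hsinv] at h2
    rwa [show s * (s * z * s) * s = (s * s) * z * (s * s) by group, hs, one_mul, mul_one] at h2
  have h2 : IsPGroup 2 (zpowers s) := by
    obtain ⟨i, -, hi⟩ := (Nat.dvd_prime_pow Nat.prime_two).1
      (orderOf_dvd_of_pow_eq_one (show s ^ 2 ^ 1 = 1 by rw [pow_one, pow_two, hs]))
    exact IsPGroup.of_card (n := i) (by rw [Nat.card_zpowers, hi])
  have hsup := h2.to_sup_of_normal_right' h hnorm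
  refine hsup.to_le (sup_le le_sup_left (zpowers_le.2 ?_))
  have : t = s * (s * t) := by rw [← mul_assoc, hs, one_mul]
  have hmem : s * (s * t) ∈ zpowers s ⊔ zpowers (s * t) :=
    mul_mem (mem_sup_left (mem_zpowers s)) (mem_sup_right (mem_zpowers _))
  rwa [← this] at hmem

/-- If no element of odd prime order is inverted by conjugation then the Sylow 2-subgroup is normal. -/
theorem sylow_two_normal
    (h : ∀ x : G, (orderOf x).Prime → orderOf x ≠ 2 → ∀ y : G, y * x * y⁻¹ ≠ x⁻¹) (P : Sylow 2 G) :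
    (P : Subgroup G).Normal := by
  have : Fact (Nat.Prime 2) := ⟨Nat.prime_two⟩
  classical
  obtain ⟨N, ⟨hNn, hN2⟩, hmax⟩ := (Set.toFinite {N : Subgroup G | N.Normal ∧ IsPGroup 2 N}).exists_maximal
    ⟨⊥, inferInstance, IsPGroup.of_bot⟩
  have hNP : N ≤ P := hN2.le_sylow_of_normal P
  have hodd : ¬ 2 ∣ N.index := by
    intro hd
    rw [index_eq_card] at hd
    obtain ⟨s, hs⟩ := exists_prime_orderOf_dvd_card' 2 hd
    have hss : s * s = 1 := by rw [← pow_two, ← hs, pow_orderOf_eq_one]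
    suffices hall : ∀ g : G ⧸ N, IsPGroup 2 ↥(zpowers s ⊔ (zpowers s).map (MulAut.conj g).toMonoidHom) by
      obtain ⟨M, hMn, hM2, hsM⟩ := Components.baer_suzuki (zpowers s) hall
      have hcomap : IsPGroup 2 (M.comap (QuotientGroup.mk' N)) :=
        hM2.comap_of_ker_isPGroup _ (by rw [QuotientGroup.ker_mk']; exact hN2)
      have hle : M.comap (QuotientGroup.mk' N) ≤ N :=
        hmax ⟨hMn.comap _, hcomap⟩ (fun x hx => by
          rw [mem_comap, QuotientGroup.mk'_apply, (QuotientGroup.eq_one_iff x).2 hx]; exact one_mem _)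
      obtain ⟨y, rfl⟩ := QuotientGroup.mk'_surjective N s
      have := hle (mem_comap.2 (hsM (mem_zpowers _)))
      rw [QuotientGroup.mk'_apply, (QuotientGroup.eq_one_iff y).2 this, orderOf_one] at hs
      exact absurd hs (by norm_num)
    intro g
    rw [MonoidHom.map_zpowers]
    set t := (MulAut.conj g).toMonoidHom s with ht
    have htt : t * t = 1 := by rw [ht, ← map_mul, hss, map_one]
    refine isPGroup_two_sup s t hss htt ?_
    by_contra hnot
    obtain ⟨r, hr, hrd, hr2⟩ : ∃ r, r.Prime ∧ r ∣ orderOf (s * t) ∧ r ≠ 2 := by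
      by_contra hcon
      push Not at hcon
      exact hnot (IsPGroup.of_card ((Nat.card_zpowers _).trans
        (Nat.eq_prime_pow_of_unique_prime_dvd (orderOf_pos (s * t)).ne' fun {d} hd hdd => hcon d hd hdd)))
    set u := (s * t) ^ (orderOf (s * t) / r) with hu
    have hou : orderOf u = r := orderOf_pow_orderOf_div (orderOf_pos _).ne' hrd
    have hsu : s * u * s⁻¹ = u⁻¹ := by
      rw [hu, ← conj_pow, ← inv_pow]
      congr 1
      rw [inv_eq_of_mul_eq_one_right hss, mul_inv_rev, inv_eq_of_mul_eq_one_right htt,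
        inv_eq_of_mul_eq_one_right hss, ← mul_assoc, hss, one_mul]
    obtain ⟨k, hk⟩ := IsPGroup.iff_card.1 hN2
    have hcopu : (orderOf u).Coprime (Nat.card N) := by
      rw [hou, hk]; exact ((Nat.coprime_primes hr Nat.prime_two).2 hr2).pow_right k
    obtain ⟨x, hx, hxo⟩ := exists_lift_orderOf N u hcopu
    obtain ⟨y, rfl⟩ := QuotientGroup.mk_surjective s
    rw [← hx] at hou hsu hcopu hxo
    have ho : orderOf (y * x * y⁻¹) = orderOf (x : G ⧸ N) := by
      rw [← MulAut.conj_apply, MulEquiv.orderOf_eq, hxo]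
    obtain ⟨n, hn, hnc⟩ := conj_lifts N hcopu hxo ho (by
      rw [QuotientGroup.mk_mul, QuotientGroup.mk_mul, QuotientGroup.mk_inv, hsu]
      exact inv_mem (mem_zpowers _))
    have hmem : (n⁻¹ * y) * x * (n⁻¹ * y)⁻¹ ∈ zpowers x := by
      have h1 : y * x * y⁻¹ ∈ MulAut.conj n • zpowers x := hnc ▸ mem_zpowers _
      rw [mem_pointwise_smul_iff_inv_smul_mem, MulAut.smul_def, MulAut.conj_inv_apply] at h1
      simpa [mul_assoc] using h1
    obtain ⟨i, hi⟩ := mem_zpowers_iff.1 hmem
    have hi2 : (x : G ⧸ N) ^ i = (x : G ⧸ N) ^ (-1 : ℤ) := by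
      rw [← QuotientGroup.mk_zpow, hi, zpow_neg_one, ← hsu]
      simp [(QuotientGroup.eq_one_iff n).2 hn]
    have hmod := zpow_eq_zpow_iff_modEq.1 hi2
    rw [← hxo, ← zpow_eq_zpow_iff_modEq, zpow_neg_one] at hmod
    rw [hmod] at hi
    exact h x (by rw [hxo, hou]; exact hr) (by rw [hxo, hou]; exact hr2) _ hi.symm
  rw [Core.sylow_eq_of_normal_of_not_dvd_index hN2 hodd P]
  exact hNn

end Cfsg.Agent.FGS2
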